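import Cfsg.Agent.Lib.StabCert.Chain
/-!
# The Hall-Janko group on the 315 lines: tables

Packed tables (lanes of 9 bits) of the four generators and of nine further words in them, a
stabiliser chain with orbit lengths 315, 160, 12, and suborbit data.
-/

set_option autoImplicit false

namespace Cfsg.Agent.Ico

open Cfsg.Agent.StabCert

/-- Tables of the 13 letters. -/
def letterTab : List ℕ := [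
  0x6d946c2f45dc64851429b62547b79087d392f119075c981d4895abf57e577b8e5fc343c0b98f189b28df63b3f0acf63674884ac0f2ccc92ab6942360ac36e098e22c1ac7644b48a8e942098f8e14c114922c28a51136182ec444961e203284d66909a93c7e52474b84f03989ac46ee001d184d41819160971e8a59a0d19ce42e038c9c0a86682355daac90940eb2a4e90a4e674a42246fc72a452cd12181d5ac0230280a40083d5e0158b4cdf2084392976452c208de81682c612b7453cd64e497b7e0d297924e48eb4f934f52d2fa69306817c4e583788a14551b3b8b57ad600cae02c64c9703b386d13032805c311ced218848c32641cdc926e0c07e169b904347cc529b801cbe710790c6a0e278bb34022ad380657ae816a8709559e028a3ea3cf63e441ff1c65830c6d33fc68ed00891e59c166ec0a60246cbbe1ce82d138da4b9d068d25b648a148f173189e8a786145983220aa9f0a0571115247640f0e6d7,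
  0x308d1240888068e5794196c6f201f866d295ae02ed6309719b38261dc36d41eb4138a64cab556950ab9e1e047c8b522af8aa1c7ee07f81e122f664c8e4493e1152ea285899fa1e2c196268a492a5c62367ccc9476219f4c05a053a936a48b23e68c97a8dc1d0c4f284e64f3f918bc645dca17f20594b1051e798d64b07082ddc821359a58a6a36ce8dc6c6a868e04b6b859732a654c4cc5b1934c8e798823634898ca05ec134247056e81d401bc0201b7d0b1d748aa3688808ee3080093de228c730515c90163e15898870153aa71e34554946dcb9dd03180016025913c0320d6ec1472bd9830586c063b118d390e2d5f4d8140264eed043643b265a3b052fb2b944a4532a154ac506e06071235e3c6080c58b6a0401778c4492f8683e3e834b28ce24d710899d3596acc847b840ba248b52a68b263033f8f0417a0d991360fbf0ba6790af8ea4e94aea2e8e5424e6ecb1f384e84805bacc45f8509d0d144fa80887a,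
  0x31c8ed7158c9732f7dc3872409a330927374010c05e70040a66f720396f2055a79449c7986d5e9b0f36d30a90e42dc618674c8b4638920024d03a93d24ad7c80e02152b1b52ca699b36060a3117018f48da0810d2309614a91261c5632b281ad772388a1d6727251dcd2558b2140ed89c3212aa00bbc001081c43df52e5c0cc54d69d1088243221188ac034150b2677283e6acb90ad8e84e70845d2058ca2e08228fa22288c12bf1da274747440d444c791f1c8c2291b15123f5aa2111c15d8264ea8d32a8572693eaa71065b41f0d3c83b0a3f9e4f47b3e1f4fc786f0c60eb5960f9d42d920d9fc3b730a1babf5e0b87834863dddf2917ca06af61ec357aee1d3fdb8be928dc52e7832d058eb1837e5a3f9cb0982c3623198b30241c8b6653615e62cf291b8ba64654d8ec4b2f998e04d9bb24a26a522414e9749ab128a14245d03138d20d0d1069826001400c2565265d4881af5013e02cf16c819612a8102c26d1,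
  0x3bdc0ec75ba2613473b91c735372c01aa45d0e48ebd51898b6a15c9354e2b28aa15672561e15c06322d432b2192d97e144099c6a4504a38f4570503d3458181a06c950280824994b1649c3a208f45a8445998e27e9d3b9c5389bb95cd3699ba5d53298bb5c33948168ca87129b4441a3b9483a484f8803e884e95050113e1d07c8c2185c0292419ac962e8885650401c4ae464a19c4a2c630c450d32e03c64ff1b8e9d4ad1e908a8192c9389e485c698859e8d2fc15f8132f3ee003749b10badf0442938c8799843cd06e18858f461a0a1e6056bc0a0cb08424ed1a6b9e554ca14c71e25518cbdb46c610916302873c9bb175a21914804da5d22a092b79f504842a4e0ce1fb5a3e7d0e3e6444c60ae076d4948f21844638d1eebc29b25ec4624be254bb4a4061a425bc4cdf0317b01ea8590298e6cd51499b66a0db653cd268a25aa4f11b622ab3630597d104c3f5987b8302e5aa50741e168f57c61fe03023f98a00,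
  0x4de65369c4d2733a9acc66730884b229259346639219744e2d299546e471f8f4b657159044a4f178c4a23b2f8d49245116bb7da8dc6f365a4d56d375acd169b6da0d872bbdceed71b99dceb72385d2ec713a1c0ea663158ccf6531180ce64b1d86cd6430584cb7a3e5eef57f3cde4f07fbf5f8f17d3e1ecfb80c16130d8141a150e8641e090f8042e11035e2917eaf532d570ac51add74a9502c156b3542d142be5ca894ab25eaa95ab658ab976a7041d0746a2c0583a792308852672a81496372f8a0da04119f898091b1cc821c1d9482e604f82cb830360c8f88a031092c10342187c752ca304051139d92824010a82681499208e5d311e0ee9c470b02a3d0da6c92183707d066625005125717a64fa394290c1a530798c6890348987e7a22029009d2d0f0345e4ba20c8332a0c4567f41254de2e48a2c0e4d270849e2d091c03c71390e1089e08941348d200501c6b0616d0e983089406654923c6a7b228003256,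
  0x4de65389ccd667369a4ea633091c7e53169744e372a92c5239218cc9a212c8bc9e5b1e8ecbe352495c56411288c8a5118673018acc66b0d8ccf6430588ca65b098ec974389cce372bbdc8e1773adc0ea763a5dae778bf1f4f8793c1ecfb7a3e5fefd7bbd5e6fe6fb5da4d56a371b2de68b59a6db6d375b0d080c261b058540a0d0e8443e170c81c12010755acd70ac5fabd74a9532d540b051add78a452ac976a756ad942be58ab972a2542d17aaa1d1a88c221499c1074258dcb0160e9e4aa0520870be28368106c732602476520b980467e212580c10341d50c3e15008268149920ba472486d36183720ccc1f428348653078d0c6904f9701630361f0648a10165185113a5048763c188ee9c470b07a1500a249457178e5327d2681c14444d234247040274a01135838d2260f1c480143d0fd16910d178b60c4c21cb43c01995109719990c2254f2100045159fc9c210c9586254171bd248f278b504953d8d47072,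
  0x4d669389d4da6f3299ce663308e48a3f2f8c4aa531a8ac9a4b17904425b1390c7a3b2c95c5a4f1b8a4a2332491c4a232e60b2996c761b2192c5613399ec4603319ac67d3c9f6fc78be5fef87bbc1ecfe79bd1faf5864260b008440a030b8243a1b0787c2a0d036b369bade68371b6d86bb51a6df68b49aad976b85d2ea72b99dce277bb1d6e774391c6e05a2815abc532f954b85ba9562a959a895ebb5aab948b9592b17ea853ac146bd5b2ad42ba3c064647232018a214159b8725b268344c47061d40e5c139fcac2a0a9a48018318e0943314230a87c088f93a743b968da9f438743e1a1a99d1c7a07a686c684b198043a209c42484458b49c7e028f4b2992b8252a3022a04b00a12880448848148ca4825a48022e219ad06171f9b0ec3c4026caa1c48a1820441d9e4627d280d04870149312e8a2f8dc265e46a4c425d310793882308b0106042a60e6162786c166f210388c043d8bd129e119a9288f01924a600,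
  0x4ea73329acda633899cd26f3095caa432091c8a532893c9a5b2c97cba4b248fc7a2d178e4762b148dc6a25138c466231075ba9c4e3743a5dcef70385cce7763b5cae47fbf9f0f97ebf1f4fb7a3d5e6f27b3dde2f06b35da2d06a355b8dd6934db4db6fb79b0d986436170a804060f0684c221d0f82c1205036633990ca66b3d92cb62b0182c461b198ec259ac974bb582c572b85bad97cbf5a2d57abc5128d56aa5028552a853a995caf52a9158ad4fa79369a4b25d24934e27530994aa51229047a39148b4321d068246a311089422150280379a4d66d351b0dc683d1f8f8783f9ecf27d399c4ea77381c8ec7432198c0623299cc2632e178b05a2e97cb25b259249a4f241289c4c2111888402390c82452b944a65529150ac501f8f86c37198c85c2f1309c46220f07c361a0b8581c0f058280c071e8f0582d0a85008051d0ec562a0904c06021c0e46a34180c452281289040210e8703019080441a0c040240200,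
  0x1ea12a8649dddc6c6b8fa3c0044aa57e636e981e8b7330ec04b304ba186410f20d69367921030807f194923388c2cacf7053814c226741db2141513c85390e440a83463102702c4286a54172aaf1d8958036072700b2c061344136d8444179ac4a9370c0e5c4c5b0314a2151c64072747ab80808890662a9e83260a04d1c0b911325d9f5a00f7204d81222c39cb2374cc7da4052ec9588467cc9a420d7e24928262dbfd4f0496ccd22207d138a23c76a81aaa4652d5ec6d122b12c23310a064730dc590c1d1e9a8b8297144db51b66cb1f6745f2f5444b5c22cd25a72805a3235d04a100e24321cd14559845b0f6e330a71c57c30625e471a1d6671b4d46a9a6f9d53e3a2fa3457313e31cf0793f1fe747b8c4be492929190e29d593e086c558bc602078521d02e356bf44ea12535a1a6f462a8ecb90a818200b452726e3f98115d2d365ba9bccf784adeb2081045824779c5e341f6a2420a97871ca506e7795e3a9b,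
  0x762a3d89c962c39418c220a02d9d4bf3328174393a46a50e7313814ca53457cc8f43c1c1ece298189fcbc9d4f158f32454914d8281532cc2bc4b34c1cac52c0dd62020a6d22ba492cd6e977d1a090ef31b7a08be5a9a610a75190190345201dae241d929e0931b1887cca13bd920e8272e088ab01a9a00ad092c5440c5404534aa36bf0982367354c0ec6b3858aed6a31a56bf114c1e8ea7bb4186fd0142564f15dba5190a6028604068083da4b68d4dd027642964861328a1820470690960464ac2c5d0f860b652e619c1dfd2e9637628c79a968ee874f8683ee30f1c908f39b27030579c06d00192e264a8da7146cb0db3a3c95c5515ce40235058fd9215918e982ee0b12df0b96fb9588bd9099c6e059336410c2353ec52b43f208de093c44a40660b93cd6d83e45c651e3749c14cf96a39fe8b32011981426be44cd1889f6508917c761b1924c88cae48c0b1b88f66801c02597a2a390e4439dea218347e5505,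
  0x1ecf8789d1f4f27e3d31cfec04087a221a4138a14848b070311a79a19b5127944100db71c6c3a858bc2d06190fc4d0e1b6191c82c66291489309c90c84c26091880c40083c00e509c8da3225d84974d007425c90878ba010b07485962d204ca9e00495b4c0a17808300cb79001c1a15803d1b2b690b61ea1405be166e008c98070301029c3275904204f9112912c214abf126ed132b448a16a29d230511a4158ec6aa5dfaa04a0954c2013a494b04250d9ae6034b7a63285e32058522c8e1b8701c99dbe556e93670bd94b3cee37370b4bcd615a266c4b1dbd934633115d92aa8c0d1d6fb171a2284e7f28e0ecb541a972be391856a8f8ecb4be4f924b8ac989a0fd382939a34a6ee198c61a8b4f4c8d65b2eabc78e738b363f0f7bb28cd2f4628a6e354fc6474765f92050499a8bc646515169531c2a4196851442b86050363a9371e36cb07c6f47264c90e2e3e9decc3a3fceb252639914ab863393b155c162663d,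
  0x2ac4e3d530d920b8568f9411080825b00200bd13ec076c45d32795b9646e17940984f797cc1e2da8330d6c18853458cdc0f908003a19381b3294093ca91b8bb260f1c2306908558d33ccf1215b90102e7acb630dd6fc88ae807191e4d0c4299a5c887fca8968292c0060038abda2c4e740e4881d6544cc4832893432646db31e70b09a242d1905c7643145ccd0fa8d479e4e037451ecba3f1e1a8ff1f999ae7071371cc4c9e9d21e64582d9bce45e490292c1752480866d092566a402d114ee41432a9defb1a2d17829873adced7162f9d8c70803560a10e26d52a34cb49229a7cb893b08592b94ea20a0781c984e2b00ca8022bc36ba7d1f0a035673aa0665290a0fcee263c19ad65a94cf0bd302dd7e4964184907a6843dcc2d60a4c1e756225cb2073b34e125f9ca9454255dcc66eb36f0847705061d0225c58cd918564a31650fc17b561a23029a42a68824b248d47c1b1971e1c0884033123f8c68e18bf4948b,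
  0x365ad3868349b6d46eb7e61315007c22be1a2a006aa5a9a1664e51988f6b605af078ba172b15e44102e5625d5295d4e71099280a8d1d240582b3a915045f4f980287a2b1190c3134825125907274f20d332486c3211868386c4b861306413a04b68e1292ca6749934666d39ab5674d86bce5b5346e4d9bd371c0042c844a148e047038f8528b4d9b49e78084b0151e1ec722c213e4824e6f929262a5a8c90c5f1a014a06b2a889da2650919943d2f8199dec0f61a68c6e9758650acb30bc8770a2e392180462229f25e183f52acc2c415cc263f8302ab790c01eac00029a0ee02a10a20c95a02184ec0e9a9f7264f3cd44e84cc89270282222288f72ac1f083893fc2e7370b2882a460c902424714396448643fa0d18571c8a2391fb19771d48c2c80cf19bc5532b1bbc1f88756c6c5509840b58a2873a01c64c7786d711797284d6ed113b92cea2ab34fb01879365abf4e3dde87e8faf5f46e6381a1a8c94aad9c77]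

/-- The letters beyond the fourth as words in the generators. -/
def letterDef : List (List ℕ) := [[3, 0, 1, 0, 2, 3, 0, 1], [1, 2, 0, 1, 3, 0, 1, 0], [3, 0, 1, 0, 2, 3, 0, 1, 3, 0, 1, 0, 2, 3, 0, 1, 1, 2, 0, 1, 3, 0, 1, 0, 3, 0, 1, 0, 2, 3, 0, 1, 3, 0, 1, 0, 2, 3, 0, 1, 1, 2, 0, 1, 3, 0, 1, 0, 3, 0, 1, 0, 2, 3, 0, 1], [1, 2, 0, 1, 3, 0, 1, 0, 3, 0, 1, 0, 2, 3, 0, 1, 1, 2, 0, 1, 3, 0, 1, 0, 3, 0, 1, 0, 2, 3, 0, 1], [0, 2, 1, 2, 1], [0, 3, 0, 1, 2], [0, 3, 0, 1, 0], [0, 2, 3, 1, 2], [0, 3, 0]]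

/-- Part of `chainWords0`. -/
def chainWords00 : List (List ℕ) := [
  [], [0], [1], [2], [3], [1, 0],
  [2, 0], [3, 0], [0, 1], [2, 1], [3, 1], [0, 2],
  [1, 2], [3, 2], [0, 3], [1, 3], [2, 3], [0, 1, 0],
  [3, 1, 0], [0, 2, 0], [1, 2, 0], [3, 2, 0], [0, 3, 0], [1, 3, 0],
  [2, 3, 0], [2, 0, 1], [3, 0, 1], [0, 2, 1], [1, 2, 1], [3, 2, 1],
  [0, 3, 1], [1, 3, 1], [2, 3, 1], [1, 0, 2], [2, 0, 2], [3, 0, 2],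
  [0, 1, 2], [2, 1, 2], [3, 1, 2], [0, 3, 2], [1, 3, 2], [2, 3, 2],
  [1, 0, 3], [2, 0, 3], [0, 1, 3], [2, 1, 3], [0, 2, 3], [3, 2, 3]]

/-- Part of `chainWords0`. -/
def chainWords01 : List (List ℕ) := [
  [2, 0, 1, 0], [3, 0, 1, 0], [0, 3, 1, 0], [1, 3, 1, 0], [2, 3, 1, 0], [1, 0, 2, 0],
  [2, 0, 2, 0], [3, 0, 2, 0], [0, 1, 2, 0], [2, 1, 2, 0], [3, 1, 2, 0], [0, 3, 2, 0],
  [2, 3, 2, 0], [1, 0, 3, 0], [2, 0, 3, 0], [0, 1, 3, 0], [0, 2, 3, 0], [1, 2, 3, 0],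
  [3, 2, 3, 0], [0, 2, 0, 1], [1, 2, 0, 1], [3, 2, 0, 1], [0, 3, 0, 1], [1, 3, 0, 1],
  [2, 3, 0, 1], [2, 0, 2, 1], [0, 1, 2, 1], [2, 1, 2, 1], [3, 1, 2, 1], [0, 3, 2, 1],
  [1, 3, 2, 1], [2, 3, 2, 1], [1, 0, 3, 1], [2, 0, 3, 1], [0, 1, 3, 1], [2, 1, 3, 1],
  [0, 2, 3, 1], [1, 2, 3, 1], [3, 2, 3, 1], [0, 1, 0, 2], [2, 1, 0, 2], [3, 1, 0, 2],
  [0, 2, 0, 2], [1, 2, 0, 2], [3, 2, 0, 2], [1, 3, 0, 2], [2, 3, 0, 2], [2, 0, 1, 2]]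

/-- Part of `chainWords0`. -/
def chainWords02 : List (List ℕ) := [
  [3, 0, 1, 2], [0, 2, 1, 2], [1, 2, 1, 2], [0, 3, 1, 2], [1, 3, 1, 2], [2, 3, 1, 2],
  [1, 0, 3, 2], [2, 0, 3, 2], [0, 1, 3, 2], [2, 1, 3, 2], [3, 2, 3, 2], [2, 1, 0, 3],
  [1, 2, 0, 3], [3, 0, 1, 3], [0, 2, 1, 3], [1, 2, 1, 3], [3, 2, 1, 3], [1, 0, 2, 3],
  [2, 0, 2, 3], [1, 3, 2, 3], [2, 3, 2, 3], [0, 2, 0, 1, 0], [1, 2, 0, 1, 0], [3, 2, 0, 1, 0],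
  [0, 3, 0, 1, 0], [2, 3, 0, 1, 0], [2, 0, 3, 1, 0], [2, 1, 3, 1, 0], [0, 2, 3, 1, 0], [3, 2, 3, 1, 0],
  [0, 1, 0, 2, 0], [3, 1, 0, 2, 0], [0, 2, 0, 2, 0], [3, 2, 0, 2, 0], [2, 0, 1, 2, 0], [3, 0, 1, 2, 0],
  [0, 2, 1, 2, 0], [3, 2, 1, 2, 0], [0, 3, 1, 2, 0], [1, 0, 3, 2, 0], [2, 0, 3, 2, 0], [0, 2, 3, 2, 0],
  [1, 2, 3, 2, 0], [0, 1, 0, 3, 0], [3, 1, 0, 3, 0], [1, 2, 0, 3, 0], [2, 0, 1, 3, 0], [1, 0, 2, 3, 0]]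

/-- Part of `chainWords0`. -/
def chainWords03 : List (List ℕ) := [
  [2, 0, 2, 3, 0], [0, 1, 2, 3, 0], [2, 1, 2, 3, 0], [3, 1, 2, 3, 0], [2, 3, 2, 3, 0], [1, 0, 2, 0, 1],
  [2, 0, 2, 0, 1], [3, 0, 2, 0, 1], [0, 1, 2, 0, 1], [3, 1, 2, 0, 1], [0, 3, 2, 0, 1], [1, 3, 2, 0, 1],
  [1, 0, 3, 0, 1], [2, 0, 3, 0, 1], [3, 2, 3, 0, 1], [0, 2, 0, 2, 1], [1, 2, 0, 2, 1], [3, 2, 0, 2, 1],
  [2, 0, 1, 2, 1], [0, 2, 1, 2, 1], [1, 2, 1, 2, 1], [3, 2, 1, 2, 1], [1, 0, 3, 2, 1], [2, 0, 3, 2, 1],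
  [0, 1, 3, 2, 1], [0, 2, 3, 2, 1], [1, 2, 3, 2, 1], [0, 1, 0, 3, 1], [2, 1, 0, 3, 1], [3, 1, 0, 3, 1],
  [3, 0, 1, 3, 1], [0, 2, 1, 3, 1], [1, 2, 1, 3, 1], [3, 2, 1, 3, 1], [0, 1, 2, 3, 1], [3, 1, 2, 3, 1],
  [1, 3, 2, 3, 1], [2, 0, 1, 0, 2], [3, 0, 1, 0, 2], [0, 2, 1, 0, 2], [1, 2, 1, 0, 2], [3, 2, 1, 0, 2],
  [0, 3, 1, 0, 2], [1, 3, 1, 0, 2], [2, 3, 1, 0, 2], [3, 0, 2, 0, 2], [3, 1, 2, 0, 2], [1, 3, 2, 0, 2]]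

/-- Part of `chainWords0`. -/
def chainWords04 : List (List ℕ) := [
  [2, 3, 2, 0, 2], [0, 1, 3, 0, 2], [0, 2, 3, 0, 2], [1, 2, 0, 1, 2], [0, 3, 0, 1, 2], [2, 3, 0, 1, 2],
  [2, 0, 2, 1, 2], [3, 0, 2, 1, 2], [0, 1, 2, 1, 2], [3, 1, 2, 1, 2], [2, 0, 3, 1, 2], [0, 1, 3, 1, 2],
  [0, 2, 3, 1, 2], [3, 2, 3, 1, 2], [1, 2, 0, 3, 2], [0, 2, 1, 0, 3], [0, 1, 2, 0, 3], [3, 1, 2, 0, 3],
  [1, 3, 0, 1, 3], [2, 3, 0, 1, 3], [1, 0, 2, 1, 3], [0, 1, 2, 1, 3], [3, 1, 2, 1, 3], [1, 3, 2, 1, 3],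
  [2, 1, 0, 2, 3], [3, 1, 0, 2, 3], [0, 2, 0, 2, 3], [3, 2, 0, 2, 3], [2, 1, 3, 2, 3], [1, 2, 3, 2, 3],
  [1, 0, 2, 0, 1, 0], [3, 0, 2, 0, 1, 0], [0, 1, 2, 0, 1, 0], [2, 1, 2, 0, 1, 0], [0, 3, 2, 0, 1, 0], [1, 3, 2, 0, 1, 0],
  [3, 2, 3, 0, 1, 0], [0, 2, 1, 3, 1, 0], [3, 2, 1, 3, 1, 0], [1, 0, 2, 3, 1, 0], [2, 0, 2, 3, 1, 0], [2, 3, 2, 3, 1, 0],
  [0, 3, 1, 0, 2, 0], [3, 0, 2, 0, 2, 0], [0, 3, 2, 0, 2, 0], [1, 3, 2, 0, 2, 0], [0, 3, 0, 1, 2, 0], [2, 0, 2, 1, 2, 0]]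

/-- Part of `chainWords0`. -/
def chainWords05 : List (List ℕ) := [
  [1, 3, 2, 1, 2, 0], [1, 0, 3, 1, 2, 0], [2, 1, 0, 3, 2, 0], [3, 1, 0, 3, 2, 0], [3, 0, 1, 0, 3, 0], [0, 3, 1, 0, 3, 0],
  [2, 3, 1, 0, 3, 0], [0, 2, 0, 1, 3, 0], [3, 2, 0, 1, 3, 0], [0, 1, 0, 2, 3, 0], [3, 1, 0, 2, 3, 0], [1, 2, 0, 2, 3, 0],
  [3, 2, 0, 2, 3, 0], [2, 0, 1, 2, 3, 0], [3, 0, 1, 2, 3, 0], [0, 2, 1, 2, 3, 0], [3, 2, 1, 2, 3, 0], [0, 3, 1, 2, 3, 0],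
  [2, 3, 1, 2, 3, 0], [0, 2, 0, 2, 0, 1], [1, 2, 0, 2, 0, 1], [3, 0, 1, 2, 0, 1], [1, 3, 1, 2, 0, 1], [0, 1, 0, 3, 0, 1],
  [3, 1, 0, 3, 0, 1], [1, 3, 2, 3, 0, 1], [1, 2, 0, 1, 2, 1], [1, 0, 2, 1, 2, 1], [1, 3, 2, 1, 2, 1], [1, 0, 2, 3, 2, 1],
  [2, 0, 1, 0, 3, 1], [3, 2, 1, 0, 3, 1], [1, 0, 2, 1, 3, 1], [3, 0, 2, 1, 3, 1], [0, 1, 2, 1, 3, 1], [3, 1, 2, 1, 3, 1],
  [2, 1, 3, 2, 3, 1], [0, 2, 0, 1, 0, 2], [0, 3, 0, 1, 0, 2], [3, 0, 2, 1, 0, 2], [0, 1, 2, 1, 0, 2], [0, 3, 2, 1, 0, 2],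
  [2, 3, 2, 1, 0, 2], [1, 0, 3, 1, 0, 2], [1, 2, 3, 2, 0, 2], [3, 0, 1, 3, 0, 2], [1, 0, 3, 0, 1, 2], [0, 2, 0, 2, 1, 2]]

/-- Part of `chainWords0`. -/
def chainWords06 : List (List ℕ) := [
  [3, 2, 0, 2, 1, 2], [1, 3, 0, 2, 1, 2], [1, 2, 0, 3, 1, 2], [2, 3, 1, 2, 0, 3], [2, 1, 3, 2, 1, 3], [1, 2, 1, 0, 2, 3],
  [1, 2, 1, 3, 2, 3], [0, 1, 0, 2, 0, 1, 0], [2, 1, 0, 2, 0, 1, 0], [1, 2, 1, 2, 0, 1, 0], [1, 0, 2, 1, 3, 1, 0], [2, 1, 0, 2, 3, 1, 0],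
  [1, 2, 3, 2, 3, 1, 0], [1, 0, 3, 0, 1, 2, 0], [0, 2, 0, 2, 1, 2, 0], [0, 2, 1, 0, 3, 2, 0], [1, 2, 1, 0, 3, 2, 0], [0, 2, 3, 1, 0, 3, 0],
  [1, 2, 3, 1, 0, 3, 0], [0, 3, 0, 1, 2, 3, 0], [2, 1, 2, 0, 1, 2, 1], [2, 1, 3, 2, 1, 2, 1], [0, 1, 0, 2, 1, 3, 1], [2, 0, 1, 2, 1, 3, 1],
  [2, 0, 3, 0, 1, 0, 2], [2, 3, 0, 2, 1, 0, 2], [0, 2, 3, 2, 1, 0, 2]]

/-- Transversal of level 0. -/
def chainWords0 : List (List ℕ) :=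
  List.flatten [chainWords00, chainWords01, chainWords02, chainWords03, chainWords04, chainWords05, chainWords06]

/-- Part of `chainCert0`. -/
def chainCert00 : List (ℕ × List ℕ) := [
  (1, []), (0, []), (8, []), (11, []), (14, []), (17, []),
  (19, []), (22, []), (2, []), (27, []), (30, []), (3, []),
  (36, []), (39, []), (4, []), (44, []), (46, []), (5, []),
  (50, []), (6, []), (56, []), (59, []), (7, []), (63, []),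
  (64, []), (67, []), (70, []), (9, []), (74, []), (77, []),
  (10, []), (82, []), (84, []), (87, []), (90, []), (62, []),
  (12, []), (97, []), (99, []), (13, []), (104, []), (102, [7, 5, 7, 7]),
  (72, [7, 7, 5, 4, 5]), (55, []), (15, []), (110, []), (16, []), (66, [])]

/-- Part of `chainCert0`. -/
def chainCert01 : List (ℕ × List ℕ) := [
  (117, []), (120, []), (18, []), (51, [7, 5, 4]), (124, []), (126, []),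
  (128, []), (43, []), (20, []), (132, []), (134, []), (21, []),
  (137, []), (139, []), (35, []), (23, []), (24, []), (145, []),
  (47, []), (25, []), (152, []), (154, []), (26, []), (157, [5]),
  (42, [4]), (159, []), (28, []), (163, []), (76, [7, 7, 5, 5, 7]), (29, []),
  (168, []), (169, []), (171, []), (151, []), (31, []), (175, []),
  (32, []), (178, []), (158, []), (33, []), (183, []), (186, []),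
  (34, []), (116, [4, 7, 6, 4, 4, 5]), (160, [4, 4, 7, 7, 6, 5]), (193, []), (194, []), (164, [6, 5, 6, 6, 5])]

/-- Part of `chainCert0`. -/
def chainCert02 : List (ℕ × List ℕ) := [
  (196, []), (37, []), (200, []), (38, []), (203, []), (204, []),
  (41, [7, 4, 7, 5, 4]), (189, []), (40, []), (161, [7, 4, 7, 7, 5]), (191, [6, 7, 6, 4, 5, 4]), (207, []),
  (208, []), (174, []), (45, []), (213, []), (170, [6, 7, 5, 5, 7, 7]), (113, [6, 7, 5, 6, 4, 5]),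
  (218, []), (172, [5, 5, 4, 4, 5, 4, 4]), (91, [4, 4, 7, 7, 6, 5]), (48, []), (224, []), (226, []),
  (49, []), (216, [5, 4, 6, 4, 6, 5]), (223, []), (229, []), (52, []), (228, []),
  (53, []), (234, []), (54, []), (236, []), (209, [6, 5, 5, 4, 4, 5]), (238, []),
  (57, []), (180, [5, 4, 4, 6, 7]), (58, []), (231, [5, 4, 4, 6, 7]), (235, []), (60, []),
  (219, [5, 6, 7, 5, 7, 6, 4]), (61, []), (245, []), (205, [7, 7, 5, 6, 7, 6]), (247, []), (249, [])]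

/-- Part of `chainCert0`. -/
def chainCert03 : List (ℕ × List ℕ) := [
  (190, [4, 4, 7, 7, 6, 5]), (65, []), (255, []), (257, []), (192, []), (252, [5, 7, 4, 6, 5]),
  (259, []), (81, []), (68, []), (232, [6, 4, 4, 5, 4]), (69, []), (237, [7]),
  (263, []), (71, [5, 5, 5]), (86, []), (73, []), (92, [4, 7, 6, 4, 4, 5]), (105, [4, 5, 7, 7]),
  (206, [4, 4, 6, 5, 7, 5]), (75, []), (95, [5, 6, 5, 6, 6]), (165, [7, 7, 5, 5, 7]), (179, [5, 7, 4, 5, 6, 4]), (260, [7, 6, 6, 4]),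
  (78, []), (79, []), (112, [4, 6, 4, 6, 4]), (80, []), (115, [7, 6, 5, 4, 5, 5]), (173, [7, 5, 4]),
  (109, []), (83, []), (274, []), (221, [7, 4, 7, 5, 4]), (85, []), (166, [5, 7, 5, 4, 4]),
  (133, [7, 5, 7, 4, 5]), (277, []), (278, []), (88, []), (280, []), (281, []),
  (89, []), (220, [4, 6, 4, 6, 4, 5]), (258, [4, 4, 7, 7, 6, 5]), (103, []), (144, [4, 7, 6, 4, 4, 5]), (106, [7, 7, 5, 6, 7, 6])]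

/-- Part of `chainCert0`. -/
def chainCert04 : List (ℕ × List ℕ) := [
  (148, []), (93, []), (94, []), (267, [6, 5, 6, 6, 5]), (96, []), (251, [7, 5, 7, 5, 5, 4]),
  (287, []), (199, [6, 7, 5, 6, 4, 5]), (98, []), (264, [7, 7, 5, 5, 7]), (225, [6, 4, 5, 7, 5, 7]), (100, []),
  (101, []), (141, [6, 7, 6, 4, 5, 4]), (162, [6, 7, 5, 4, 5, 6, 4]), (107, []), (108, []), (130, [5, 6, 6, 4, 4, 6]),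
  (210, [7, 5, 4]), (273, []), (256, [6, 5, 6, 5, 4]), (111, []), (214, [4, 4, 4, 4, 4]), (269, [6, 7, 5, 5, 7, 7]),
  (121, [5, 4, 5, 7, 4, 4]), (233, [5, 6, 7, 4, 7, 5, 4]), (114, []), (138, [7, 5, 4, 5, 7, 4, 4]), (187, [6, 7, 5, 6, 7, 6, 4]), (177, [7, 5, 7, 7]),
  (295, []), (122, []), (118, []), (202, [4, 5, 4, 4, 4, 5]), (119, []), (292, [7, 7, 4, 4, 4, 4]),
  (125, []), (123, []), (248, [7, 5, 4]), (135, [7, 5, 7, 4, 5]), (153, [4, 5, 4, 6]), (217, [4, 6, 7, 4, 7, 4]),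
  (127, []), (136, []), (129, []), (155, [7, 7]), (131, []), (302, [])]

/-- Part of `chainCert0`. -/
def chainCert05 : List (ℕ × List ℕ) := [
  (265, [5, 4, 4, 6, 7]), (285, [4, 7, 7, 4, 4, 6]), (303, []), (298, [4, 7, 6, 5, 5, 5]), (289, [4, 7, 4, 7, 5, 5]), (140, []),
  (305, []), (142, []), (230, [7, 5, 4]), (143, []), (270, [7, 7, 5, 4, 5]), (197, [6, 7, 4, 6, 4]),
  (149, [7, 6, 4, 4, 5]), (286, [5, 6, 5, 4, 5]), (307, []), (146, []), (212, [7, 4, 4, 6, 7]), (147, []),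
  (188, [4, 7, 6, 4, 4, 5]), (150, []), (167, [4, 5, 4, 5, 5, 5]), (293, [7, 4, 4, 6, 5, 5]), (299, [5, 5, 7, 5, 5, 5]), (156, []),
  (201, [7, 7, 5, 5, 7]), (240, [7, 5, 7, 4, 5]), (275, [5, 6, 7, 5, 7]), (195, [5, 6, 5, 6, 6]), (308, [5, 5, 5, 4, 4, 4]), (215, [4, 6, 4, 6, 4]),
  (250, [4]), (271, [7, 5, 4]), (310, []), (211, []), (176, []), (266, [7, 5, 5, 7, 6, 4]),
  (290, [6, 5, 6, 4, 7, 7]), (181, []), (182, []), (312, []), (184, []), (185, []),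
  (314, []), (294, [4, 6, 4, 6, 4, 5]), (301, [7, 7, 4, 6, 6, 4]), (241, [6, 5, 7, 6, 4, 4, 4]), (253, [7, 4, 7, 7, 5, 6]), (198, [])]

/-- Part of `chainCert0`. -/
def chainCert06 : List (ℕ × List ℕ) := [
  (288, [6, 7, 5, 6, 4, 5]), (244, [4, 5, 5, 7, 5]), (276, [7, 6, 5, 6, 4]), (306, [5, 7, 4, 6, 4, 4, 4]), (227, [6, 4, 5, 6, 7]), (261, [7, 4, 7, 6, 6, 4]),
  (283, [6, 7, 5, 6, 7, 6, 4]), (222, []), (300, [6, 7, 5, 6, 6]), (311, [7, 5, 5, 7, 5]), (243, [6, 6, 4, 6, 4, 4]), (262, [4, 7, 4, 7, 4]),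
  (296, [5, 4, 5, 5, 4]), (284, [6, 4, 5, 5]), (239, []), (242, []), (304, [4, 7, 5]), (246, []),
  (291, [4, 4, 6, 7, 6, 4]), (254, []), (268, [7, 5, 7, 4, 5, 4]), (313, [4, 6, 6, 5, 7, 4]), (272, []), (297, [7, 5, 4, 4, 5, 4]),
  (279, []), (309, [4, 6, 6, 5, 7, 4]), (282, []), (2, []), (5, []), (0, []),
  (12, []), (15, []), (1, []), (20, []), (23, []), (17, []),
  (28, []), (31, []), (33, []), (3, []), (40, []), (42, []),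
  (4, []), (16, [6, 7, 5, 6, 4, 5]), (8, []), (51, []), (53, []), (6, [])]

/-- Part of `chainCert0`. -/
def chainCert07 : List (ℕ × List ℕ) := [
  (52, [5, 4, 4, 6, 7]), (61, []), (7, []), (65, []), (68, []), (71, []),
  (49, [5, 5, 5]), (9, []), (78, []), (80, []), (10, []), (85, []),
  (11, []), (91, []), (93, []), (87, []), (98, []), (100, []),
  (102, []), (13, []), (104, [7, 5, 7, 7]), (14, []), (108, []), (72, [7, 7, 5, 4, 5]),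
  (111, []), (113, []), (115, []), (118, []), (27, [5]), (50, [7, 5, 4]),
  (18, []), (21, [7, 5, 7, 4, 5]), (19, []), (99, [4, 6, 5, 7, 4]), (105, [5, 7, 4, 7, 6, 5]), (126, []),
  (57, [5, 5]), (125, [5, 4, 4, 6, 7]), (135, []), (138, []), (22, []), (141, []),
  (139, []), (143, []), (24, []), (122, [6, 7, 5, 6, 7, 6, 4]), (149, []), (25, [])]

/-- Part of `chainCert0`. -/
def chainCert08 : List (ℕ × List ℕ) := [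
  (155, []), (156, []), (26, []), (44, [4]), (160, []), (120, [5, 5, 5]),
  (164, []), (132, [6, 6, 5, 6, 4, 4, 4]), (166, []), (29, []), (170, []), (30, []),
  (114, [4, 6, 4, 6, 4, 5]), (171, []), (176, []), (140, [4]), (32, []), (180, []),
  (36, []), (184, []), (187, []), (177, [5, 7, 4, 5]), (34, []), (191, []),
  (35, []), (190, [6, 7, 6, 4, 5, 4]), (195, []), (142, [7, 6, 5, 7, 5]), (107, [5, 7, 4, 6, 7]), (37, []),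
  (54, [7, 4, 6, 7, 4]), (38, []), (121, [7, 4, 4, 7, 4, 4]), (39, []), (206, []), (41, [7, 4, 7, 5, 4]),
  (55, [4, 4, 5, 5]), (159, [5, 5, 7, 5, 5]), (97, [4, 5, 7, 4, 4]), (43, []), (210, []), (212, []),
  (45, []), (215, []), (46, []), (81, [6, 7, 5, 6, 7, 6, 4]), (47, []), (221, [])]

/-- Part of `chainCert0`. -/
def chainCert09 : List (ℕ × List ℕ) := [
  (222, []), (48, []), (227, []), (74, [5]), (101, [7, 4, 7, 5, 4, 4]), (66, [4, 6, 4, 6, 4, 5]),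
  (130, [5, 7, 5, 7, 6]), (231, []), (58, [7, 5, 7, 4, 5]), (56, []), (167, [5, 7, 7]), (203, [4, 6, 5, 7, 4]),
  (237, []), (123, [4, 4, 7, 6, 5, 6]), (148, [6, 4, 5, 5]), (76, [4, 6, 4, 6]), (240, []), (241, []),
  (59, []), (219, [4, 4, 4, 6, 7, 5]), (235, [5, 6, 6, 4, 4, 6]), (60, []), (63, []), (84, [7, 7, 5, 4, 5]),
  (62, []), (96, [4, 6, 4, 4, 6]), (64, []), (251, []), (249, []), (146, [4, 4, 4, 4, 4]),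
  (226, [6, 7, 5, 6, 7, 6, 4]), (131, [7, 7, 4, 6, 6, 4]), (67, []), (260, []), (211, [4, 5, 4, 6, 5, 5]), (252, [5, 7, 4, 6, 5]),
  (262, []), (236, [7]), (69, []), (70, []), (263, [5, 5, 5]), (265, []),
  (106, [4, 7, 4, 7, 5, 4]), (73, []), (208, [7, 5, 5, 5]), (266, []), (267, []), (75, [])]

/-- Part of `chainCert0`. -/
def chainCert010 : List (ℕ × List ℕ) := [
  (268, []), (77, []), (127, [7, 5, 5, 5]), (179, [5, 7, 4, 5, 6, 4]), (269, []), (79, []),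
  (82, []), (223, [5, 6, 6, 4, 4, 6, 4]), (264, []), (174, [7, 5, 4]), (272, []), (83, []),
  (90, [4, 6, 6, 4, 5, 5]), (245, [4]), (168, [5, 7, 5, 4, 4]), (86, []), (232, [7, 5, 5, 4, 5]), (248, [7, 6, 5, 7, 5]),
  (254, [6, 5, 5, 4]), (88, []), (185, [7, 4, 7, 5, 7, 7]), (283, []), (89, []), (278, [5, 4, 5, 6, 5]),
  (275, [5, 7, 4, 5]), (94, [7, 7, 5, 6, 7, 6]), (92, []), (284, []), (205, [7, 7, 5, 6, 7, 6]), (197, [4, 5, 6, 4, 4, 5]),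
  (95, []), (286, []), (194, [5, 5, 5, 4, 4, 6]), (239, []), (289, []), (207, [5, 7, 4, 6, 7]),
  (201, [6, 7, 5, 6, 4, 5]), (290, []), (128, [7, 4, 6, 7, 4]), (261, [6, 7, 6, 6, 4, 4]), (193, [6, 7, 6, 4, 5, 4]), (103, []),
  (200, [4, 5, 7, 4, 4]), (161, [5, 7, 7]), (243, []), (109, []), (151, [7, 5, 6, 4, 4, 5]), (110, [])]

/-- Part of `chainCert0`. -/
def chainCert011 : List (ℕ × List ℕ) := [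
  (256, [6, 5, 6, 5, 4]), (255, [7, 4, 4, 6, 7]), (112, []), (293, []), (250, []), (273, [6, 7, 4, 7, 5]),
  (136, [4, 6, 6, 4, 5, 5, 4]), (294, []), (116, []), (117, []), (172, [4, 4, 7, 4, 6]), (295, []),
  (297, []), (147, [4, 6, 4, 6, 4, 5]), (119, []), (285, [5, 6, 7, 4, 7, 4]), (298, []), (258, [7, 6, 4, 5, 4]),
  (124, []), (181, [7, 6, 6, 4, 4, 4]), (300, []), (259, [7, 5, 6, 5, 4, 5]), (137, [6, 5, 5, 4, 4, 5]), (154, [7, 7]),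
  (129, []), (301, []), (198, []), (133, []), (134, []), (304, []),
  (209, []), (244, [7, 5, 4]), (178, [7, 7, 5, 4, 5]), (306, []), (253, [6, 6, 4, 5, 4, 4]), (182, [4, 6, 4, 4, 6]),
  (145, []), (217, []), (144, []), (152, [7, 6, 4, 4, 5]), (247, [7, 6, 5, 4, 4, 6]), (183, [7, 6, 4, 4, 6, 7]),
  (214, [6, 5, 6, 5, 4]), (213, [7, 4, 4, 6, 7]), (292, [6, 7, 5, 5, 5, 4]), (230, [4, 6, 6, 5, 7]), (234, [6, 4, 4, 7, 4, 6]), (150, [])]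

/-- Part of `chainCert0`. -/
def chainCert012 : List (ℕ × List ℕ) := [
  (204, [5, 4, 4, 6, 5, 4]), (153, []), (157, [5]), (173, []), (158, []), (162, []),
  (163, []), (165, []), (169, []), (296, [7, 4, 4, 7, 7, 4, 4]), (282, [7, 4, 6, 4, 6, 4]), (175, []),
  (218, [4, 5, 4, 6, 4, 6]), (310, []), (189, [4, 6, 6, 4, 5, 5]), (311, [5, 6, 5, 5, 7, 5]), (299, [4, 4, 7, 6, 5, 6]), (188, [5, 7, 7, 4, 4]),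
  (305, [4, 5, 5, 7, 5]), (307, [6, 5, 5, 4]), (288, [6, 5, 5, 5, 4, 4]), (271, [6, 7, 5, 5, 7]), (186, []), (192, []),
  (228, [7, 4, 7, 6, 4]), (196, []), (309, [4, 5, 6, 7, 4, 5, 4]), (281, [4, 4, 6, 6, 4, 6]), (199, []), (202, []),
  (312, [4, 4, 6, 5, 7]), (257, [5, 6, 7, 4, 4]), (216, []), (220, []), (224, []), (270, [4, 5, 7, 4, 5, 7]),
  (225, []), (229, []), (277, [5, 7, 5, 7, 6]), (233, []), (238, []), (313, [6, 6, 4, 6, 7, 4]),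
  (303, [4, 7, 5]), (242, []), (279, [4, 7, 4, 7, 5, 5]), (246, []), (280, [7, 6, 4, 4, 6, 7]), (308, [5, 5])]

/-- Part of `chainCert0`. -/
def chainCert013 : List (ℕ × List ℕ) := [
  (287, [5, 6, 7, 4, 5]), (274, []), (276, [7, 5, 5, 7, 4, 6]), (291, [4, 7, 4, 6, 7]), (302, [4, 4, 4, 6, 6, 5]), (314, [6, 7, 5, 6, 4, 5]),
  (3, []), (6, []), (9, []), (0, []), (16, []), (5, [5, 5]),
  (1, []), (24, []), (25, []), (2, []), (32, []), (34, []),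
  (37, []), (41, []), (43, []), (45, []), (4, []), (48, []),
  (52, []), (54, []), (57, []), (60, []), (62, []), (23, [4, 4, 4, 4, 4]),
  (7, []), (8, []), (72, []), (73, []), (75, []), (79, []),
  (81, []), (83, []), (10, []), (88, []), (11, []), (94, []),
  (95, []), (12, []), (101, []), (103, []), (105, []), (13, [])]

/-- Part of `chainCert0`. -/
def chainCert014 : List (ℕ × List ℕ) := [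
  (107, []), (14, []), (69, [6, 5, 5, 4, 4, 5]), (15, []), (114, []), (116, []),
  (17, []), (121, []), (122, []), (123, []), (18, []), (102, [6, 5, 7, 4, 4, 7]),
  (19, []), (127, [4, 6, 7, 4, 7, 5]), (130, []), (20, []), (58, [6, 4, 6, 4, 6, 4]), (136, []),
  (21, []), (61, [7, 7, 5, 5, 7]), (22, []), (142, []), (144, []), (146, []),
  (148, []), (150, []), (119, [7, 5, 6, 4, 4, 5]), (44, [5, 6, 6, 4, 4, 6]), (157, []), (112, [7, 5, 6, 6, 5, 6]),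
  (26, []), (27, []), (162, []), (28, []), (108, [7, 7, 4, 4, 4, 4]), (167, []),
  (165, [5, 4, 4, 6, 7, 4]), (29, []), (172, []), (30, []), (151, [6, 5, 5, 4, 4, 5]), (31, []),
  (175, [5, 6, 6, 4, 4, 6]), (110, [4, 6, 4, 6, 4, 5]), (179, [5, 4, 4, 6, 7, 4]), (181, []), (33, []), (188, [])]

/-- Part of `chainCert0`. -/
def chainCert015 : List (ℕ × List ℕ) := [
  (128, []), (129, [4, 7, 6, 4, 4, 5]), (192, []), (139, [4, 5, 5, 5]), (35, []), (36, []),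
  (197, []), (198, []), (164, []), (202, []), (154, [7, 4, 7, 7, 5]), (38, []),
  (53, [5, 6, 4, 7, 5, 6, 4]), (39, []), (166, [5, 4, 4, 5, 4, 4]), (40, []), (149, [7, 6, 4, 4, 5]), (42, []),
  (76, [6, 4, 5, 6, 7]), (211, []), (85, [6, 7, 5, 6, 7, 6, 4]), (111, [6, 7, 5, 6, 4, 5]), (71, [5, 6, 4, 4, 5]), (216, []),
  (46, []), (220, []), (47, []), (210, [5, 7, 4, 5, 7]), (225, []), (68, [4, 5, 4, 6, 5, 5]),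
  (120, [5, 5]), (49, []), (50, []), (51, []), (232, []), (233, []),
  (138, [5, 5, 7, 7]), (55, [7, 4, 4, 7, 4, 4, 4]), (90, []), (91, [4, 4, 7, 7, 6, 5]), (56, []), (131, [6, 4, 6, 4, 6, 4]),
  (239, []), (163, [6, 7, 6, 5]), (208, [6, 5, 5, 4, 4, 5]), (242, []), (59, []), (191, [6, 7, 6, 4, 5, 4])]

/-- Part of `chainCert0`. -/
def chainCert016 : List (ℕ × List ℕ) := [
  (126, [7, 5, 5]), (93, [7, 4, 7, 6, 5, 4]), (246, []), (201, [6, 4, 5, 6, 7]), (63, []), (244, [4, 5, 6, 4, 4, 5]),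
  (64, []), (253, []), (65, []), (258, []), (66, []), (106, [5, 7, 4, 6, 5]),
  (67, []), (82, [5, 6, 6, 4, 4, 6]), (228, [6, 4, 4, 5, 4]), (261, [6, 4, 6, 4, 6, 4]), (100, [4, 5, 7, 7]), (257, [7, 4, 6, 5, 5, 4]),
  (224, [7, 6, 5, 4, 4, 4, 4]), (70, []), (221, [7, 5, 6, 6, 5, 6]), (259, []), (236, [4, 7, 6, 4, 4, 5]), (177, [5, 6, 6, 4, 4, 6]),
  (74, []), (133, [4, 6, 6, 5, 4]), (98, []), (78, [4, 5, 4, 4, 4, 4]), (104, [5, 6, 6, 4, 5, 6]), (77, []),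
  (238, [6, 6, 5, 6, 4, 4, 4]), (174, [5, 6, 6, 4, 4, 6]), (207, [7, 5, 7, 4]), (270, []), (80, []), (249, [4, 7, 5, 4]),
  (169, [6, 5, 5, 4, 4, 5]), (84, [6, 5, 5, 4, 4, 5]), (254, [7, 7, 5, 4, 5]), (161, [6, 5, 5, 4, 4, 5]), (203, [7, 7, 6, 6, 4]), (86, [4, 5, 4, 4, 4, 4]),
  (276, []), (87, []), (275, [5, 7, 7, 6, 4, 4]), (212, [5, 4, 6, 4, 6]), (229, [7, 5, 5, 4, 5]), (282, [])]

/-- Part of `chainCert0`. -/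
def chainCert017 : List (ℕ × List ℕ) := [
  (243, [7, 4, 4, 7, 4, 4]), (283, [7, 4, 6, 4, 4, 4, 4]), (89, []), (219, []), (194, [4, 7, 6, 4, 4, 5]), (137, [7, 7, 5, 6, 7, 6]),
  (92, []), (271, [4, 5, 4, 6, 5, 5]), (190, [4, 4, 7, 7, 6, 5]), (277, [5, 6, 5, 6, 6]), (199, [6, 7, 5, 6, 4, 5]), (96, []),
  (97, []), (196, [6, 7, 5, 6, 4, 5]), (287, [5, 6, 5, 6, 6]), (141, [7, 7, 4, 4, 4, 4]), (99, []), (178, [5, 7, 6, 4, 5, 6]),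
  (263, [4, 4, 7, 4, 4, 6, 4]), (205, [6, 7, 5, 6, 4, 5]), (290, [5, 4, 4, 4, 6, 6]), (170, [4, 7, 5, 7, 4, 4]), (134, [5, 6, 6, 4, 4, 6]), (291, []),
  (117, [6, 7, 5, 6, 7, 6]), (109, []), (183, [6, 7, 4, 7, 5, 4]), (230, [7, 7, 4, 4, 6, 5]), (247, [4, 6, 6, 5, 7, 4]), (292, []),
  (113, []), (265, [6, 5, 6, 7, 5, 7]), (234, [4, 6, 7, 4, 7, 5]), (189, []), (115, []), (158, [5, 6, 4, 4, 5]),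
  (296, []), (293, [5, 6, 5, 5, 4, 5]), (156, [7, 5, 5, 4, 5, 5, 4]), (118, []), (240, [5, 4, 4, 7, 4, 4, 4]), (297, [4, 5, 4, 6, 5, 5]),
  (152, [4, 5, 4, 6]), (184, [7, 6, 6, 4, 4, 4]), (213, [7, 7, 4, 4, 6, 5]), (299, []), (124, []), (125, [])]

/-- Part of `chainCert0`. -/
def chainCert018 : List (ℕ × List ℕ) := [
  (218, [7, 4, 4, 7, 4, 4, 4]), (252, []), (160, [4, 4, 7, 7, 6, 5]), (298, [5, 4, 6, 5, 6]), (168, [4, 6, 4, 6]), (132, []),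
  (226, [5, 7, 4, 4, 6]), (245, [5, 5, 7, 7, 4, 6]), (135, []), (186, [7, 4, 7, 5, 4, 4]), (143, [5, 5, 5, 4, 4, 6]), (241, [6, 4, 6, 4]),
  (140, []), (214, [4, 6, 6, 5, 7, 4]), (304, [7, 4, 5, 6, 4]), (173, [7, 5]), (294, [7, 5, 6, 7, 5]), (251, [6, 4, 7, 5, 6, 6]),
  (235, []), (145, []), (176, [4]), (281, [4, 7, 6, 4, 4, 5]), (267, [6, 7, 6, 5]), (155, [5, 4, 6, 4, 4, 5, 5]),
  (147, []), (159, []), (273, [5, 7, 4, 5, 7]), (153, [6, 4, 6, 4, 6, 4]), (295, [5, 6, 7, 5, 7, 5]), (204, [4, 4, 7, 4, 4, 6, 4]),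
  (288, [4, 4, 7, 4, 4, 6, 4]), (217, [5, 5, 7, 4, 5, 5]), (308, []), (256, [4, 6, 6, 5, 4]), (309, []), (307, [5, 6, 6, 4, 4, 6]),
  (171, []), (193, [7, 5, 6, 4, 4, 5]), (305, [4, 4, 7, 5]), (260, [6, 7, 5, 6, 7, 6]), (311, []), (182, [4, 6, 4, 5, 5, 4]),
  (180, []), (195, [6, 5, 6, 6, 5]), (312, []), (313, []), (280, [5, 5]), (255, [4, 4, 7, 7, 6, 5])]

/-- Part of `chainCert0`. -/
def chainCert019 : List (ℕ × List ℕ) := [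
  (185, []), (187, [4, 6, 7, 6, 4, 5]), (285, [6, 5, 7, 4, 6, 5]), (284, [6, 5, 7, 4, 6, 4, 4]), (314, [5, 4, 6, 4, 7]), (200, [6, 5, 6, 6, 5]),
  (264, [4, 4, 7, 4, 4, 6, 4]), (289, [4, 7, 5]), (206, [6, 5, 4, 4, 7, 6]), (209, []), (215, []), (223, [4, 4, 7, 7, 4]),
  (250, [4, 4, 4, 7, 6]), (262, [5, 7, 4, 6, 5, 5]), (222, []), (227, [7, 5, 6, 4, 4, 5]), (237, [6, 6, 4, 6]), (231, []),
  (303, [7, 4, 7, 4, 7, 4]), (310, [5, 6, 7, 5, 7, 5]), (306, [5, 4, 4, 4, 4]), (300, [7, 6, 4, 5, 6]), (248, [5, 7, 5, 4, 4, 5]), (272, [5, 6, 7, 5, 6]),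
  (302, [7, 5, 4, 4, 5]), (269, [6, 5, 5, 4, 4, 5]), (266, []), (268, []), (301, [5, 7, 4, 6, 5, 5]), (274, []),
  (278, []), (279, []), (286, [7, 6, 4, 7, 5, 4]), (4, []), (7, []), (10, []),
  (13, []), (0, []), (18, []), (21, []), (1, []), (26, []),
  (29, []), (2, []), (35, []), (38, []), (3, []), (22, [])]

/-- Part of `chainCert0`. -/
def chainCert020 : List (ℕ × List ℕ) := [
  (31, []), (47, []), (49, []), (5, []), (55, []), (58, []),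
  (6, []), (14, []), (51, []), (66, []), (69, []), (8, []),
  (71, [5, 5, 5]), (76, []), (9, []), (70, []), (15, []), (86, []),
  (89, []), (92, []), (11, []), (96, []), (37, [6, 7, 5, 6, 4, 5]), (12, []),
  (62, []), (100, []), (106, []), (84, [7, 7, 5, 4, 5]), (59, []), (109, []),
  (112, []), (64, []), (16, []), (119, []), (17, []), (120, []),
  (23, []), (125, []), (127, []), (129, []), (19, []), (131, []),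
  (133, []), (20, []), (43, []), (126, [4, 6, 7, 4, 7, 5]), (140, []), (39, [])]

/-- Part of `chainCert0`. -/
def chainCert021 : List (ℕ × List ℕ) := [
  (63, [7, 5, 4]), (46, []), (147, []), (24, []), (151, []), (153, []),
  (25, []), (30, []), (27, [5]), (158, []), (161, []), (74, [7, 7, 5, 5, 7]),
  (165, []), (28, []), (157, []), (132, [6, 6, 5, 6, 4, 4, 4]), (110, [5, 6, 6, 4, 4, 6]), (173, []),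
  (154, []), (174, []), (177, []), (42, [4]), (179, []), (32, []),
  (182, []), (185, []), (33, []), (189, []), (190, []), (34, []),
  (187, []), (191, [6, 7, 6, 4, 5, 4]), (118, [6, 6, 4, 7, 5]), (36, []), (199, []), (201, []),
  (196, []), (40, []), (205, []), (194, [7, 4, 7, 5, 4]), (160, [4, 4, 7, 7, 6, 5]), (150, [7, 4, 7, 7, 5]),
  (167, [7, 4, 7, 7, 5]), (41, []), (178, [5, 4, 4, 6, 7]), (209, []), (44, []), (79, [6, 5, 5, 4, 4, 5])]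

/-- Part of `chainCert0`. -/
def chainCert022 : List (ℕ × List ℕ) := [
  (214, []), (45, []), (217, []), (219, []), (115, [6, 7, 5, 6, 4, 5]), (149, [7, 6, 4, 4, 5]),
  (223, []), (95, [4, 7, 5, 6]), (48, []), (50, []), (228, []), (226, []),
  (230, []), (216, [5, 4, 6, 4, 6, 5]), (52, []), (60, [7, 4, 4, 7, 4, 4, 4]), (53, []), (235, []),
  (54, []), (162, [5, 6, 4, 4, 5]), (56, []), (78, [4, 6, 4, 6]), (57, []), (238, []),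
  (243, []), (236, []), (234, [4, 6, 7, 4, 7, 5]), (148, [5, 6, 7, 5, 7, 6, 4]), (244, []), (61, []),
  (197, [7, 7, 5, 6, 7, 6]), (248, []), (250, []), (252, []), (254, []), (256, []),
  (65, []), (138, [7, 5, 4, 5, 7, 4, 4]), (116, [5, 7, 4, 6, 5]), (104, [4, 5, 7, 7]), (67, []), (261, []),
  (68, []), (81, []), (262, []), (264, []), (77, []), (72, [])]

/-- Part of `chainCert0`. -/
def chainCert023 : List (ℕ × List ℕ) := [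
  (260, [7, 6, 6, 4]), (103, [4, 7, 6, 4, 4, 5]), (73, []), (130, [7, 5, 6, 6, 5, 6]), (163, [7, 7, 5, 5, 7]), (225, [7, 4, 4, 7, 4, 4]),
  (75, []), (207, [6, 6, 5, 6, 4, 4, 4]), (105, [4, 5, 7, 7]), (180, [5, 7, 4, 5, 6, 4]), (170, [6, 4, 4, 5, 4, 6]), (169, [4, 7, 4, 5, 6, 4]),
  (171, [7, 5, 4]), (271, []), (80, []), (82, []), (273, []), (275, []),
  (83, []), (107, [7, 5, 7, 4, 5]), (85, []), (168, [5, 7, 5, 4, 4]), (231, [7, 5, 4, 5]), (87, []),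
  (279, []), (184, [7, 4, 7, 5, 7, 7]), (88, []), (278, []), (93, []), (274, [5, 7, 7, 6, 4, 4]),
  (90, []), (91, []), (94, [7, 7, 5, 6, 7, 6]), (218, []), (285, []), (102, [7, 5, 7, 7]),
  (227, [6, 6, 4, 7, 5]), (99, []), (141, [6, 7, 6, 4, 5, 4]), (288, []), (97, []), (263, [7, 7, 5, 5, 7]),
  (98, []), (224, [6, 6, 4, 7, 5]), (259, [7, 4, 7, 7, 5]), (251, [7, 5, 7, 5, 5, 4]), (101, []), (208, [4, 7, 4, 6, 7])]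

/-- Part of `chainCert0`. -/
def chainCert024 : List (ℕ × List ℕ) := [
  (166, [4, 6, 4, 6]), (206, [4, 4, 6, 5, 7]), (108, []), (265, [7, 7, 5, 4, 5]), (221, [7, 4, 7, 5, 4]), (269, [4, 6, 4, 6]),
  (213, [4, 4, 4, 4, 4]), (111, []), (255, [7, 4, 4, 6, 7]), (124, [5, 4, 5, 7, 4, 4]), (113, []), (192, []),
  (114, []), (241, [6, 7, 4, 5, 7, 7]), (211, [7, 5, 7, 7]), (282, [5, 7, 7, 4, 6]), (117, []), (202, [4, 7, 5, 6]),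
  (164, [7, 4, 7, 5, 4, 4]), (122, []), (195, [4, 7, 5, 6]), (121, []), (247, [7, 5, 4]), (123, []),
  (181, [4, 7]), (293, [4, 7, 4, 6, 6]), (233, [5, 5]), (137, [7, 4, 4, 7, 4, 4, 4]), (128, []), (136, []),
  (286, [4, 6, 5, 7, 4]), (134, []), (291, [5, 6, 7, 6, 5]), (240, [5, 5]), (220, [4, 5, 4, 4, 4]), (292, [4, 7, 4, 7, 5]),
  (135, []), (139, []), (289, [4, 7, 4, 7, 5, 5]), (270, [4, 7, 5, 6, 6, 5]), (229, [7, 5, 4]), (142, []),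
  (305, [4, 5, 6, 4, 4, 5]), (143, []), (204, [6, 7, 4, 6, 4]), (144, []), (299, [6, 4, 4, 5]), (145, [])]

/-- Part of `chainCert0`. -/
def chainCert025 : List (ℕ × List ℕ) := [
  (215, [6, 5, 6, 5, 4]), (146, []), (307, []), (266, [6, 7, 6, 5, 7]), (203, [4, 5, 7, 7]), (159, [4, 5, 4, 5, 5, 5]),
  (152, []), (155, []), (200, [7, 7, 5, 5, 7]), (156, []), (210, [4]), (258, [5, 4, 6, 4, 4]),
  (303, [4, 4, 4, 7, 7]), (297, [7, 4, 4, 7, 4, 4]), (212, [6, 6, 5, 6, 4, 4, 4]), (246, [7, 5, 5, 4, 4, 5]), (172, []), (284, [4, 5, 4, 6, 4, 6]),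
  (175, []), (188, [4, 6, 4, 5, 5, 4]), (176, []), (306, [4, 7, 6, 5, 4]), (298, [7, 5, 4]), (186, []),
  (183, []), (304, [4, 4, 4, 5, 5, 7]), (312, []), (222, [6, 4, 6, 4, 5]), (310, [6, 4, 7, 6, 4, 5, 4]), (272, [6, 7, 4, 7, 5]),
  (193, []), (237, [7, 4, 6, 7, 4]), (287, [6, 7, 5, 6, 4, 5]), (198, []), (245, [4, 5, 5, 7, 5]), (302, [5, 6, 4, 4, 4, 4]),
  (239, [6, 7, 6, 5, 7, 4]), (242, [4, 5, 5, 7, 5, 5]), (232, [7, 4, 5, 4, 6, 5]), (301, [6, 7, 4, 5, 7, 7]), (313, [5, 7, 7, 4, 6]), (311, [7, 7, 4, 4, 6, 5]),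
  (268, [7, 4, 7, 5, 4, 4]), (277, [7, 5, 4]), (253, [4, 4, 5, 4, 6]), (308, [6, 4, 5, 5, 7, 5]), (294, [4, 5, 4, 4, 4]), (290, [6, 4])]

/-- Part of `chainCert0`. -/
def chainCert026 : List (ℕ × List ℕ) := [
  (267, [7, 6, 4, 5, 6, 4]), (280, [4, 5, 6, 4, 7, 4]), (249, [5, 5, 5, 4, 4, 6]), (276, [4, 4, 5, 4]), (257, []), (300, [7, 7, 6, 5, 5, 5, 4]),
  (314, [4, 6, 6, 5, 7, 4]), (283, [5, 6, 7, 4]), (296, [7, 7, 4, 4, 6, 5]), (281, []), (295, [6, 4, 6, 4, 5]), (309, [4, 6, 6, 5, 7, 4]),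
  (0, [4]), (152, [4, 4, 6, 6]), (305, [4, 5, 6, 4, 4, 5]), (91, [5, 7, 4, 4, 4]), (219, [4, 5, 4, 6, 4, 6]), (217, [6, 7, 5, 6, 4, 5]),
  (272, [5, 4, 6, 4, 5]), (237, [6, 5, 6, 6]), (243, [7, 5, 7, 4, 5]), (90, [7, 6, 4, 7]), (45, [6, 5, 6, 5, 4]), (208, [7, 6, 4, 6, 4, 6]),
  (204, [4, 5, 6, 4, 4, 5]), (261, [7, 4, 7, 7, 5]), (92, [7, 7, 6, 6]), (285, []), (102, [4, 7, 6]), (289, [6, 4, 4, 7, 6]),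
  (140, [6, 7, 5, 6, 4, 5]), (181, [4]), (104, [6, 7, 4, 6, 4, 4]), (47, [5, 5, 7, 7, 4, 6]), (147, [5, 5, 5, 4, 4, 6]), (73, [5, 7, 7]),
  (284, [4, 5, 4, 6, 4, 6, 4]), (298, [5, 4, 6, 4, 5]), (203, [7, 7, 5, 6, 5, 4]), (115, [4, 5, 7, 5, 7, 6]), (170, [6, 4, 6]), (164, [7, 5, 7, 5, 7]),
  (233, [4, 6, 4, 6, 4]), (30, [5, 5, 5]), (31, [7, 5, 7, 4, 5]), (3, [7, 5, 7, 7]), (103, [4, 7, 5, 7, 7]), (56, [4, 4, 6, 6])]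

/-- Part of `chainCert0`. -/
def chainCert027 : List (ℕ × List ℕ) := [
  (142, [4, 4, 4, 5, 4, 4, 4]), (124, [4, 7, 5, 6, 6]), (34, [7, 5, 6, 7, 6]), (153, [7, 5, 6, 4, 4, 5]), (63, [7, 5, 4]), (286, [7, 7, 5, 6, 7, 4]),
  (182, []), (268, [4, 6, 5, 7, 4]), (188, [4, 7, 4, 7, 5]), (186, [7, 4, 5, 6, 6]), (168, [5, 5, 7, 5, 4, 4]), (39, [5, 6, 7, 4, 7, 4]),
  (259, [7, 6, 6, 4, 6, 4]), (255, [7, 5, 6, 6, 5, 6]), (10, [5, 5, 7, 5, 4]), (29, [5, 5, 5]), (109, [7, 5, 7, 4, 5]), (236, [5, 6, 6, 4, 4, 6]),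
  (166, [4, 7, 6]), (74, [5, 5, 4]), (206, [5, 7, 6, 5, 5]), (300, [4, 4, 6, 4]), (76, [4, 7, 5, 7, 4, 4]), (13, [7, 4, 7, 5, 4, 4]),
  (64, [6, 7, 4, 7, 5, 4, 4]), (60, [7, 4, 4, 7, 4, 4, 4]), (235, [6, 7, 4, 7, 5, 4, 4]), (281, [4, 7, 4, 7, 5, 5]), (275, [7, 4, 5, 7, 4, 5]), (221, [4, 6, 7, 6, 4]),
  (82, [7, 5, 4, 4]), (254, [5, 7, 4, 6, 5]), (70, [5, 6, 6, 4, 4, 6]), (172, [6, 5, 6, 5, 4]), (290, [5, 6, 4, 7, 7]), (175, [4, 5, 4, 6, 5, 5]),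
  (283, [5, 6, 7, 4, 4]), (96, [4, 7, 6, 4, 4, 5]), (313, [5, 5, 7, 6, 4, 7, 4]), (306, [4, 7, 5, 7, 5, 5]), (118, [7, 7, 4, 7, 7, 6]), (213, [6, 4, 4, 4, 7, 6]),
  (77, [5]), (84, [6, 4, 6, 4]), (50, [5, 5, 5]), (260, [5, 5, 7, 6]), (66, [4, 7, 5, 4]), (301, [6, 5, 7, 5, 4])]

/-- Part of `chainCert0`. -/
def chainCert028 : List (ℕ × List ℕ) := [
  (245, [4, 5, 5, 7, 5, 4]), (201, [4, 5, 7, 4, 4, 4]), (127, [7, 5, 7, 4, 5]), (232, [4, 7, 4, 7, 5, 4, 4]), (274, [5, 6, 5, 5, 4, 4, 5]), (86, [5, 5, 5]),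
  (44, [6, 7, 6, 6, 4, 4]), (234, [7, 7, 4, 6, 6, 4]), (106, [5, 5, 7, 7, 4, 6]), (258, [4, 4, 4, 6, 7, 5]), (148, [7, 7]), (143, [7, 7, 6]),
  (145, [5, 5, 4, 6, 4, 5]), (62, [4, 4, 4, 5, 4, 4, 4]), (229, [4, 5, 6, 6, 4, 4]), (69, [7, 5, 6, 6, 4, 4]), (139, [4, 5, 5, 7, 5]), (253, [5, 6, 4, 5, 6]),
  (49, []), (55, [4, 4, 7, 4, 7, 5]), (141, [5, 6, 7, 4]), (126, [5, 4, 4, 6, 5]), (190, [6, 5, 7, 4, 6, 4, 4]), (89, [4, 4, 5, 4, 4, 4]),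
  (40, [4, 6, 5, 7, 4]), (311, [4, 5, 4, 6, 5]), (250, [6, 5, 6, 5, 4]), (85, [5, 6, 4, 6]), (304, [5, 5, 7, 4, 5, 7]), (189, [4, 4, 7, 7, 6, 5]),
  (53, [5, 5, 5, 4, 6]), (244, []), (173, [7, 5, 7, 7]), (276, [7, 5, 7, 7]), (205, [7, 7, 5, 4, 4, 5, 4]), (125, [6, 7, 4, 7, 4, 5]),
  (167, [5, 5, 7, 5, 4, 4]), (191, [7, 7, 4, 6, 4]), (158, [6, 4, 6, 4, 5]), (133, [7, 7, 6, 6, 4, 6]), (241, [7, 6, 5, 6, 5, 4]), (157, [5, 7, 5, 4, 4]),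
  (193, [4, 4, 5, 7]), (105, [6, 5, 6, 5, 4]), (209, [6, 5, 7, 4, 6, 4, 4]), (119, [6, 6, 4, 4, 6, 7]), (256, [6, 5, 6, 7, 6]), (159, [5, 4, 4, 4, 7, 7, 4])]

/-- Part of `chainCert0`. -/
def chainCert029 : List (ℕ × List ℕ) := [
  (227, [4, 4, 4, 7, 6, 5]), (202, [7, 6, 4, 4, 4]), (309, [7, 4, 6, 5, 7]), (26, []), (271, [6, 7, 4, 5, 6]), (41, [4]),
  (67, [6, 7, 5, 6, 7, 6, 4]), (135, [6, 6, 4, 6, 4, 4]), (9, [4, 6, 4, 6]), (211, [5, 7, 4, 5]), (296, [7, 7, 5, 7, 5]), (294, [5, 7, 4, 6, 6]),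
  (80, [6, 5, 5, 7, 5, 4]), (33, [4, 4, 5, 7, 7]), (122, [7, 4, 5, 6, 6]), (4, [6, 7, 5, 6, 7, 6, 4]), (19, [7, 5, 7, 5, 5, 4]), (22, [5, 6, 6, 4, 4, 6]),
  (194, [7, 7, 4, 5]), (107, [6, 5, 6, 5, 4]), (117, [4, 5, 7, 4, 5, 5]), (46, [7, 4, 6, 5, 5, 4]), (131, [7]), (174, []),
  (144, [5, 7, 4, 6, 5]), (88, [7, 4, 5, 7, 4, 5]), (242, [7, 6, 5, 6, 5, 4]), (101, [7, 4, 5, 7, 4, 5]), (154, [7, 5, 5, 5]), (249, [7, 4, 5, 5, 7, 7]),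
  (184, [5, 4, 4, 7, 6, 4, 5]), (302, [5, 7, 7, 6, 4, 5]), (72, [7, 6, 4, 7, 4, 5, 5]), (280, [7, 5, 7, 4, 4, 4]), (18, []), (161, [5, 4, 6, 5, 7, 5]),
  (212, [7, 4, 4, 7, 4, 6]), (312, [4, 7]), (37, [7, 5, 7, 4, 5]), (146, [6, 5, 6, 5, 4]), (32, [4, 7, 4, 6, 6]), (303, [7, 5, 7, 4]),
  (54, [4, 4, 6, 6]), (310, [4, 4, 5, 4, 4, 4]), (137, [4, 4, 6, 4, 6]), (134, [4, 7, 4]), (51, [7, 7, 5, 5, 7, 4]), (314, [7, 4, 6, 5, 6, 5, 4])]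

/-- Part of `chainCert0`. -/
def chainCert030 : List (ℕ × List ℕ) := [
  (200, [7, 7, 5, 5, 7]), (307, [4, 5, 5, 7, 7]), (120, [7, 6, 5, 7, 5]), (136, [4, 4, 4, 5, 4, 4, 4]), (288, [4, 4, 4, 6, 6, 5]), (123, [6, 7, 6, 5, 6, 5, 4]),
  (177, [4, 6, 7, 4, 7, 4]), (270, [4, 5, 4, 6, 5, 7, 5]), (155, [6, 6, 4, 7, 6, 4]), (195, [5, 7, 4, 4, 4]), (58, [4, 6, 6, 4, 5, 5, 4]), (150, [7, 4, 7, 7, 5]),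
  (308, [7, 7, 4, 4, 6, 5]), (299, [6, 6, 5, 7, 7]), (8, [5, 7, 5, 5, 4]), (282, [4, 5, 5, 4]), (6, [5, 7, 5, 5, 4]), (114, [7, 7]),
  (176, [4, 7, 7]), (197, [7, 5, 6, 7, 6]), (196, [4, 4, 4, 5, 4, 4, 4]), (223, [5, 7, 4, 4, 6]), (287, [6, 4, 6, 5, 5, 4]), (83, [4, 4, 5, 4, 4, 4]),
  (43, [4, 4, 4, 5, 4, 4, 4]), (93, [5, 4, 5, 6, 5]), (12, [4, 6, 5, 7, 4]), (187, [4, 6, 4, 6]), (180, [7, 5, 5, 4, 5, 5]), (165, [7, 6, 4, 5, 6, 4]),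
  (192, [7, 4, 4, 7, 4, 4, 4]), (129, [6, 7, 4, 7, 5, 4, 4]), (264, [5, 6, 4, 4, 5]), (185, [7, 7, 6, 6]), (225, [4, 5, 5, 7]), (265, [5, 5, 4, 4, 4, 4]),
  (238, [7, 5, 4, 5, 7]), (179, [5, 6, 4, 4, 5]), (57, [7, 4, 5, 7]), (149, [5, 5, 5, 4, 6]), (138, [5, 7, 5, 4, 5, 7]), (252, [4, 4, 6, 6, 4, 6]),
  (116, [7, 5, 7, 7]), (278, [4, 7, 5]), (198, [7, 4, 5, 7, 6, 5]), (95, [6, 4, 6, 5, 7]), (169, [7, 4, 5, 7, 6]), (23, [7, 5, 4])]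

/-- Part of `chainCert0`. -/
def chainCert031 : List (ℕ × List ℕ) := [
  (226, [5, 6, 7, 4, 7, 4]), (292, [6, 7, 4, 6, 7, 6, 4]), (224, [6, 6, 5, 6, 7, 6, 5]), (246, [5, 6, 7, 5, 7, 6, 4]), (81, [5, 6, 4, 5, 6]), (273, [7, 5, 7, 4, 5, 7, 5]),
  (132, [7, 6, 5, 7, 4, 4]), (128, [4, 5, 4, 6, 4, 6]), (7, [7, 7]), (216, [5, 5, 5, 4, 4, 6]), (239, [7, 6, 4, 7, 4, 5, 5]), (199, [5, 4, 6, 4, 4, 5]),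
  (218, [6, 4, 5, 5]), (28, [7, 4, 6, 7]), (279, [7, 7, 5, 5, 4, 4]), (71, [5, 5]), (52, [5, 6, 7, 4]), (240, [4, 7, 5, 5, 5]),
  (78, [5, 4, 4, 4, 5, 4]), (162, [5, 7, 7]), (230, [6, 7, 4, 6, 4]), (87, [5, 6, 7, 4, 4]), (220, [4, 6, 4, 6]), (25, [7, 7]),
  (228, [7, 5, 5, 7, 7]), (267, [6, 4, 5, 7, 4]), (222, [4, 4, 5, 7, 7]), (269, [7, 4, 5, 6, 6, 5]), (99, [4, 7]), (68, [7, 4, 5, 7]),
  (14, [6, 4, 7]), (100, [4, 6, 4, 6, 4]), (42, [6, 7, 4, 5, 7, 7]), (11, [4, 5, 7, 4, 5, 5]), (16, [4, 5, 4, 6, 4, 6]), (94, [4, 6, 5, 6, 4, 4, 4]),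
  (24, [4, 5, 4, 6, 4, 6]), (171, [7, 5, 4]), (121, [7, 6, 4, 7, 4, 5, 5]), (207, [7, 5, 6, 6, 5, 6]), (17, [7, 5, 4, 5, 5, 5]), (61, [6, 7, 4, 5, 7, 7]),
  (160, [7, 6, 5, 4, 4, 6]), (297, [6, 6, 4, 6, 4, 4]), (59, [7, 5, 6, 4, 4, 5]), (130, [4, 4, 6, 6]), (20, [4, 7, 6, 5, 5]), (262, [6, 7, 5, 6, 7, 6])]

/-- Part of `chainCert0`. -/
def chainCert032 : List (ℕ × List ℕ) := [
  (291, [4, 6, 5, 6, 7, 4]), (48, [7, 5, 7, 7]), (75, [6, 5, 7, 5]), (2, [4, 5, 4, 6, 5, 7, 5]), (36, [7, 4, 7, 5, 6]), (263, [6, 4, 5, 6, 5]),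
  (15, [5, 4, 6, 4, 4, 6, 4]), (257, [6, 5, 5, 4]), (21, [4, 6, 7, 4, 7, 5]), (5, [6, 7, 5, 6, 7, 4]), (163, [7, 4, 6, 5, 5, 4, 5]), (231, [7, 5, 5, 7]),
  (38, [4, 4, 6, 6, 4, 6]), (295, [7, 4, 7, 4, 4]), (178, [6, 7, 4, 7, 4, 4, 4]), (214, [7, 7, 4, 4, 4]), (111, [4, 6, 6, 4, 6]), (151, [5, 5, 4, 4, 7]),
  (1, [5, 6, 7, 5, 7, 6, 5]), (35, [4, 7, 5, 6]), (97, [4, 6, 5, 7, 5, 5]), (27, [4, 4, 4, 7, 6, 5, 4]), (79, [6, 7, 4, 6, 7, 6, 4]), (293, [5, 6, 6, 4, 4]),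
  (251, [5, 7, 4, 7, 4, 5]), (277, [5, 5, 7, 7, 4, 6]), (248, [4, 7, 7, 5, 5, 7]), (110, [5, 7, 4, 5, 4]), (112, [6, 4, 7, 4, 7, 4]), (215, [6, 7, 4, 6, 7, 6, 4]),
  (98, [5, 4, 4, 5, 7]), (108, [6, 4, 7, 7]), (65, [6, 6, 5, 6, 7, 4]), (156, [4, 4, 4, 6, 7, 4]), (266, [5, 6, 4, 7]), (183, [7, 4, 4, 7, 6, 4, 4]),
  (210, [7, 5, 7, 4]), (247, [4, 7, 7, 5, 6, 5]), (113, [7, 5, 4, 4, 4, 5]), (0, [5]), (156, [5]), (130, [6, 4, 6, 4]),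
  (256, [7, 7, 4, 4, 4, 4]), (147, [5, 5, 4, 4, 4, 4]), (211, [7, 7, 5, 4, 5]), (275, [6, 4, 7, 4, 6]), (199, [4, 4, 4, 4, 4]), (96, [4, 6, 4, 4, 6])]

/-- Part of `chainCert0`. -/
def chainCert033 : List (ℕ × List ℕ) := [
  (21, [4, 4, 4, 7, 7]), (176, [7, 5, 4]), (255, [7, 5, 6, 7, 5, 7]), (47, [4, 6, 4, 6, 4, 5]), (49, [6, 5, 4, 4, 5, 4]), (222, [7, 6, 4, 4, 6, 7]),
  (134, [6, 4, 6, 4]), (82, [5, 7, 4, 7, 6, 5, 4]), (155, [6, 5, 5, 4, 4, 5]), (12, [7, 5, 4]), (191, [6, 4, 5, 5]), (218, [4, 6, 4, 6, 4, 5]),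
  (204, [6, 7, 4, 7, 4, 6]), (22, [4, 7, 4, 7, 5, 5]), (31, [7, 7, 5, 4, 5]), (188, [5, 5, 4, 6, 4, 5]), (142, [7, 6, 4, 4, 5]), (14, [7, 7, 6, 5, 5, 4, 6]),
  (101, [7, 7, 5, 7, 5, 7]), (28, [5, 5, 5]), (272, [7, 5, 6, 4, 6]), (151, [5, 6, 6, 4, 4, 6, 4]), (62, [5]), (286, [6, 4, 4, 7, 6]),
  (245, [6, 7]), (80, [5, 4, 4, 5, 5]), (46, [4, 5]), (282, [6, 5, 7, 4, 6, 4, 4]), (170, [7, 7, 4, 4, 4, 4]), (52, [6, 5, 4, 4, 5, 4]),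
  (166, [7, 4, 7, 5, 7, 4]), (144, [4, 6, 4, 6, 4, 5]), (195, [7, 5, 7, 7]), (114, [4, 6, 4, 6, 4, 5]), (284, [4, 4, 6, 5, 7]), (35, [7, 4, 7, 6, 5, 4]),
  (288, [5, 7, 6, 5]), (264, [7, 4, 7, 5, 5]), (153, [4, 5, 7, 7]), (76, [5, 6, 7]), (6, [7, 7, 6, 5, 5, 4, 6]), (141, [7, 5, 4]),
  (164, [5, 7, 5, 4]), (126, [6, 4, 6, 4, 4, 7]), (252, [5, 7, 4, 5, 7, 6]), (206, [4, 6, 5, 7, 4]), (136, [5, 7, 4, 6, 5, 5]), (90, [5, 7, 4, 7, 6])]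

/-- Part of `chainCert0`. -/
def chainCert034 : List (ℕ × List ℕ) := [
  (160, [7, 4, 6, 7]), (201, [7, 5, 6, 4]), (262, [4, 6, 4, 7, 4, 4]), (72, [6, 6, 4, 6, 4]), (66, [4, 6, 4, 6, 4, 5]), (300, [7, 4, 7, 6, 4]),
  (71, [7, 7, 5, 4, 5]), (11, [7, 6, 4, 4, 6, 7]), (58, [6, 4, 6, 4]), (196, [6, 5, 5, 7, 4, 4]), (100, [5, 4, 4, 6, 5, 4]), (208, []),
  (121, [6, 4, 6, 7, 5, 4]), (180, [6, 4, 4, 7, 4, 5, 4]), (145, [4]), (68, [4]), (143, [7, 7, 6, 5, 6]), (263, [5, 5]),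
  (133, [6, 7, 5, 6, 4, 5]), (250, [7, 4, 5, 5, 7]), (116, [7, 6, 4, 6]), (75, [6, 4, 5, 6, 7]), (253, [4, 5, 6, 4, 4, 5]), (108, []),
  (238, [7, 4, 6, 5, 6, 4]), (261, [4, 6, 7, 4, 5]), (278, [4, 7, 5, 6, 4, 4]), (3, [6, 4, 4, 7, 6]), (65, [4]), (311, [5, 6, 7, 4, 7]),
  (77, [5, 4, 4, 5, 4, 4]), (225, [6, 4, 6, 7, 4, 7, 4]), (148, [4, 5]), (17, [5, 4, 4, 5, 5]), (276, [7, 6, 5, 6, 4]), (106, [7, 4, 7, 7, 5, 5, 4]),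
  (93, [7, 4, 7, 5, 4]), (172, [4, 6]), (299, [5, 7, 6, 4, 6, 4]), (36, [7, 6, 5, 7, 5]), (215, [4, 6, 6, 5, 4]), (306, [4, 5, 5, 7, 5]),
  (105, [7, 5, 5, 7]), (292, [5, 7, 7, 4]), (95, [4, 7, 5, 6, 6]), (290, []), (242, [5, 4, 6, 4, 5]), (193, [7, 5, 5, 7, 7])]

/-- Part of `chainCert0`. -/
def chainCert035 : List (ℕ × List ℕ) := [
  (129, [6, 4, 6, 5, 5, 4, 4]), (120, [4, 5, 5, 4, 4, 5]), (281, [4, 7, 5, 6, 6, 4]), (273, [7, 7, 5, 4, 5]), (97, [6, 5, 5, 7, 4]), (254, [6, 7, 6, 5, 5, 5, 4]),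
  (78, [4, 6, 4, 6]), (174, [5, 7, 7, 6, 6]), (30, [6, 7, 4, 7, 5]), (237, [4, 6, 7, 6, 4]), (69, [5, 4, 6, 4, 4, 5, 5]), (308, [4, 6, 4, 6, 4]),
  (86, [4, 5, 4, 4]), (205, [7, 7, 5, 6, 7, 6]), (298, [6, 4, 5, 4, 6]), (301, [7, 7, 6, 5, 5, 4, 6]), (159, [5, 7, 4, 4, 7, 6, 4]), (131, [7, 4, 6, 5, 6, 4]),
  (138, [6, 6, 4, 6, 4, 4]), (241, [6, 4, 6, 4, 4, 7]), (89, [6, 5, 4, 4, 4, 4]), (181, [7, 6, 4, 4, 5]), (19, [5, 7, 4, 6, 5, 5]), (91, [4, 6, 5, 7, 4]),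
  (285, [6, 5, 4, 4, 5, 4]), (224, [5, 5, 7, 7, 4, 6]), (10, [6, 4, 6, 7, 5, 4]), (127, [6, 4, 6, 7, 5, 4]), (111, [4, 5, 4, 4, 6, 7]), (157, [4, 7, 7, 4, 4, 6]),
  (161, [5, 4, 6, 4, 4, 5, 5]), (57, [4, 7, 5, 6, 6, 5]), (171, [7, 5, 5]), (236, [5, 7, 4, 5, 7, 6]), (118, []), (268, [5, 6, 6, 4, 4]),
  (209, [7, 4, 4, 7, 4, 4]), (73, [7, 6, 5, 6, 7, 4, 4]), (25, [6, 7, 4, 7, 5]), (104, [7, 6, 5, 4, 4, 6]), (293, [6, 7, 5, 6, 4, 5]), (32, [5, 5, 4, 6, 4, 4, 4]),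
  (37, [6, 5, 5, 7, 4, 4]), (186, [4, 6, 7, 6]), (124, [5, 5, 7, 5, 5, 5]), (5, [6, 4, 4, 7, 4, 6]), (274, [4, 4, 7, 4, 6]), (150, [7, 5, 6, 5, 4, 5])]

/-- Part of `chainCert0`. -/
def chainCert036 : List (ℕ × List ℕ) := [
  (18, [6, 4, 6, 7, 5, 4]), (194, [6, 7, 6, 5, 5, 5]), (56, [5, 6, 6, 4, 4, 6]), (74, [5, 5, 5]), (296, [6, 7, 5, 7, 6, 5, 4]), (198, [5, 5, 7, 5, 7, 4, 5]),
  (115, [7, 7, 6, 5, 6]), (55, [5]), (277, [6, 4, 4, 7, 4, 6]), (265, [6, 7, 4, 4, 5, 7]), (109, [7, 6, 6, 4, 7, 4, 4]), (59, [7, 5, 7, 4]),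
  (158, [5, 6, 7, 5, 7, 5]), (43, [5]), (53, [5, 4, 6, 4, 5, 4]), (295, [4, 5, 7, 4, 4, 4]), (258, [6, 6, 4, 7, 4, 4]), (4, [6, 6, 5, 6, 4, 4, 4]),
  (20, []), (247, [7, 6, 5, 4, 5, 6]), (239, [4, 7, 4, 7, 5, 5]), (168, [6, 4, 6, 4, 5, 4]), (189, [6, 7, 6, 6, 4, 6]), (122, [7, 5, 6, 4, 4, 5]),
  (94, [6, 6, 4, 5, 5, 7]), (16, [4, 5, 5]), (266, [5, 7, 5, 4, 4]), (269, [7, 5, 6, 4, 4, 5]), (38, [5, 6, 7]), (202, [7, 6, 5, 7, 5]),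
  (233, [5, 4, 4, 5, 4]), (244, [7, 7, 5, 5, 7]), (246, [4, 7, 5, 5, 5]), (125, [4, 7, 4, 4, 5, 7]), (183, [7, 4, 4, 7, 4, 5, 4]), (289, [5, 4, 4, 4, 6, 7]),
  (88, [4, 4, 4, 6, 6, 5]), (190, [4, 4, 6, 5, 7, 6]), (132, [5, 6, 4, 4, 4, 4]), (192, [7, 6, 5]), (40, [7, 4, 7, 5, 4]), (227, [4, 7, 4, 6, 6]),
  (162, [6, 7, 5, 4, 5, 6, 4]), (283, [7, 6, 5, 7, 5]), (203, [5, 4, 4, 4, 7, 7, 4]), (297, [4, 7, 7, 5, 5, 7]), (7, [4, 7, 5]), (64, [6, 5, 5, 4])]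

/-- Part of `chainCert0`. -/
def chainCert037 : List (ℕ × List ℕ) := [
  (85, [4, 5, 5, 7, 5]), (220, [5, 6, 7, 6, 4]), (249, [7, 4, 7, 7, 5, 6]), (304, [6, 5, 5, 7, 5, 4]), (232, [6, 4, 5, 7, 5, 4]), (140, [6, 7]),
  (309, [6, 6, 4, 5, 6, 4]), (60, [5, 5, 7, 7]), (314, [7, 7, 5, 5, 5]), (223, [7, 5, 6, 4, 4, 5]), (152, [4]), (24, [7, 4, 4, 6, 7]),
  (26, [7, 5, 7, 6, 5, 4]), (45, [5, 7, 7, 6, 6]), (163, [6, 7, 6, 5]), (197, [5, 7, 5, 5, 4, 5]), (103, [7, 6, 4, 4, 6, 7]), (137, [7, 4, 6, 6, 4, 4]),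
  (149, [7, 7, 4, 5, 6]), (226, [7, 4, 6, 5, 7, 7]), (67, [6, 7, 4, 7, 5]), (213, [6, 5, 5, 4]), (81, [4, 7, 5]), (294, [4, 6, 4, 6, 4, 5]),
  (175, [5, 6, 4, 7, 4]), (182, [4, 7, 6, 4, 5]), (251, [4, 6, 4, 6, 4, 5]), (228, [6, 4, 4, 7, 7, 4, 4]), (167, [4, 5, 5, 7, 5, 5, 5]), (217, [7, 5, 4, 5, 7, 4]),
  (123, [6, 4, 7, 6, 4, 5, 4]), (139, [7, 6, 6, 4, 4, 4]), (243, [4, 4, 5, 5, 7, 4]), (235, [5, 7, 4, 7, 6, 6]), (179, [7, 4, 4, 6, 6]), (231, [6, 4, 5, 5, 5]),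
  (259, [5, 4, 6, 4, 4, 5, 5]), (210, [6, 4, 6, 7, 5, 4]), (185, [7, 5, 4, 5, 6, 4, 4]), (128, [4, 4, 4, 6, 7, 5]), (219, [4, 4, 4, 6, 7, 5]), (230, [4, 6, 4, 4, 5, 5]),
  (187, [7, 7, 6, 6, 4, 6, 4]), (79, [7, 4, 7, 7, 6, 6]), (267, [6, 4, 7, 4, 4, 7]), (173, [4, 6, 7, 4, 5, 4]), (177, [4, 7, 6, 4, 5]), (279, [7, 7, 4, 7])]

/-- Part of `chainCert0`. -/
def chainCert038 : List (ℕ × List ℕ) := [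
  (216, [6, 4, 4, 4]), (287, [4, 4, 7, 5, 6, 4]), (154, [5, 4, 6, 4, 4, 5, 5]), (229, [4, 5, 5, 7, 6, 4, 5]), (184, [5, 6, 5, 4, 5]), (110, [5, 7, 6, 5]),
  (200, [4, 6, 7, 6, 4, 7]), (280, [6, 4, 5, 6, 7]), (70, [5, 4, 6, 4, 6, 4]), (98, [5, 6, 7, 4, 4]), (42, [6, 4, 4, 7, 4, 6]), (135, [4, 4, 4, 6, 7, 5, 4]),
  (178, [7, 4, 4, 5, 7]), (51, [5, 7, 7, 6, 4, 5]), (1, [5, 5]), (44, [4, 7, 5, 4]), (41, [5]), (234, [7, 5, 5, 5]),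
  (310, [4, 7, 4, 7, 5, 6, 4]), (54, [7, 5, 7, 4]), (257, [4, 4, 6, 4, 6, 5]), (117, [6, 4, 4, 7, 5, 6]), (107, [7, 4, 6, 5, 5, 7]), (102, [4, 6, 6, 4, 5, 5]),
  (34, [7, 7, 5, 6, 7]), (113, [4, 5, 4, 6, 4, 6]), (13, [6, 6, 4, 5, 5, 7]), (240, [6, 7, 5, 5, 5, 4]), (260, [5, 7, 4, 6, 5, 5]), (312, [5, 6, 7, 4, 7]),
  (119, [7, 4, 5, 7, 4, 4]), (84, [5, 5, 7, 5]), (313, [7, 4, 6]), (8, [6, 5, 7, 4, 6, 5]), (61, []), (39, [5, 7, 4, 5, 7, 6]),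
  (99, [4, 6, 5, 5, 5, 4]), (291, [4, 7, 4, 6, 7]), (48, [4, 5, 7, 5, 4, 5]), (307, [6, 6, 4, 7, 4]), (212, [5, 7, 5, 7, 5, 5]), (29, [5, 4, 4, 5, 4, 4]),
  (146, [4, 4, 4, 5, 4]), (221, [5, 6, 7, 4, 4]), (63, [6, 7, 5, 6, 4, 5]), (2, [6, 7, 5, 6, 7, 6, 4]), (112, [7, 7, 4, 4, 4, 4]), (15, [6, 4, 4, 5, 7, 4, 5])]

/-- Part of `chainCert0`. -/
def chainCert039 : List (ℕ × List ℕ) := [
  (165, [4, 5, 4, 6, 5, 5]), (248, [4, 4, 6, 4, 4]), (27, [7, 4, 7, 6, 6]), (23, [4, 6, 7, 4, 7, 4]), (92, [4, 4, 4, 6, 7, 5]), (305, [4, 7, 6, 4, 4]),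
  (83, [4, 4, 7, 6, 5, 6]), (9, [4, 7, 5, 7, 4, 4]), (207, [7, 4, 4, 6, 7, 5]), (169, [7, 4, 7, 6, 5, 4]), (214, [7, 4, 7, 5, 5]), (87, [7, 4, 4, 7, 4, 4, 4]),
  (302, [6, 6, 4, 7, 7]), (33, [4, 6, 6, 4, 5, 5]), (270, [6, 4, 4, 5]), (303, [5, 4, 6, 4, 5]), (271, [7, 4, 5, 7, 4, 4]), (50, [4, 6, 7, 6]),
  (0, [6]), (33, [5, 7, 5, 7, 5, 5, 4]), (291, [6, 7, 6, 6, 4, 7]), (177, [7, 7, 6, 4, 6, 4]), (241, [7, 5, 7, 4, 5, 6]), (148, [7, 6, 5, 5]),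
  (6, [7, 6]), (93, [7, 7, 6, 4, 6, 4]), (313, [6, 7, 5]), (112, [7, 7, 6, 4, 6, 4]), (10, [6, 7, 4, 7, 4, 6]), (11, [5, 7, 5, 7, 5, 5, 4]),
  (44, [4, 7, 6, 6]), (13, [7, 7, 6, 4, 6, 4]), (278, [5, 7, 5, 7, 5, 5, 4]), (184, [7, 7, 5, 7, 6]), (283, [7, 4, 7, 7]), (174, [6, 5, 5, 4, 6]),
  (24, [5, 7, 6, 5, 5, 5, 4]), (2, [6]), (263, [4, 7, 6, 5, 4]), (56, [7, 5, 7, 4, 5, 6]), (22, [6]), (80, [7, 4, 7, 4, 7]),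
  (284, [6, 7, 5, 5, 7, 7]), (152, [7, 6, 5, 7, 4, 4]), (26, [6, 7, 4, 7, 4, 6]), (302, [5, 7, 5, 7, 5, 5, 4]), (28, [5, 6, 5, 5, 5]), (29, [7, 7, 6, 4, 6, 4])]

/-- Part of `chainCert0`. -/
def chainCert040 : List (ℕ × List ℕ) := [
  (282, [6, 7, 5]), (181, [6]), (132, [4, 5, 4, 6, 5]), (150, [5, 5, 4, 4, 7, 5]), (99, [7, 4, 7, 7]), (35, [7, 7, 6, 4, 6, 4]),
  (107, [4, 7, 4, 6, 4]), (149, [4, 7, 4, 7, 4, 4]), (41, [7, 5, 7, 6, 4, 6, 4]), (39, [5, 7, 5, 7, 5, 5, 4]), (91, [7, 7, 5, 7, 6]), (266, [4, 5, 4, 6]),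
  (202, [4, 6, 6, 5]), (43, [7, 6]), (212, [5, 5, 7, 5, 5]), (143, [7, 5, 4, 5]), (188, [5, 6, 4, 4]), (289, [7, 7, 4, 6, 7, 5]),
  (48, [5, 6, 5, 5, 7, 5]), (16, [5, 7, 6, 5, 5, 5, 4]), (15, [6, 5, 5, 4, 6]), (269, [5, 5, 4, 4, 5, 4, 4]), (113, [7, 5]), (98, [7, 7, 5, 7, 6]),
  (54, [5, 6, 7, 5, 5, 5]), (134, [7, 5, 7, 4, 5, 6]), (295, [6, 5, 5]), (296, [7, 6, 5, 5]), (237, [7, 4, 7, 6, 5, 4]), (70, [6]),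
  (60, [4, 7, 5, 4, 5]), (178, [7, 4, 6, 4, 5]), (273, [7, 7, 6, 4, 6, 4]), (146, [4, 5, 6, 5, 5]), (61, [6]), (123, [4, 6, 6, 5, 4]),
  (275, [7, 4, 7, 4, 4, 5]), (312, [7, 4, 7, 4, 5]), (68, [5, 6, 5, 5, 5]), (109, [6, 7, 4, 7, 4, 6]), (290, [4, 6, 6, 5, 4]), (71, [6, 6, 4, 5, 5, 7]),
  (180, [5, 6, 5, 5, 4, 4, 5]), (5, [5, 6, 7, 5, 5, 5]), (267, [5, 7, 6, 4, 5, 4]), (75, [5, 5, 7, 6, 5, 5]), (292, [4, 6, 4, 7, 6, 4]), (306, [7, 4, 4, 6, 4, 6])]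

/-- Part of `chainCert0`. -/
def chainCert041 : List (ℕ × List ℕ) := [
  (277, [5, 6, 5]), (209, [4, 7, 4, 7, 4]), (217, [5, 6, 5, 6, 4]), (232, [5, 6, 5, 5, 7, 5]), (255, [6, 7, 6, 5, 6, 5, 4]), (76, [7, 7, 5, 5, 5]),
  (271, [5, 5, 5, 4, 4, 7]), (42, [7, 4, 7, 4, 7, 4]), (95, [4, 6, 6, 5, 4]), (106, [7, 6, 5]), (288, [7, 4, 5, 5, 7, 7]), (251, [4, 6, 5, 6, 4, 4]),
  (90, [5, 6, 7, 4, 7, 5, 4]), (189, [5, 5, 7, 6, 5, 4]), (259, [4, 4, 6, 6, 4, 6]), (228, [5, 4, 4, 6, 5, 7, 4]), (274, [4, 4, 5, 7, 7]), (207, [4, 4, 7, 4, 7]),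
  (94, [7, 5, 7, 6, 4, 6, 4]), (97, [5, 7, 6, 4, 5, 4]), (239, [4, 6, 6, 4, 4]), (179, [4, 6, 7, 6, 4, 7]), (14, [4, 6, 7, 4, 5, 4]), (311, [5, 5, 7, 7, 6]),
  (102, [5, 7, 5, 5, 5]), (36, [7, 4, 7, 7]), (240, [4, 4, 6, 4, 6, 5]), (256, [4, 5, 7, 7]), (138, [4, 7, 5, 4, 5]), (103, [7, 6]),
  (129, [7, 6, 5, 5]), (243, [4, 6, 7, 6, 5, 7, 4]), (110, [5, 5, 7, 5, 5]), (111, [5, 6, 5, 5, 5]), (206, [5, 7, 5, 4, 4, 4, 4]), (300, [7, 5, 7, 5, 5, 4]),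
  (167, [5, 6, 5, 4, 4, 7]), (187, [7, 4, 5, 5, 5, 4]), (301, [7, 6]), (131, [7, 6, 5, 5, 4, 5]), (203, [6, 6, 5, 7, 4, 4]), (307, [5, 7, 6, 5, 5, 5, 4]),
  (114, [7, 6, 5, 5]), (233, [5, 6, 5, 5, 7]), (122, [5, 6, 5, 5, 7, 5]), (223, [5, 6, 7]), (4, [6, 5, 5, 4, 6]), (25, [4, 6, 6, 5, 4])]

/-- Part of `chainCert0`. -/
def chainCert042 : List (ℕ × List ℕ) := [
  (162, [5, 5, 7, 6]), (127, [6, 7, 4, 7, 4, 6]), (20, [7, 6]), (234, [7, 5, 7, 4, 5, 6]), (145, [7, 5, 5, 7]), (299, [4, 4, 5, 7, 4, 4]),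
  (224, [6, 5, 5]), (135, [7, 6, 5, 6, 4]), (314, [5, 5, 4, 6, 4, 5]), (161, [5, 6, 6, 5, 6, 6]), (136, [5, 6, 7, 5, 5, 5]), (156, [6]),
  (87, [4, 4, 6, 4, 4, 7]), (185, [5, 5, 4, 4, 5, 4, 4]), (140, [5, 6, 5, 6]), (57, [5, 5, 4, 4, 7, 5]), (119, [5, 4, 4, 5, 4, 4]), (248, [5, 4, 4, 4, 7, 5, 4]),
  (310, [4, 4, 5, 7, 7]), (286, [4, 6, 4, 6, 4, 5]), (294, [4, 4, 7, 7, 4, 4]), (147, [4, 5, 5, 7, 6, 4, 5]), (73, [5, 6, 5, 4, 4, 7]), (219, [6, 7, 6, 4, 4, 5]),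
  (1, [5, 6, 7, 5, 5, 5]), (31, [6, 7, 4, 7, 4, 6]), (125, [5, 5, 5, 4, 6]), (46, [5, 5, 5, 4, 6]), (88, [7, 4, 7, 4, 5]), (155, [7, 5, 4, 5, 7, 4, 7]),
  (276, [4, 4, 7, 5, 6, 4]), (79, [6, 5, 7, 4, 6, 5]), (115, [5, 6, 5, 5, 4, 4, 5]), (215, [7, 7, 6, 4, 6, 4]), (160, [6]), (133, [6, 4, 6, 4, 7]),
  (235, [7, 6, 5, 5, 5]), (163, [5, 7, 6, 4, 5, 4]), (72, [7, 4, 6, 5, 4, 5]), (165, [6, 7, 4, 7, 4, 6]), (47, [4, 4, 7, 4, 7, 4, 4]), (120, [5, 6, 7, 5, 5, 5]),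
  (268, [4, 7, 4, 4, 7, 5]), (246, [7, 4, 4, 6, 4, 6]), (170, [4, 5, 4, 6, 5]), (89, [4, 6, 7, 6, 5]), (265, [7, 4, 7]), (182, [5, 6, 4, 4, 4, 4])]

/-- Part of `chainCert0`. -/
def chainCert043 : List (ℕ × List ℕ) := [
  (304, [7, 7, 6, 5, 7, 7]), (214, [4, 4, 7, 4, 4, 6]), (101, [7, 5, 7, 6, 4, 6, 4]), (195, [7, 7, 4, 7, 4, 4]), (64, [4, 4, 4, 7, 7]), (34, [4, 6, 6, 5, 4]),
  (164, [6]), (151, [4, 7, 4, 7]), (205, [7, 6, 5]), (159, [5, 6, 7, 4, 7, 5, 4]), (50, [5, 4, 4, 4, 7]), (220, [4, 4, 7, 4, 6, 6]),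
  (194, [7, 6, 5]), (158, [5, 4, 4, 6, 5, 7, 4]), (153, [6, 4, 5, 5, 7, 4]), (40, [7, 7, 6, 4, 6, 4]), (192, [7, 6, 4, 7, 4, 5]), (191, [4, 7, 4, 7, 7, 6]),
  (199, [7, 7, 4, 6, 7, 5]), (245, [7, 7, 5, 7, 4]), (218, [4, 5, 7, 7]), (3, [4, 6, 6, 4, 4]), (82, [4, 7, 6, 6]), (308, [5, 5, 7, 4, 7]),
  (198, [7, 6]), (190, [6, 4, 7, 6, 4]), (200, [5, 7, 5, 7, 5, 5, 4]), (236, [7, 6, 6, 4, 4, 4, 4]), (85, [7, 7, 5, 6, 4, 5]), (210, [5, 4, 5, 7, 4]),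
  (168, [4, 7, 6, 6]), (173, [5, 7, 4, 4, 6, 5]), (9, [5, 5, 4, 4, 7, 5]), (86, [6, 4, 5, 6, 6, 4, 4]), (257, [5, 5, 4, 6, 4, 4]), (157, [5, 6, 5, 5]),
  (118, [6, 4, 7, 5, 4]), (74, [7, 7, 5]), (12, [6, 4, 7, 5, 4]), (303, [4, 7, 4, 6, 7, 5]), (227, [6, 4, 4, 7, 7]), (183, [6, 5, 7, 7]),
  (81, [5, 6, 5, 4, 4, 7]), (23, [4, 7, 5, 6]), (186, [7, 4, 7, 7]), (37, [4, 6, 4, 7, 7, 4]), (139, [5, 5, 4, 4, 4, 4]), (213, [4, 5, 5, 7, 6, 6])]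

/-- Part of `chainCert0`. -/
def chainCert044 : List (ℕ × List ℕ) := [
  (222, [5, 7, 5, 7, 5, 5, 4]), (65, [5, 7, 6, 5, 5, 5, 4]), (32, [5, 7, 4, 4, 7, 6, 4]), (104, [7, 5, 6, 5, 4, 4]), (58, [7, 6, 5, 5, 4, 5]), (175, [4, 4, 4, 7, 6, 5]),
  (7, [6, 5, 5, 4, 6]), (169, [6, 5, 5, 7]), (8, [6, 5, 7, 6, 4]), (116, [4, 4, 7, 6, 4]), (216, [6, 5, 6, 6, 5, 4, 4]), (297, [6, 4, 4, 6, 6, 5]),
  (108, [4, 5, 4, 6]), (126, [7, 5, 7, 4, 5, 6]), (238, [7, 6]), (226, [6, 5, 6, 7, 5, 4]), (201, [6, 4, 5, 7, 6]), (53, [5, 6, 7, 4, 7, 5, 4]),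
  (225, [7, 6]), (124, [4, 6, 4, 5]), (62, [5, 6, 7, 5, 5, 5]), (69, [6, 6, 5, 6, 6]), (244, [5, 6, 5, 6]), (279, [5, 5, 4, 4, 5, 4, 4]),
  (229, [7, 4, 5, 6, 7, 4]), (30, [7, 4, 7, 4, 7]), (45, [4, 4, 7, 6]), (77, [7, 4, 4, 5, 7]), (250, [5, 6, 5, 6]), (171, [4, 7, 7, 4, 6, 4]),
  (92, [7, 4, 4, 6, 7]), (253, [7, 6, 5, 7, 6, 4]), (254, [4, 5, 5, 7, 6, 4, 5]), (196, [4, 6, 4, 6, 4, 5]), (281, [7, 6, 5, 7, 7, 4]), (262, [5, 6, 7, 5, 7, 7]),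
  (197, [5, 7, 6, 6, 4, 7]), (252, [5, 6, 4, 4, 5, 4, 6]), (78, [5, 6, 5, 7, 4]), (66, [5, 5, 5, 4, 6]), (208, [6, 4, 4, 7, 6, 4, 4]), (128, [6, 5]),
  (264, [5, 6, 5, 6]), (280, [6, 5, 5]), (38, [4, 4, 6, 5, 4]), (211, [4, 5, 7, 6, 4]), (204, [4, 4, 4, 7, 6]), (272, [7, 6, 5, 7, 4])]

/-- Part of `chainCert0`. -/
def chainCert045 : List (ℕ × List ℕ) := [
  (27, [7, 4, 4, 5, 7, 4]), (285, [5, 6, 4, 4, 4, 4]), (51, [4, 6, 7, 6, 5]), (242, [7, 7, 6, 5, 7, 7]), (96, [6, 7, 5, 6, 7, 4, 4]), (261, [6, 5, 6, 7, 6, 4]),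
  (137, [7, 6, 4]), (260, [5, 5, 4, 4, 7, 5]), (100, [6, 7, 6, 5, 6]), (193, [5, 5, 4, 5, 6]), (172, [6, 6, 4, 7, 4, 4]), (105, [7, 6, 4, 7, 6, 6]),
  (247, [6, 5, 5, 4, 6]), (49, [7, 6, 4, 5, 4]), (18, [7, 4, 5, 5, 5, 4]), (84, [5, 4, 4, 6, 5, 7, 4]), (130, [4, 6, 6, 4, 4]), (67, [4, 7, 4, 7, 4, 4]),
  (154, [7, 4, 5, 7, 6, 6]), (166, [7, 4, 5, 7, 6]), (59, [7, 6, 5]), (19, [7, 4, 6, 6, 4, 4, 4]), (83, [7, 4, 5, 6, 7, 4]), (293, [7, 4, 4, 7, 4, 6, 4]),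
  (63, [5, 7, 4, 4, 6, 6]), (21, [5, 4, 6, 4, 6, 4]), (141, [5, 6, 7, 5, 7, 7]), (121, [6, 5, 5, 7, 5]), (144, [5, 4, 5, 7, 4, 7]), (117, [5, 5, 7, 5]),
  (52, [5, 4, 4, 4, 7, 5]), (231, [6, 6, 4, 6, 4, 4]), (270, [7, 4]), (221, [6, 7, 6, 5, 5]), (17, [4, 4, 7, 5, 7]), (305, [7, 4, 5, 6, 7, 4]),
  (249, [5, 7, 5, 7, 5, 7]), (142, [6, 4, 4]), (258, [7, 7, 5, 7, 4]), (309, [6, 4, 7, 6, 5, 7]), (298, [6, 7, 4, 7, 5, 4]), (176, [6, 5, 6, 7, 5]),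
  (287, [7, 4, 7, 7]), (230, [5, 7, 4, 5, 7, 6]), (55, [5, 7, 4, 5, 7, 6]), (0, [7]), (227, [6, 4, 4, 7, 6]), (183, [7, 4, 7, 5, 4, 4])]

/-- Part of `chainCert0`. -/
def chainCert046 : List (ℕ × List ℕ) := [
  (146, [4, 4, 7, 7, 4, 5]), (22, [7, 4, 7, 5]), (136, [7, 4, 7, 5, 4]), (6, [7, 5, 4, 5, 7, 5]), (292, [5, 7, 7, 6, 4, 5]), (117, [6, 7, 5, 6, 4, 5]),
  (212, [5, 4, 4, 5, 7, 4, 4]), (52, [6, 7, 6, 5, 6, 4]), (11, [7, 4, 4, 7, 4, 4]), (174, [4, 7, 4, 7, 5]), (164, [7, 6, 5, 5, 5, 4, 4]), (190, [4, 5, 6, 4, 7, 6]),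
  (121, [7, 5, 4, 5, 7, 4, 4]), (16, [6, 7, 4, 7, 4, 5]), (44, [7, 4, 4, 6, 7]), (155, [6, 7, 4]), (80, [5, 4, 4, 5, 7]), (27, [7, 7]),
  (264, [4, 4, 7, 6, 6]), (241, [4, 4, 7, 5, 6]), (2, [7, 4, 7, 7, 5]), (18, [6, 7, 6, 5, 6]), (217, [5, 4, 4, 4, 7, 7]), (77, [4, 7, 4, 4, 6, 4]),
  (247, [7, 7, 4, 4, 4, 4]), (149, [4, 4, 5, 4, 6, 5]), (49, [4, 5, 6, 4, 5, 4, 4]), (145, [5, 7, 5, 4, 4, 4, 4]), (281, [7, 7, 6, 5, 6, 7]), (179, [6, 7, 5, 6, 5, 4, 4]),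
  (105, [4, 5, 7, 5, 4, 5]), (119, [4, 4, 7, 4, 7, 4, 4]), (35, [7, 4, 7, 6, 4]), (36, [4, 7, 5, 4, 5]), (28, [5, 7]), (141, [5, 4, 4, 7, 7, 4]),
  (268, [7, 5, 6, 7, 5, 7]), (189, [7, 7, 5, 6, 7, 6]), (45, [6, 7, 4, 7, 4, 5]), (48, [4, 6, 4, 4, 6, 5]), (43, [6, 7, 4, 6, 4]), (112, [5, 7, 5, 7, 5, 5]),
  (296, [5, 6, 7, 6, 5, 4]), (46, [6, 4, 6, 4]), (12, [7, 6, 5, 5, 5, 4, 4]), (202, [7, 5, 7, 6, 4]), (283, [5, 6, 5, 4, 4, 4]), (171, [5, 4, 4, 4, 6, 4])]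

/-- Part of `chainCert0`. -/
def chainCert047 : List (ℕ × List ℕ) := [
  (262, [4, 4, 5, 4, 4, 4]), (300, [4, 5, 5, 7, 7]), (173, [4, 7, 5, 6, 6, 5]), (54, [6, 7, 4, 7, 4, 5]), (172, [7, 6, 4, 7]), (21, [6, 5, 7, 4, 6, 5]),
  (143, [4, 7, 4, 6, 7]), (226, [4, 6, 6, 4, 7, 6]), (200, [4, 6, 5, 7, 5]), (60, [6, 7]), (61, [4, 6, 7, 4, 7, 4]), (50, [6, 4, 7, 6, 5, 7]),
  (177, [5, 7, 5, 7, 5, 5]), (178, [6, 4, 6, 5, 5, 4]), (110, [4, 7, 5, 7, 7]), (255, [4, 6, 6, 4, 5, 5]), (287, [5, 6, 7]), (64, [4, 5, 7, 7]),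
  (265, [5, 7, 4, 5, 4, 5]), (59, [6, 5, 6, 4, 4, 4]), (162, [6, 4, 7, 4, 5, 5]), (72, [5, 5, 7, 7, 4, 6]), (73, [5, 5, 7, 7, 4, 6]), (165, [6, 5, 5, 7, 5]),
  (303, [7, 6, 4, 7, 4, 5, 5]), (93, [5, 4, 4, 7, 7, 4]), (249, [6, 4, 4, 6, 5, 5]), (239, [7, 4, 6, 5, 5, 4]), (276, [5, 5, 7, 5, 5, 5]), (152, [6, 7, 4, 7, 5]),
  (14, [6, 7, 4, 6, 4]), (275, [4, 7, 6, 4]), (120, [5, 6, 7, 5, 7, 6]), (309, [4, 6, 5, 4, 4, 4]), (85, [7, 4, 6, 4, 6]), (38, [7, 6, 5, 5, 5, 4, 4]),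
  (161, [5, 4, 4, 6, 7]), (88, [4, 6, 7, 4, 6]), (233, [5, 7, 5, 4, 5]), (90, [6, 7]), (91, [4, 6, 4, 6]), (53, [5, 6, 4, 7, 5, 6]),
  (167, [6, 5, 5, 4, 4, 5]), (94, [7, 5, 4, 5, 7, 5]), (248, [7, 4, 6, 5, 6, 4]), (274, [4, 7, 5, 4, 5]), (154, [4, 6, 7, 6, 6]), (277, [4, 5, 4, 5])]

/-- Part of `chainCert0`. -/
def chainCert048 : List (ℕ × List ℕ) := [
  (132, [7, 6, 4, 5, 6, 5]), (232, [6, 6, 4, 7, 5]), (307, [6, 7, 5, 6, 4]), (102, [4, 6, 4, 5, 4, 4, 4]), (107, [6, 7, 4, 6, 4]), (158, [6, 7, 5, 5, 7, 7]),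
  (214, [5, 7]), (201, [7, 4, 5, 6, 4]), (191, [7, 7, 4, 6, 6, 4]), (108, [6, 5, 7, 4, 6, 4]), (55, [5, 5, 4, 4, 4, 4]), (123, [5, 6, 7, 6, 5, 4]),
  (67, [6, 5, 6, 5, 4]), (17, [4, 5, 6, 4, 5, 4, 4]), (113, [4, 6, 7, 4, 7, 4]), (228, [5, 4, 6, 4, 6, 5]), (3, [4, 6, 6, 4, 5, 5, 4]), (7, [4, 4, 7, 7, 4, 5]),
  (137, [5, 7, 6, 4, 4, 4]), (238, [7, 7, 5, 4, 4, 4]), (311, [7, 5, 7, 6, 4]), (231, [5, 4, 5, 7]), (251, [6, 6, 5, 6, 5]), (122, [6, 4, 7, 6, 5, 7]),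
  (65, [6, 7, 4, 5, 5, 7]), (124, [6, 7, 4, 7, 5, 4, 4]), (215, [5, 6, 7, 4, 6, 7]), (71, [4, 4, 6, 7]), (298, [7, 4, 5, 6, 6, 5]), (30, [6, 5, 7, 4]),
  (253, [4, 6, 4, 7, 4]), (282, [6, 5, 5, 4, 4]), (79, [7, 4, 4, 6, 6]), (142, [4, 7, 7, 4, 7]), (236, [6, 7, 6, 4, 5, 5]), (279, [5, 6, 5, 6, 4, 7]),
  (106, [4, 6, 7, 4, 7, 5]), (148, [6, 7, 4, 7, 5]), (8, [6, 6, 5, 6, 5]), (118, [7, 4, 5, 7, 6, 5]), (216, [5, 6, 7, 5, 7, 6, 5]), (153, [4, 6, 4, 4, 5, 4]),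
  (86, [5, 5, 7, 5, 5]), (99, [7, 5, 7, 6, 4]), (207, [4]), (144, [6, 7, 4, 6, 4]), (128, [4, 5, 6, 4, 4, 5]), (115, [4, 7, 7, 5, 6, 5])]

/-- Part of `chainCert0`. -/
def chainCert049 : List (ℕ × List ℕ) := [
  (147, [5, 7, 6, 5, 5, 5]), (5, [4, 5, 5, 5, 4, 5]), (37, [4, 6, 4, 4, 5, 5]), (31, [4, 6, 7, 6, 5, 7, 4]), (1, [4, 4, 6, 5, 7]), (19, [4, 5, 4, 6, 5, 5]),
  (188, [5, 5, 7, 6, 5]), (288, [7, 6, 5, 5, 5, 4, 4]), (24, [6, 4, 4, 5, 4, 6]), (209, [5, 4, 6, 5, 7, 5]), (299, [7, 6, 6, 4, 6, 4]), (294, [7, 7, 5, 4, 4, 6]),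
  (25, [7, 6, 4, 7, 4, 5]), (96, [4, 4, 7, 5, 4]), (210, [4, 5, 7, 4, 5, 4]), (126, [5, 7, 4, 6, 4, 4]), (163, [6, 6, 4, 5, 5, 7]), (180, [7]),
  (267, [7, 6, 5, 5, 5, 4, 4]), (304, [5, 4, 4, 4, 7, 6, 4]), (76, [6, 7, 5, 6, 5, 4, 4]), (39, [7, 4, 7, 5, 4]), (254, [6, 7, 6, 5, 7, 4]), (170, [4, 7, 4, 7, 6]),
  (62, [7, 4, 7, 5, 4]), (109, [4, 6, 4, 4, 6]), (92, [5, 4, 4, 5, 7, 5]), (47, [5, 4, 4, 6, 5, 4]), (256, [5, 6, 5, 4, 4, 7]), (32, [6, 7, 6, 5, 6, 4]),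
  (225, [4, 5, 6, 4, 5, 4, 4]), (68, [6, 7, 6, 4, 4, 5]), (176, [5, 7, 6, 4, 6, 4]), (13, [4, 6, 6, 4, 5, 5, 4]), (175, [4, 7, 4, 5]), (260, [6, 7, 6, 4, 6]),
  (23, [5, 5, 7, 5, 5, 7]), (273, [6, 4, 5, 4, 4, 4]), (100, [6, 7, 4, 4, 4]), (186, [6, 4, 7, 6, 5, 7]), (240, [4, 7, 6, 5, 5]), (140, [4, 7, 6, 5, 5]),
  (244, [6, 7, 6, 5, 7, 4]), (81, [5, 7, 4, 5, 5, 7]), (103, [6, 5, 5, 4, 4, 5]), (139, [7, 4, 7, 4]), (69, [6, 7, 5, 5, 7, 7]), (293, [4, 6, 4, 4, 6, 5])]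

/-- Part of `chainCert0`. -/
def chainCert050 : List (ℕ × List ℕ) := [
  (187, [7, 4, 5, 4]), (51, [4, 5, 6, 4, 7, 4]), (197, [5, 5, 7, 7, 4, 6]), (198, [5, 5, 7, 7, 4, 6]), (278, [6, 5, 4, 4, 7, 4]), (70, [5, 7, 4, 7, 6, 5, 4]),
  (135, [6, 7, 4]), (42, [6, 7, 4, 6, 4]), (133, [6, 5, 4, 5]), (204, [4, 4, 7, 4, 7, 5]), (98, [7, 4, 5, 6, 4]), (166, [4, 6, 4, 5, 4, 4, 4]),
  (57, [6, 4, 4, 5, 7, 4]), (66, [6, 5, 7, 4, 6, 5]), (230, [6, 4, 5, 4, 6, 4]), (87, [5, 6, 7, 5, 5, 5, 4]), (211, [7, 4, 7, 5, 4, 4]), (289, [5, 6, 7, 5, 5, 5, 4]),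
  (75, [7, 6, 5, 6, 7, 4]), (33, [5, 7, 6, 4, 6, 4]), (291, [6, 7, 6, 5, 6, 4]), (192, [7, 7, 6, 5]), (159, [7, 5]), (194, [6, 7, 4, 7, 5]),
  (219, [7]), (199, [5, 7, 4, 7, 6, 6]), (221, [6, 6]), (58, [4, 4, 7, 7, 6]), (223, [7, 4, 7, 6, 4]), (101, [6, 6, 4, 5]),
  (63, [7, 4, 4, 6, 7]), (222, [4, 6, 6, 4, 6]), (151, [4, 6, 4, 6, 4, 5]), (301, [5, 4, 6, 4, 7]), (229, [7, 5, 7, 5, 5, 4]), (156, [4, 4, 7, 6, 6]),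
  (83, [5, 6, 6, 4, 4, 6]), (185, [7, 4, 6, 6, 4, 4, 4]), (242, [6, 7, 5, 5, 4, 6]), (129, [5, 4, 6, 5, 5]), (235, [7, 4, 7, 6, 4]), (203, [7, 7, 4, 4, 6]),
  (237, [4, 6, 4, 6]), (138, [4, 5, 6, 6]), (259, [7, 4, 6, 5, 5, 4, 5]), (195, [7, 7, 6, 5, 5, 4]), (4, [4, 6, 7, 4, 7, 5]), (89, [4, 7, 6, 5, 7, 5])]

/-- Part of `chainCert0`. -/
def chainCert051 : List (ℕ × List ℕ) := [
  (245, [7, 7, 4, 4, 6]), (40, [6, 4, 4, 7, 6]), (314, [4, 7, 5, 7, 4, 4]), (169, [7, 6, 4, 7, 6, 6]), (20, [5, 5, 7, 5, 5, 5]), (266, [4, 6, 5, 5, 5]),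
  (26, [6, 7, 5, 5, 7, 7]), (258, [7, 6, 5, 7, 4]), (15, [4, 6, 4, 6, 4]), (182, [6, 4, 4, 5, 4, 6]), (234, [7, 5, 4, 4, 4, 6]), (246, [7, 5, 7, 4, 5, 6]),
  (208, [7, 6, 6, 4, 7, 4, 4]), (181, [4, 5, 6, 4, 5, 4, 4]), (269, [5, 4, 4, 5, 7, 5]), (308, [6, 7, 5, 7, 6]), (78, [4, 4, 7, 4, 7, 7]), (252, [7, 5, 7, 4]),
  (257, [7, 5, 4, 4, 4, 6, 4]), (196, [6, 7, 4, 7, 4, 4, 4]), (286, [7, 7, 5, 4, 4, 5, 4]), (56, [6, 4, 7, 6, 4, 5, 4]), (193, [7, 4, 4, 4]), (95, [6, 6, 4, 5, 6, 4]),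
  (74, [4, 4, 5, 5, 5, 4, 5]), (168, [4, 7, 7, 4, 4, 4]), (261, [4, 5, 4, 6, 5]), (263, [7, 5, 4, 5, 7, 5]), (84, [5, 7, 5, 4, 4, 4, 4]), (82, [6, 7, 6, 4, 5, 4]),
  (297, [7, 4, 7]), (160, [7, 5, 5, 4, 5]), (272, [5, 7, 6, 4, 6, 4]), (131, [6, 6, 5, 6, 4]), (205, [7, 5, 7, 4, 7, 4]), (220, [5, 6, 7, 4, 7, 5]),
  (280, [5, 5, 4, 4, 7, 4, 4]), (134, [7, 6, 5, 5, 4]), (150, [6, 4, 5, 5, 4]), (302, [4, 6, 7, 5, 4]), (29, [5, 5, 7, 5, 5]), (284, [7, 4, 6, 4, 6]),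
  (285, [4, 6, 4, 6, 5, 7]), (270, [6, 4, 5, 6, 4, 4]), (111, [4, 5, 5, 7, 6]), (97, [4, 7, 6, 5, 7]), (9, [7, 4, 7, 7, 5]), (290, [6, 4, 7, 4, 7])]

/-- Part of `chainCert0`. -/
def chainCert052 : List (ℕ × List ℕ) := [
  (125, [6, 7, 5, 6, 5]), (116, [5, 5, 7, 5, 5, 5]), (218, [5, 4, 5, 7, 4, 4]), (104, [5, 4, 6, 4, 6]), (295, [7]), (41, [5, 4, 4, 5, 4]),
  (184, [7, 4, 4, 5, 4]), (310, [5, 6, 7, 5, 6]), (313, [7, 4, 5, 7, 6]), (10, [4, 5, 4, 5]), (114, [6, 4, 6, 4, 6, 4]), (130, [7, 5, 7, 6, 4, 6, 4]),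
  (213, [6, 7, 4, 7, 4, 4, 4]), (206, [6, 6]), (305, [4, 4, 7, 4, 7, 5]), (306, [6, 5, 7, 4, 6, 4]), (224, [7, 5, 4, 4, 4, 4]), (250, [5, 6, 4, 7, 7, 4]),
  (271, [6, 6, 4, 6]), (127, [6, 4, 4, 6, 7, 5]), (34, [4, 7, 7, 4, 6, 5]), (312, [7, 4, 5, 6, 7, 4]), (157, [4, 4, 6, 6, 5]), (243, [7, 4, 5, 4])]

/-- Certificate of level 0. -/
def chainCert0 : List (ℕ × List ℕ) :=
  List.flatten [chainCert00, chainCert01, chainCert02, chainCert03, chainCert04, chainCert05, chainCert06, chainCert07, chainCert08, chainCert09, chainCert010, chainCert011, chainCert012, chainCert013, chainCert014, chainCert015, chainCert016, chainCert017, chainCert018, chainCert019, chainCert020, chainCert021, chainCert022, chainCert023, chainCert024, chainCert025, chainCert026, chainCert027, chainCert028, chainCert029,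 chainCert030, chainCert031, chainCert032, chainCert033, chainCert034, chainCert035, chainCert036, chainCert037, chainCert038, chainCert039, chainCert040, chainCert041, chainCert042, chainCert043, chainCert044, chainCert045, chainCert046, chainCert047, chainCert048, chainCert049, chainCert050, chainCert051, chainCert052]

/-- Level 0. -/
def level0 : Lev := ⟨304, [0, 1, 2, 3, 4, 5, 6, 7], chainWords0, chainCert0⟩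

/-- Part of `chainWords1`. -/
def chainWords10 : List (List ℕ) := [
  [], [4], [5], [4, 4], [5, 4], [6, 4],
  [7, 4], [4, 5], [5, 5], [6, 5], [7, 5], [4, 4, 4],
  [5, 4, 4], [6, 4, 4], [7, 4, 4], [4, 5, 4], [5, 5, 4], [4, 6, 4],
  [5, 6, 4], [6, 6, 4], [7, 6, 4], [4, 7, 4], [5, 7, 4], [6, 7, 4],
  [7, 7, 4], [4, 4, 5], [6, 4, 5], [7, 4, 5], [4, 5, 5], [7, 5, 5],
  [4, 6, 5], [5, 6, 5], [6, 6, 5], [7, 6, 5], [4, 7, 5], [5, 7, 5],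
  [6, 7, 5], [7, 7, 5], [5, 4, 4, 4], [6, 4, 4, 4], [7, 4, 4, 4], [4, 5, 4, 4],
  [5, 5, 4, 4], [6, 5, 4, 4], [7, 5, 4, 4], [4, 6, 4, 4], [5, 6, 4, 4], [6, 6, 4, 4]]

/-- Part of `chainWords1`. -/
def chainWords11 : List (List ℕ) := [
  [7, 6, 4, 4], [4, 7, 4, 4], [5, 7, 4, 4], [6, 7, 4, 4], [7, 7, 4, 4], [4, 4, 5, 4],
  [7, 4, 5, 4], [5, 5, 5, 4], [6, 5, 5, 4], [7, 5, 5, 4], [7, 4, 6, 4], [4, 5, 6, 4],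
  [6, 5, 6, 4], [7, 5, 6, 4], [4, 6, 6, 4], [5, 6, 6, 4], [7, 6, 6, 4], [4, 7, 6, 4],
  [5, 7, 6, 4], [6, 7, 6, 4], [7, 7, 6, 4], [4, 4, 7, 4], [6, 4, 7, 4], [7, 4, 7, 4],
  [4, 5, 7, 4], [5, 5, 7, 4], [6, 5, 7, 4], [4, 6, 7, 4], [5, 6, 7, 4], [4, 7, 7, 4],
  [5, 4, 4, 5], [6, 4, 4, 5], [7, 4, 4, 5], [5, 6, 4, 5], [4, 7, 4, 5], [5, 7, 4, 5],
  [4, 4, 5, 5], [5, 4, 5, 5], [6, 4, 5, 5], [7, 4, 5, 5], [5, 7, 5, 5], [6, 7, 5, 5],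
  [4, 4, 6, 5], [7, 4, 6, 5], [6, 5, 6, 5], [7, 5, 6, 5], [5, 7, 6, 5], [7, 7, 6, 5]]

/-- Part of `chainWords1`. -/
def chainWords12 : List (List ℕ) := [
  [4, 4, 7, 5], [7, 4, 7, 5], [4, 5, 7, 5], [7, 5, 7, 5], [5, 6, 7, 5], [4, 5, 4, 4, 4],
  [4, 7, 4, 4, 4], [7, 7, 4, 4, 4], [4, 5, 5, 4, 4], [5, 5, 5, 4, 4], [6, 5, 5, 4, 4], [4, 6, 5, 4, 4],
  [5, 6, 5, 4, 4], [4, 7, 5, 4, 4], [5, 7, 5, 4, 4], [4, 4, 6, 4, 4], [5, 6, 6, 4, 4], [6, 7, 6, 4, 4],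
  [7, 7, 6, 4, 4], [4, 4, 7, 4, 4], [7, 4, 7, 4, 4], [4, 5, 7, 4, 4], [6, 5, 7, 4, 4], [7, 5, 7, 4, 4],
  [5, 6, 7, 4, 4], [4, 4, 4, 5, 4], [4, 7, 4, 5, 4], [5, 7, 4, 5, 4], [6, 7, 4, 5, 4], [4, 6, 5, 5, 4],
  [7, 7, 4, 6, 4], [5, 6, 5, 6, 4], [7, 6, 5, 6, 4], [4, 4, 6, 6, 4], [7, 4, 6, 6, 4], [4, 5, 6, 6, 4],
  [6, 7, 6, 6, 4], [7, 7, 6, 6, 4], [4, 5, 7, 6, 4], [7, 5, 7, 6, 4], [5, 6, 7, 6, 4], [5, 4, 4, 7, 4],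
  [7, 6, 4, 7, 4], [6, 7, 4, 7, 4], [5, 4, 5, 7, 4], [6, 5, 5, 7, 4], [7, 5, 5, 7, 4], [4, 6, 5, 7, 4]]

/-- Part of `chainWords1`. -/
def chainWords13 : List (List ℕ) := [
  [7, 5, 6, 7, 4], [4, 4, 7, 7, 4], [6, 4, 7, 7, 4], [7, 5, 4, 4, 5], [4, 7, 4, 4, 5], [7, 4, 7, 4, 5],
  [6, 4, 4, 5, 5], [5, 6, 7, 5, 5], [4, 4, 4, 6, 5], [5, 4, 4, 6, 5], [7, 7, 5, 6, 5], [6, 5, 7, 6, 5],
  [4, 7, 7, 6, 5], [7, 7, 5, 7, 5], [5, 4, 5, 5, 4, 4], [6, 6, 5, 5, 4, 4]]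

/-- Transversal of level 1. -/
def chainWords1 : List (List ℕ) :=
  List.flatten [chainWords10, chainWords11, chainWords12, chainWords13]

/-- Part of `chainCert1`. -/
def chainCert10 : List (ℕ × List ℕ) := [
  (1, []), (3, []), (7, []), (11, []), (15, []), (17, []),
  (21, []), (25, []), (28, []), (30, []), (34, []), (22, [7, 7, 6, 6]),
  (41, []), (45, []), (49, []), (53, []), (31, [7, 7, 6, 6]), (29, [6, 7]),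
  (59, []), (62, []), (65, []), (69, []), (72, []), (75, []),
  (77, []), (35, [6]), (61, [6, 7]), (82, []), (84, []), (60, [7, 6]),
  (90, []), (5, [6, 6]), (37, [7, 7, 6]), (93, [7, 7, 6, 6]), (96, []), (98, []),
  (55, [7, 7, 6]), (74, [7, 7]), (101, []), (9, [6, 7, 6, 6]), (102, []), (4, [6, 7, 6]),
  (104, []), (107, []), (109, []), (111, []), (51, [7, 7, 6]), (73, [7, 6])]

/-- Part of `chainCert1`. -/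
def chainCert11 : List (ℕ × List ℕ) := [
  (8, [6, 7, 6]), (115, []), (117, []), (27, []), (47, [6, 7, 6]), (121, []),
  (122, []), (40, [6]), (125, []), (85, []), (23, [6, 6]), (54, [7, 7, 6]),
  (79, [7, 6]), (114, [7, 6, 6]), (129, []), (131, []), (91, [6, 7, 6]), (99, [6]),
  (134, []), (103, [7, 7, 6, 6]), (0, [7, 7, 6]), (32, [7, 6]), (20, [7, 7]), (106, [7, 6]),
  (26, [7, 7, 6]), (66, [6, 6]), (143, []), (130, [6, 7, 6, 6]), (139, [7, 6, 6]), (145, []),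
  (86, [7, 7]), (63, [7, 6]), (148, []), (92, [6, 7, 6, 6]), (10, [7, 6, 6]), (87, [7, 7, 6]),
  (67, [7, 6]), (116, [7, 7]), (6, [6, 7, 6, 6]), (127, [7, 7, 6, 6]), (39, [7, 6, 6]), (126, [6]),
  (152, []), (146, [7, 6, 6]), (147, [6, 6]), (144, []), (16, [6, 7, 6, 6]), (156, [])]

/-- Part of `chainCert1`. -/
def chainCert12 : List (ℕ × List ℕ) := [
  (64, [7, 7]), (44, [7]), (140, [7, 7, 6]), (124, [6, 7, 6]), (89, [7, 7, 6]), (95, [7, 7, 6]),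
  (83, [7, 7]), (97, [6, 6]), (100, [6]), (128, [6]), (118, [6]), (76, [6, 7, 6]),
  (141, [7, 6]), (159, [6, 6]), (33, [6, 7, 6]), (36, [7, 6]), (105, [6, 7, 6]), (155, [7, 6, 6]),
  (68, []), (138, [7, 7, 6, 6]), (112, [7]), (135, [6, 7, 6]), (108, [7, 7, 6]), (42, [6, 7]),
  (2, [7, 7, 6, 6]), (123, [6, 7, 6, 6]), (151, [7, 7, 6, 6]), (81, [6, 7, 6]), (71, [6, 7, 6]), (137, [6, 7]),
  (133, [7, 7, 6, 6]), (13, []), (110, [6, 7]), (120, [6, 7, 6]), (136, [6, 7, 6, 6]), (94, [6, 7, 6]),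
  (78, [6, 7, 6]), (142, [7]), (18, [6, 7]), (80, [6, 7]), (50, [6, 7, 6, 6]), (150, [6, 7, 6]),
  (88, [6, 6]), (149, [7, 7, 6]), (19, [7]), (70, [6, 7, 6, 6]), (113, [7, 7, 6]), (132, [6, 6])]

/-- Part of `chainCert1`. -/
def chainCert13 : List (ℕ × List ℕ) := [
  (57, [6, 6]), (157, [7, 7, 6, 6]), (46, [6, 7, 6, 6]), (12, [7, 6]), (58, [6, 7]), (158, [7, 6, 6]),
  (43, [6, 7, 6]), (52, [7, 7]), (14, [6, 7]), (154, [6, 6]), (24, [7, 7, 6, 6]), (119, [6, 7, 6]),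
  (153, [7, 7]), (38, []), (56, [7]), (48, [6, 7, 6, 6]), (2, []), (4, []),
  (8, []), (12, []), (16, []), (18, []), (22, []), (5, [7, 7, 6]),
  (15, [7, 7]), (31, []), (35, []), (38, []), (42, []), (46, []),
  (50, []), (0, [7]), (55, []), (10, [7, 7, 6]), (56, []), (63, []),
  (66, []), (44, []), (73, []), (76, []), (39, [6]), (78, []),
  (81, []), (83, []), (85, []), (88, []), (23, [7, 7, 6]), (25, [7, 6, 6])]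

/-- Part of `chainCert1`. -/
def chainCert14 : List (ℕ × List ℕ) := [
  (49, [6, 7, 6]), (94, []), (20, [7, 7, 6]), (57, [7]), (100, []), (64, []),
  (82, [7, 6, 6]), (58, [7]), (34, [7, 6, 6]), (6, []), (105, []), (108, []),
  (110, []), (104, [7, 7, 6]), (106, []), (112, []), (77, [6, 7, 6, 6]), (79, [7, 7, 6]),
  (84, [6, 7]), (120, []), (107, [7, 7]), (114, [7, 7, 6, 6]), (123, []), (1, []),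
  (7, [7, 7, 6]), (17, [6, 6]), (109, [6, 7, 6, 6]), (93, [6]), (127, []), (121, []),
  (32, [7, 7, 6]), (52, [7]), (111, [6, 7]), (37, [7, 7, 6]), (40, [6, 7, 6]), (136, []),
  (54, [6, 7]), (137, []), (96, [7, 7, 6, 6]), (51, [6]), (140, []), (41, []),
  (68, [6, 7, 6, 6]), (33, [7, 7, 6]), (141, []), (36, [7, 7, 6]), (9, [7, 6, 6]), (62, [6, 7, 6])]

/-- Part of `chainCert1`. -/
def chainCert15 : List (ℕ × List ℕ) := [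
  (143, []), (60, [7, 7, 6]), (147, []), (118, [7, 7, 6]), (101, [7, 7, 6, 6]), (80, [6, 7, 6, 6]),
  (27, [7]), (113, [7, 7, 6]), (135, [7, 7, 6]), (151, []), (153, []), (53, [7, 6, 6]),
  (72, [7, 7, 6]), (67, [7, 6]), (152, [7, 7, 6, 6]), (87, [6, 6]), (98, [6, 7]), (92, [6, 7]),
  (149, [7, 6, 6]), (45, [7, 7, 6]), (48, [7, 7]), (14, []), (142, [7, 7, 6, 6]), (95, [7, 6]),
  (158, []), (3, []), (122, [6, 7]), (19, []), (102, [7, 6, 6]), (24, []),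
  (130, [7, 6, 6]), (65, [6]), (159, []), (103, [6, 6]), (154, [6, 7, 6, 6]), (117, [6]),
  (29, [7]), (125, [6]), (86, [7, 6]), (145, [6, 6]), (150, [6, 7]), (133, [7, 7, 6]),
  (13, [7, 7, 6, 6]), (74, [7, 7, 6]), (115, [6, 7, 6, 6]), (124, [7, 6, 6]), (156, [6, 6]), (26, [7, 7, 6])]

/-- Part of `chainCert1`. -/
def chainCert16 : List (ℕ × List ℕ) := [
  (131, [7, 6, 6]), (128, [7]), (21, [7, 6, 6]), (146, []), (139, [6, 7, 6]), (144, [7]),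
  (138, [7]), (116, [7, 6]), (59, [7, 6, 6]), (119, [6, 7, 6]), (157, [6, 7, 6, 6]), (126, [6, 7, 6, 6]),
  (97, [6, 7, 6, 6]), (30, [7, 7, 6]), (43, [7, 7]), (28, [7, 6]), (61, [6, 6]), (69, [6, 7, 6, 6]),
  (129, [6, 6]), (11, [7, 6, 6]), (47, [7, 7, 6]), (70, [7, 6, 6]), (71, [6, 7, 6]), (90, [7, 7, 6, 6]),
  (75, [7, 6]), (89, [6, 7]), (91, [6]), (134, [7, 7, 6]), (132, [7, 7, 6]), (155, [7, 7, 6, 6]),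
  (99, []), (148, [7, 7, 6]), (0, [6]), (5, []), (9, []), (13, []),
  (4, [7, 7, 6, 6]), (19, []), (23, []), (26, []), (8, [6]), (32, []),
  (36, []), (39, []), (43, []), (47, []), (51, []), (25, [6])]

/-- Part of `chainCert1`. -/
def chainCert17 : List (ℕ × List ℕ) := [
  (56, []), (17, [6, 7]), (60, []), (1, []), (67, []), (70, []),
  (74, []), (68, []), (64, []), (79, []), (63, [6, 7, 6, 6]), (69, [7, 6]),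
  (86, []), (89, []), (30, [6, 6]), (92, []), (2, []), (12, [7, 7, 6]),
  (94, [7, 6, 6]), (35, [7, 7]), (95, []), (53, []), (80, [7, 7, 6]), (96, [6, 7, 6]),
  (59, [7, 7, 6]), (54, [7, 7, 6]), (106, []), (33, [7, 7, 6]), (37, [7, 7, 6]), (88, [7, 7, 6]),
  (29, [7, 6, 6]), (3, []), (113, []), (78, [6, 6]), (118, []), (114, []),
  (16, [7, 7]), (44, [7, 7, 6]), (124, []), (55, [7, 7, 6, 6]), (52, [7]), (48, [7]),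
  (65, [7]), (61, [6, 7, 6]), (107, [7, 7, 6, 6]), (40, [7, 6, 6]), (31, [6, 7]), (7, [7, 6])]

/-- Part of `chainCert1`. -/
def chainCert18 : List (ℕ × List ℕ) := [
  (132, []), (126, [6]), (75, [7, 6, 6]), (133, []), (6, []), (101, [7]),
  (137, [6, 7, 6]), (139, []), (72, [6, 7, 6, 6]), (141, []), (117, [7, 6]), (138, [7]),
  (76, [7, 6]), (146, []), (140, [6, 7, 6]), (15, [6, 6]), (83, [7, 7, 6]), (81, [7]),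
  (109, [7, 7]), (38, []), (150, []), (120, [6, 7, 6, 6]), (147, [6]), (77, [6, 7]),
  (144, [7]), (46, [7, 6, 6]), (122, [6]), (84, [7, 6, 6]), (62, [7, 7, 6, 6]), (151, [7, 6]),
  (155, []), (10, []), (11, [6, 7, 6]), (97, [6, 7, 6, 6]), (145, [6, 6]), (148, [6, 7, 6]),
  (128, [6, 7, 6]), (27, [7, 7, 6]), (152, [6]), (100, [7, 7, 6]), (112, [7, 6, 6]), (102, [7, 6, 6]),
  (159, []), (18, [6, 7]), (136, [7, 6, 6]), (149, [6, 7, 6]), (98, []), (154, [7, 6, 6])]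

/-- Part of `chainCert1`. -/
def chainCert19 : List (ℕ × List ℕ) := [
  (134, []), (57, [7, 7]), (14, []), (115, [7, 7]), (121, [6, 7, 6, 6]), (22, [6, 7, 6, 6]),
  (119, [7, 6]), (50, [6, 7, 6, 6]), (156, [7, 6]), (158, [7, 7, 6]), (135, [7]), (73, [7, 7, 6, 6]),
  (41, [7, 7, 6]), (125, [6, 7]), (58, [7, 7, 6, 6]), (127, [7, 7, 6, 6]), (103, [7, 6, 6]), (129, [7, 6]),
  (111, [7, 7]), (131, [6, 7]), (24, []), (20, []), (104, [7, 6, 6]), (90, [6, 7, 6, 6]),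
  (153, [7, 7, 6, 6]), (21, [6, 7, 6]), (66, [6, 7]), (143, [6]), (49, [7, 7, 6, 6]), (123, [6, 7]),
  (93, [7, 6, 6]), (71, [6, 6]), (45, [6, 6]), (110, [6]), (87, [7, 7, 6, 6]), (28, [6, 6]),
  (157, [6, 7]), (82, [6, 7, 6, 6]), (91, [7, 6, 6]), (142, [7, 7, 6, 6]), (105, [7, 6]), (108, [7, 7]),
  (130, [7, 7, 6, 6]), (34, [7, 6, 6]), (85, []), (99, [7]), (116, [7, 7]), (42, [])]

/-- Part of `chainCert1`. -/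
def chainCert110 : List (ℕ × List ℕ) := [
  (0, [7]), (6, []), (10, []), (14, []), (4, [7]), (20, []),
  (24, []), (27, []), (29, []), (33, []), (37, []), (40, []),
  (44, []), (48, []), (52, []), (54, []), (57, []), (58, []),
  (61, []), (64, []), (68, []), (71, []), (63, [7]), (67, []),
  (1, []), (80, []), (74, [6, 7, 6]), (42, [7, 6]), (87, []), (46, [7, 6]),
  (91, []), (93, []), (53, []), (95, []), (97, []), (99, []),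
  (12, [7, 7, 6]), (2, []), (79, [7, 7, 6]), (18, [7, 6, 6]), (103, []), (25, [7]),
  (7, [6, 7, 6, 6]), (32, [7, 7, 6]), (36, [7, 7, 6]), (45, [7, 7]), (8, [6, 7, 6, 6]), (16, [7, 7])]

/-- Part of `chainCert1`. -/
def chainCert111 : List (ℕ × List ℕ) := [
  (114, []), (116, []), (119, []), (113, []), (3, []), (43, [7, 7, 6]),
  (104, [6]), (98, [7, 6, 6]), (51, [7]), (47, [7]), (126, []), (60, [6, 7, 6]),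
  (128, []), (39, [7, 6, 6]), (130, []), (106, [6, 7, 6, 6]), (133, []), (65, [7, 6]),
  (135, []), (132, []), (5, []), (117, [7, 6, 6]), (138, []), (90, [7, 6, 6]),
  (72, [6]), (142, []), (101, [7, 6, 6]), (137, [7, 7, 6, 6]), (144, []), (49, [6, 7, 6]),
  (147, []), (112, [7, 6, 6]), (41, [7, 7]), (81, [6, 7, 6, 6]), (149, []), (134, [6, 7, 6]),
  (84, [6, 7]), (127, [7, 6]), (140, [6, 7, 6, 6]), (121, [6, 7, 6]), (76, [6, 7, 6]), (89, [6]),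
  (21, [7, 6, 6]), (150, [7]), (73, [7, 6, 6]), (154, []), (34, [6, 7]), (9, [])]

/-- Part of `chainCert1`. -/
def chainCert112 : List (ℕ × List ℕ) := [
  (100, [7, 6, 6]), (94, [7, 7, 6, 6]), (110, [6, 6]), (157, []), (107, [6]), (26, [7, 7, 6]),
  (102, [6, 7]), (11, []), (15, [6, 6]), (152, [6, 7]), (22, [6]), (96, [7, 6]),
  (153, [6, 7]), (109, [6, 7]), (55, [7]), (151, [6, 7]), (38, [6, 7, 6]), (56, [7, 7]),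
  (13, []), (82, [6, 7]), (77, [6, 7, 6]), (159, [7, 6, 6]), (118, [7, 6]), (131, [6, 7, 6]),
  (85, [7, 7, 6, 6]), (28, [6, 7, 6]), (75, [6]), (62, [6, 6]), (83, [7, 7, 6, 6]), (105, [6, 7, 6, 6]),
  (17, []), (120, [7, 7, 6]), (59, [6, 7, 6]), (108, [7, 6]), (123, [6]), (50, [6, 7, 6]),
  (23, []), (19, []), (124, [7, 7]), (139, [7, 7, 6, 6]), (136, [7, 7]), (122, [7]),
  (143, [6]), (66, [6, 7]), (146, [7]), (111, []), (92, [7, 6, 6]), (70, [6, 6])]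

/-- Part of `chainCert1`. -/
def chainCert113 : List (ℕ × List ℕ) := [
  (88, [6, 7, 6]), (145, [6]), (86, [7, 7, 6, 6]), (158, [7, 6]), (148, [6, 6]), (115, [7, 7, 6, 6]),
  (30, [7, 7]), (141, [7, 7, 6, 6]), (125, [7, 7, 6]), (129, [7, 7]), (31, []), (155, [7]),
  (156, [6]), (35, []), (78, [6, 7, 6, 6]), (69, [])]

/-- Certificate of level 1. -/
def chainCert1 : List (ℕ × List ℕ) :=
  List.flatten [chainCert10, chainCert11, chainCert12, chainCert13, chainCert14, chainCert15, chainCert16, chainCert17, chainCert18, chainCert19, chainCert110, chainCert111, chainCert112, chainCert113]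

/-- Level 1. -/
def level1 : Lev := ⟨0, [4, 5, 6, 7], chainWords1, chainCert1⟩

/-- Part of `chainWords2`. -/
def chainWords20 : List (List ℕ) := [
  [], [6], [7], [6, 6], [7, 6], [6, 7],
  [7, 7], [7, 6, 6], [6, 7, 6], [7, 7, 6], [6, 7, 6, 6], [7, 7, 6, 6]]

/-- Transversal of level 2. -/
def chainWords2 : List (List ℕ) :=
  List.flatten [chainWords20]

/-- Part of `chainCert2`. -/
def chainCert20 : List (ℕ × List ℕ) := [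
  (1, []), (3, []), (5, []), (0, []), (8, []), (9, []),
  (7, []), (10, []), (11, []), (2, []), (6, []), (4, []),
  (2, []), (4, []), (6, []), (7, []), (9, []), (8, []),
  (0, []), (11, []), (10, []), (1, []), (5, []), (3, [])]

/-- Certificate of level 2. -/
def chainCert2 : List (ℕ × List ℕ) :=
  List.flatten [chainCert20]

/-- Level 2. -/
def level2 : Lev := ⟨2, [6, 7], chainWords2, chainCert2⟩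

/-- Representatives of the five suborbits of the line 304. -/
def subReps : List ℕ := [0, 160, 192, 272, 305]

/-- The number of the suborbit of a line. -/
def subIndex : List ℕ := [
  0, 0, 0, 0, 0, 0, 0, 0, 0, 0, 0, 0, 0, 0, 0, 0, 0, 0, 0, 0, 0, 0, 0, 0, 0,
  0, 0, 0, 0, 0, 0, 0, 0, 0, 0, 0, 0, 0, 0, 0, 0, 0, 0, 0, 0, 0, 0, 0, 0, 0,
  0, 0, 0, 0, 0, 0, 0, 0, 0, 0, 0, 0, 0, 0, 0, 0, 0, 0, 0, 0, 0, 0, 0, 0, 0,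
  0, 0, 0, 0, 0, 0, 0, 0, 0, 0, 0, 0, 0, 0, 0, 0, 0, 0, 0, 0, 0, 0, 0, 0, 0,
  0, 0, 0, 0, 0, 0, 0, 0, 0, 0, 0, 0, 0, 0, 0, 0, 0, 0, 0, 0, 0, 0, 0, 0, 0,
  0, 0, 0, 0, 0, 0, 0, 0, 0, 0, 0, 0, 0, 0, 0, 0, 0, 0, 0, 0, 0, 0, 0, 0, 0,
  0, 0, 0, 0, 0, 0, 0, 0, 0, 0, 1, 1, 1, 1, 1, 1, 1, 1, 1, 1, 1, 1, 1, 1, 1,
  1, 1, 1, 1, 1, 1, 1, 1, 1, 1, 1, 1, 1, 1, 1, 1, 1, 2, 2, 2, 2, 2, 2, 2, 2,
  2, 2, 2, 2, 2, 2, 2, 2, 2, 2, 2, 2, 2, 2, 2, 2, 2, 2, 2, 2, 2, 2, 2, 2, 2,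
  2, 2, 2, 2, 2, 2, 2, 2, 2, 2, 2, 2, 2, 2, 2, 2, 2, 2, 2, 2, 2, 2, 2, 2, 2,
  2, 2, 2, 2, 2, 2, 2, 2, 2, 2, 2, 2, 2, 2, 2, 2, 2, 2, 2, 2, 2, 2, 3, 3, 3,
  3, 3, 3, 3, 3, 3, 3, 3, 3, 3, 3, 3, 3, 3, 3, 3, 3, 3, 3, 3, 3, 3, 3, 3, 3,
  3, 3, 3, 3, 0, 4, 4, 4, 4, 4, 4, 4, 4, 4, 4]

/-- Part of `subWords`. -/
def subWords0 : List (List ℕ) := [
  [], [4, 4, 4, 5, 5, 4, 4], [4, 5, 4, 4, 5, 4], [4, 5, 4, 5], [5, 5, 4, 4, 4], [4, 5, 5, 4, 5],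
  [5, 4, 5, 4, 5, 4, 4], [4, 4, 5, 4, 4, 4, 4], [4, 4, 5, 5, 4, 5, 5], [5, 4, 5], [5, 4, 4, 4, 4], [4, 4, 5, 4, 4, 4],
  [5, 4, 4, 4, 4, 5], [4, 4, 4, 5, 4, 5], [5, 5, 5, 4], [5, 4, 5, 5, 5, 4, 5, 5], [5, 4, 5, 5, 5, 4, 5], [5, 5, 5, 4, 4, 5, 5, 4, 4],
  [5, 4, 5, 5], [4, 5, 4, 5, 5, 4, 4, 5], [4, 5, 4, 5, 5], [4, 5, 4], [4, 4, 4, 5, 4], [4, 5, 5, 5, 4, 5, 5, 4, 4],
  [5, 5, 4, 5, 5, 5, 4], [4, 4, 4, 4, 5, 5, 4, 4], [4, 4, 4, 5, 5, 4, 5], [4, 4, 4, 4, 5, 4, 4, 4, 4, 4], [4, 5, 4, 4, 4, 5, 4], [5, 5, 4, 4, 5],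
  [4, 5, 5, 4, 4, 5], [5, 4, 4, 4, 5], [4, 5, 5, 5, 4, 4], [4, 4, 5, 4, 5, 4, 4, 4], [4, 5, 4, 5, 4, 4, 4], [4, 5, 5, 4, 4],
  [4, 4, 4, 4, 5], [4, 5, 4, 4, 4, 4], [5, 4, 4, 5, 5, 5, 4, 5], [4, 4, 5, 4, 5, 5, 5, 4, 5], [4, 4, 4, 5, 5, 5, 4], [5, 4, 4],
  [4, 5, 4, 4, 4, 4, 4, 4], [4, 4, 4, 5, 5, 5, 4, 4], [5, 5, 4, 4, 5, 4, 5], [4, 4, 5, 5, 5, 4, 4], [5, 4, 4, 5, 4, 4, 4], [5, 5, 5, 4, 5, 5, 4, 4, 5]]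

/-- Part of `subWords`. -/
def subWords1 : List (List ℕ) := [
  [4, 4, 5, 5, 5, 4, 5], [5, 4, 4, 4, 5, 4, 5], [5, 5, 4], [4, 4, 4, 5, 5, 5, 4, 5], [5, 5, 4, 4, 5, 5, 4, 4], [4, 4, 5, 5, 4, 5],
  [5, 4, 5, 4, 4, 4, 4, 4], [5, 5, 4, 5, 4, 4, 4], [5, 4, 4, 4, 5, 5, 4, 4], [4, 5, 5], [5, 4, 5, 5, 4, 5, 5], [5, 5, 5, 4, 4, 5, 4],
  [5, 4, 5, 5, 5, 4, 4], [4, 4, 4, 4], [4, 5, 5, 4, 4, 5, 4, 4, 4], [4, 4, 4, 4, 4], [5, 4, 4, 5, 5, 5, 4, 4], [4, 5, 5, 4, 4, 5, 4],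
  [5, 5, 5, 4, 5, 5], [5, 5, 4, 5, 5, 4, 4, 5], [5, 5, 4, 5, 5, 5, 4, 4], [4, 4, 5, 4, 5], [4, 5, 4, 5, 4, 4, 4, 5, 4], [4, 4, 4, 4, 5, 4, 4, 4],
  [5, 5], [5, 4, 5, 4, 4], [5, 4, 4, 5, 4, 5], [5, 5, 4, 5, 4, 4, 4, 5, 4], [4, 4, 5, 4, 4, 4, 4, 4], [5, 4, 4, 4, 4, 4],
  [4, 4, 5, 5, 4, 4], [5, 4, 4, 5, 4, 4, 4, 4], [4, 4, 4, 4, 5, 4], [4, 5, 4, 5, 5, 5, 4], [5, 5, 4, 4, 4, 5, 4], [4, 5, 5, 4, 5, 5, 5, 4, 4],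
  [5, 5, 4, 4, 4, 4, 5], [4, 5, 4, 4, 5], [4], [4, 4, 4, 5, 4, 4, 4, 4, 4], [4, 4, 4], [5, 4],
  [4, 5, 5, 4, 5, 4, 4, 4], [4, 5, 5, 5, 4], [4, 4, 5, 4, 5, 4, 4], [4, 4, 4, 4, 5, 5], [4, 5, 5, 4, 4, 5, 5, 4, 4], [5, 4, 4, 5, 4, 5, 5]]

/-- Part of `subWords`. -/
def subWords2 : List (List ℕ) := [
  [4, 4, 4, 5, 5], [4, 4, 4, 5, 4, 4, 4], [5, 4, 4, 5, 5, 4, 4], [4, 5, 5, 5, 4, 5, 5], [4, 5, 4, 4, 4, 5, 4, 5], [5, 4, 5, 5, 4, 4, 5],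
  [5, 4, 4, 4, 4, 4, 4], [5, 4, 4, 5, 4], [4, 4, 4, 5], [4, 4, 4, 4, 4, 4], [4, 4, 4, 4, 5, 4, 5, 4, 4], [4, 5, 4, 5, 5, 5, 4, 5],
  [5, 4, 5, 5, 5, 4], [5, 5, 5, 4, 4], [5, 4, 5, 4, 5, 5, 5, 4, 5], [4, 5, 4, 4], [4, 4, 5, 5, 4, 4, 5], [5, 5, 4, 4, 5, 4, 4, 4],
  [5], [4, 4, 5], [5, 5, 4, 5, 5, 4, 4], [4, 4, 4, 5, 5, 4, 4, 5], [5, 4, 4, 4, 4, 5, 4], [5, 5, 4, 4, 4, 4, 4],
  [5, 5, 4, 4, 5, 4, 4, 4, 4], [5, 5, 5, 4, 5], [4, 5, 4, 5, 5, 5, 4, 4], [5, 4, 5, 4, 5], [4, 5, 5, 5, 4, 5], [4, 5, 4, 5, 4, 4],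
  [4, 5, 4, 4, 4], [5, 5, 4, 5, 5], [4, 4, 5, 5], [5, 5, 5, 4, 5, 5, 4, 4], [5, 4, 5, 5, 4, 5], [4, 4, 5, 4, 5, 5, 5, 4],
  [5, 4, 4, 4, 5, 4], [5, 5, 4, 4, 5, 4], [4, 5], [4, 4, 4, 4, 5, 4, 5], [4, 5, 5, 4], [4, 5, 4, 4, 4, 4, 4],
  [5, 4, 4, 4], [5, 5, 4, 4], [5, 4, 5, 4, 4, 5], [4, 4, 5, 4, 5, 5], [4, 4, 5, 5, 5, 4], [4, 5, 4, 5, 4, 5, 4, 4]]

/-- Part of `subWords`. -/
def subWords3 : List (List ℕ) := [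
  [5, 4, 4, 4, 5, 5], [5, 4, 4, 4, 5, 5, 5, 4], [5, 5, 4, 5], [5, 4, 4, 5], [4, 4, 4, 4, 4, 4, 4], [5, 5, 5, 4, 4, 4],
  [5, 4, 5, 4, 4, 4], [5, 4, 5, 4, 4, 4, 5, 4], [5, 4, 5, 5, 4, 4], [4, 5, 4, 4, 5, 4, 5], [4, 4, 5, 4], [4, 4],
  [4, 4, 4, 5, 4, 5, 4, 4], [5, 5, 4, 5, 4, 4, 4, 4, 4], [4, 5, 5, 4, 5, 5, 5, 4], [4, 5, 5, 4, 5, 5], [], [5, 5, 5, 4, 4],
  [4, 5], [4, 4, 5, 5], [5, 5, 5, 4, 5], [4, 5, 5, 4, 4], [5, 4, 5, 5], [4],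
  [4, 4, 5, 5, 4], [5, 5, 4, 4], [5], [4, 5, 4], [4, 5, 4, 4], [5, 4, 5, 4],
  [4, 4, 5], [4, 5, 5, 4], [5, 5, 4, 5], [5, 4], [5, 4, 4, 5], [4, 5, 5, 4, 5],
  [5, 4, 5], [5, 5, 5], [5, 5], [4, 5, 5], [5, 4, 4], [4, 4, 5, 4],
  [4, 5, 5, 5], [5, 5, 4, 5, 4], [5, 5, 4], [4, 4], [4, 4, 5, 4, 4], [4, 4, 4]]

/-- Part of `subWords`. -/
def subWords4 : List (List ℕ) := [
  [], [4, 4, 4, 4, 5], [5, 4, 5, 4], [5, 5, 5, 4], [5, 5, 4, 5, 4, 4, 4], [4, 4, 5, 4, 4, 4, 4],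
  [4, 5, 5, 5, 4, 4, 4], [4, 4, 4, 4, 4], [5, 5], [5, 4, 5, 5, 5, 4], [5, 5, 5, 4, 5, 4], [5, 4],
  [4, 5, 4, 4, 4], [5, 4, 5, 4, 5, 4], [4, 4, 4, 4, 5, 5, 4], [4, 5, 4, 4, 5], [4, 4, 4, 5, 4, 4, 5], [4, 5, 5, 4, 5, 4],
  [4, 4, 5, 4, 5, 4, 5, 4], [4, 4], [5, 4, 4, 5, 4], [5, 5, 4, 5], [4, 5, 4, 5, 4, 4, 4], [5, 4, 4, 5, 4, 5, 4],
  [4, 4, 5, 5, 5, 4], [4, 5, 5, 4], [4, 5], [4, 4, 5, 4], [5, 4, 5], [4, 4, 5, 5, 5, 4, 5, 4],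
  [4, 4, 5, 4, 5, 4], [4, 4, 5, 5], [5, 4, 5, 4, 5], [5, 5, 5, 4, 4, 5], [4, 4, 4, 5], [5, 4, 5, 5, 4, 5],
  [5, 5, 4, 4, 4, 4], [5, 5, 4, 4, 4, 5, 5, 4], [4, 4, 4, 4], [4, 5, 5, 5, 4, 4, 4, 4], [4, 4, 4, 5, 5, 4], [4, 4, 5, 4, 5],
  [5, 4, 4, 4, 5, 5], [4, 5, 5, 4, 4, 5], [5, 4, 4, 5], [5, 5, 5, 4, 4, 4], [4, 5, 4, 4, 4, 4], [5, 4, 4, 4]]

/-- Part of `subWords`. -/
def subWords5 : List (List ℕ) := [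
  [4, 4, 4, 5, 5, 5, 4], [5, 5, 4, 4, 4], [4, 4, 5, 5, 4], [4, 4, 5], [4, 4, 4, 5, 5], [4, 5, 4, 5],
  [5, 4, 4, 5, 4, 5], [5, 5, 4, 5, 5, 4, 5], [5, 5, 4, 4, 5], [5, 4, 4, 4, 4], [4, 4, 4], [5, 4, 4, 4, 5, 5, 4],
  [4, 5, 5, 4, 5], [5, 5, 5, 4, 4, 4, 4], [4, 4, 4, 5, 4], [4, 5, 4, 4, 5, 4, 5, 4], [4, 5, 5, 5, 4], [4, 4, 5, 4, 4, 5],
  [4, 5, 4], [4], [5, 5, 4, 5, 4], [5, 4, 5, 4, 4, 4], [4, 5, 5, 5, 4, 5, 4], [5],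
  [5, 4, 4, 4, 4, 4], [4, 5, 4, 5, 4, 5, 4], [5, 5, 4], [4, 5, 4, 5, 4], [4, 4, 4, 4, 4, 4], [4, 4, 5, 4, 4, 4],
  [4, 5, 5], [4, 5, 5, 4, 5, 4, 4, 4], [], [4], [5, 5, 5, 4, 4], [4, 5, 4, 4],
  [5, 5, 4, 4], [4, 4, 4, 5, 5], [5, 5, 4, 4, 4, 4], [4, 5], [5], [4, 5, 5, 4],
  [4, 4, 5, 4, 4], [4, 4, 4], [4, 4, 5, 5], [5, 4, 4, 4], [5, 4, 4, 5, 5], [4, 4, 4, 4, 4]]

/-- Part of `subWords`. -/
def subWords6 : List (List ℕ) := [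
  [4, 4, 4, 4], [4, 5, 4], [4, 4], [4, 4, 5, 4], [5, 5], [4, 5, 4, 4, 4, 4],
  [5, 4, 4], [4, 4, 5, 5, 4], [5, 4], [4, 5, 5], [5, 5, 4], [5, 4, 5],
  [5, 4, 4, 4, 4], [5, 5, 4, 4, 4], [5, 5, 4, 5], [4, 5, 5, 4, 4], [], [],
  [4, 4, 4, 4], [4], [5, 4], [4, 4], [5, 5, 4], [4, 4, 5, 4],
  [4, 4, 4, 5, 4], [4, 4, 4], [4, 5, 4]]

/-- Words from the representative to each line, fixing 304. -/
def subWords : List (List ℕ) :=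
  List.flatten [subWords0, subWords1, subWords2, subWords3, subWords4, subWords5, subWords6]

/-- Part of `primWords0`. -/
def primWords00 : List (List ℕ) := [
  [8], [8, 8, 5, 8, 8], [5, 8, 5, 8, 8], [4, 5, 4, 5, 8], [5, 5, 4, 8, 8], [4, 5, 5, 4, 5, 8],
  [8, 8, 8, 4, 8, 4, 8], [8, 4, 4, 8, 5, 4, 8], [4, 4, 5, 8, 5, 8], [5, 4, 5, 8], [5, 4, 4, 8, 8], [4, 4, 5, 4, 8, 8],
  [8, 5, 5, 8, 8, 4, 8], [4, 5, 4, 8, 5, 8], [5, 5, 5, 4, 8], [4, 8, 4, 4, 8, 8], [4, 8, 4, 4, 5, 5, 8], [8, 8, 5, 8],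
  [8, 5, 8], [5, 8, 4, 8], [4, 8, 5, 8], [4, 5, 4, 8], [4, 8, 4, 8, 8], [4, 8, 8, 5, 4, 8],
  [5, 4, 8, 5, 5, 8], [4, 8, 8, 5, 8, 8], [4, 8, 5, 4, 8], [5, 8, 5, 5, 4, 8, 8], [4, 8, 4, 8, 4, 5, 8], [5, 5, 4, 4, 5, 8],
  [4, 5, 5, 4, 4, 5, 8], [5, 4, 4, 4, 5, 8], [4, 5, 5, 5, 8, 8], [4, 4, 4, 8, 4, 8], [4, 4, 8, 4, 8], [4, 5, 5, 8, 8],
  [4, 4, 4, 4, 5, 8], [4, 5, 4, 4, 8, 8], [8, 8, 4, 8, 4, 8], [8, 4, 8, 8, 8, 8], [8, 5, 5, 4, 5, 8], [5, 8, 8],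
  [4, 4, 5, 8, 5, 4, 8], [5, 5, 8, 4, 8], [4, 4, 5, 4, 8, 4, 8], [8, 4, 4, 4, 4, 8, 8], [8, 8, 8, 8], [5, 8, 4, 4, 8, 8]]

/-- Part of `primWords0`. -/
def primWords01 : List (List ℕ) := [
  [8, 8, 4, 5, 8, 5, 8], [4, 8, 8, 8, 8], [5, 5, 4, 8], [8, 8, 4, 8, 5, 5, 8], [5, 8, 5, 4, 4, 5, 8], [8, 5, 4, 8],
  [8, 4, 5, 5, 5, 4, 8], [5, 4, 8, 4, 8], [4, 4, 8, 5, 4, 8], [4, 5, 5, 8], [5, 4, 5, 8, 5, 8], [4, 5, 8, 5, 4, 8, 8],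
  [8, 5, 8, 8, 4, 8, 8], [4, 4, 8, 8], [4, 5, 8, 8, 8, 8], [4, 4, 4, 8, 8], [4, 5, 8, 4, 8], [8, 8, 4, 8, 5, 8],
  [5, 5, 8, 5, 8], [8, 4, 4, 8, 8], [8, 8, 4, 5, 8, 4, 5, 8], [5, 4, 8, 5, 8], [5, 8, 4, 5, 8, 4, 8], [4, 8, 8, 5, 4, 8, 8],
  [5, 5, 8], [5, 4, 5, 8, 8], [5, 5, 4, 8, 5, 8], [8, 8, 8, 4, 8, 8, 8], [8, 5, 8, 4, 5, 4, 8], [5, 4, 4, 4, 8, 8],
  [5, 8, 8, 5, 8], [8, 4, 8, 8, 8], [5, 8, 5, 4, 8], [4, 4, 8, 5, 5, 8], [8, 8, 4, 4, 8, 8], [5, 5, 4, 8, 5, 4, 8],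
  [8, 8, 4, 5, 5, 8], [4, 5, 4, 4, 5, 8], [4, 8], [8, 5, 8, 5, 8, 8], [4, 8, 8], [5, 4, 8],
  [4, 5, 4, 8, 4, 8], [4, 5, 5, 5, 4, 8], [4, 5, 4, 5, 8, 4, 8], [5, 5, 8, 8, 8, 8], [5, 8, 8, 4, 8, 4, 8], [5, 4, 4, 8, 5, 8]]

/-- Part of `primWords0`. -/
def primWords02 : List (List ℕ) := [
  [4, 4, 4, 5, 5, 8], [8, 8, 5, 4, 8, 8], [8, 5, 4, 4, 5, 8], [4, 5, 5, 8, 5, 8], [5, 4, 8, 5, 4, 8], [4, 4, 4, 5, 8, 5, 8],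
  [4, 5, 8, 5, 4, 8], [5, 8, 4, 8, 8], [4, 4, 4, 5, 8], [4, 4, 4, 4, 8, 8], [8, 5, 4, 8, 8], [8, 5, 8, 5, 5, 4, 8],
  [4, 8, 5, 5, 8], [5, 5, 5, 8, 8], [8, 5, 5, 4, 8, 8], [4, 5, 8, 8], [5, 4, 4, 8, 5, 4, 8], [5, 8, 8, 8, 8],
  [5, 8], [4, 4, 5, 8], [8, 4, 4, 5, 5, 8], [8, 4, 8], [8, 5, 8, 8], [5, 5, 4, 4, 4, 8, 8],
  [5, 8, 4, 8, 8, 8], [5, 5, 5, 4, 5, 8], [5, 5, 5, 8, 4, 8], [8, 5, 5, 8], [8, 8, 4, 8, 8, 8], [5, 4, 5, 8, 4, 8],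
  [4, 5, 4, 8, 8], [5, 8, 5, 8], [4, 4, 5, 5, 8], [8, 8, 5, 4, 8], [4, 5, 5, 8, 4, 8], [5, 8, 5, 4, 8, 8],
  [8, 4, 8, 4, 5, 8], [5, 5, 8, 4, 8, 8], [4, 5, 8], [5, 4, 4, 8, 4, 8], [4, 5, 5, 4, 8], [8, 5, 4, 8, 4, 5, 8],
  [5, 4, 8, 8], [5, 5, 8, 8], [8, 5, 5, 8, 4, 8], [4, 4, 8, 5, 8], [4, 4, 5, 5, 5, 4, 8], [5, 4, 4, 5, 8, 5, 8]]

/-- Part of `primWords0`. -/
def primWords03 : List (List ℕ) := [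
  [4, 4, 5, 8, 4, 8], [5, 8, 5, 5, 4, 5, 8], [5, 5, 4, 5, 8], [5, 4, 4, 5, 8], [4, 4, 4, 4, 4, 8, 8], [5, 5, 5, 4, 8, 8],
  [4, 8, 4, 8], [8, 4, 4, 5, 8, 5, 8], [5, 4, 5, 5, 8, 8], [4, 5, 5, 4, 8, 5, 8], [8, 4, 8, 8], [8, 8],
  [8, 4, 4, 8, 4, 8], [8, 4, 5, 8, 4, 8], [5, 4, 8, 8, 5, 4, 8], [4, 5, 8, 5, 8], [5, 8, 8, 4, 8, 8], [5, 5, 8, 8, 5, 5, 8],
  [8, 5, 4, 5, 8, 4, 8], [8, 4, 5, 8, 8, 8], [4, 8, 5, 8, 5, 8], [8, 4, 4, 8, 8, 8], [5, 8, 5, 5, 8, 4, 5, 8], [5, 8, 4, 8, 4, 8],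
  [8, 8, 8, 5, 5, 4, 8], [5, 8, 8, 5, 5, 8], [5, 5, 8, 8, 4, 8, 8], [8, 8, 5, 8, 5, 5, 4, 8], [8, 4, 8, 4, 8], [4, 8, 4, 4, 8, 8, 8],
  [8, 8, 8, 8, 8, 8], [5, 8, 4, 4, 5, 8], [4, 8, 4, 4, 4, 8, 8], [5, 5, 8, 4, 8, 4, 8], [8, 4, 4, 4, 8, 8], [5, 8, 5, 8, 5, 8],
  [8, 4, 8, 8, 8, 4, 8], [8, 8, 4, 8, 8], [4, 4, 8, 5, 8, 5, 8], [8, 5, 5, 8, 4, 5, 8], [8, 8, 5, 5, 8], [8, 8, 5, 5, 4, 5, 8],
  [8, 4, 4, 5, 8], [8, 5, 8, 4, 5, 5, 8], [8, 4, 8, 8, 4, 8], [8, 4, 5, 4, 8, 8], [8, 5, 8, 5, 8], [4, 8, 4, 5, 4, 8, 8]]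

/-- Part of `primWords0`. -/
def primWords04 : List (List ℕ) := [
  [8, 8, 8, 8, 5, 8], [8, 8, 8, 5, 8], [5, 5, 8, 8, 8], [5, 8, 5, 4, 8, 4, 8], [5, 8, 5, 4, 5, 8], [8, 8, 5, 8, 8, 4, 8, 8],
  [4, 8, 4, 5, 8, 5, 8], [5, 8, 4, 5, 5, 8], [8, 8, 5, 5, 4, 8, 8], [4, 4, 8, 5, 5, 4, 8], [8, 8, 8], [4, 5, 8, 4, 5, 4, 8],
  [8, 4, 5, 8, 5, 4, 8], [8, 5, 8, 5, 4, 8, 8], [5, 8, 4, 4, 4, 5, 8], [4, 8, 8, 4, 5, 4, 8], [4, 8, 4, 5, 5, 8], [8, 8, 4, 8],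
  [5, 4, 4, 8, 8, 8], [5, 8, 8, 4, 5, 8, 4, 8], [5, 4, 5, 8, 8, 8], [8, 8, 4, 5, 8, 4, 8], [8, 8, 8, 8, 8], [5, 5, 5, 8, 8, 4, 8],
  [5, 8, 8, 4, 8], [4, 8, 5, 4, 8, 4, 8], [8, 5, 5, 8, 4, 8, 8], [4, 5, 8, 8, 8], [8, 5, 8, 4, 8, 8], [4, 4, 8, 8, 8],
  [5, 5, 8, 8, 4, 8], [8, 8, 5, 8, 5, 8, 8], [5, 8, 4, 5, 4, 8], [4, 4, 8, 8, 4, 8], [8, 5, 4, 4, 8, 4, 8], [4, 8, 8, 8, 5, 4, 8],
  [4, 4, 4, 4, 8, 8, 8], [5, 8, 8, 8, 5, 4, 8], [5, 8, 5, 5, 4, 8], [4, 8, 5, 5, 4, 8], [8, 4, 5, 8, 4, 5, 8], [4, 8, 4, 5, 4, 8],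
  [8, 4, 8, 5, 4, 8], [5, 4, 8, 8, 4, 8], [8, 8, 4, 5, 4, 8], [8, 4, 5, 8, 5, 8], [5, 4, 4, 4, 8, 8, 8], [8, 4, 5, 4, 5, 8]]

/-- Part of `primWords0`. -/
def primWords05 : List (List ℕ) := [
  [4, 5, 8, 8, 4, 8], [5, 8, 4, 5, 4, 5, 8], [5, 5, 4, 8, 8, 4, 8], [5, 4, 4, 8, 8, 4, 8], [5, 4, 8, 5, 5, 4, 8], [8, 4, 5, 4, 8],
  [4, 8, 8, 4, 8], [4, 4, 4, 8, 8, 8], [5, 8, 8, 4, 5, 4, 8], [5, 5, 8, 5, 5, 4, 8], [5, 8, 4, 5, 8, 5, 8], [8, 8, 8, 5, 4, 8],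
  [8, 5, 8, 4, 4, 5, 8], [8, 5, 5, 4, 8], [4, 4, 5, 8, 8, 8], [5, 5, 8, 8, 8, 5, 4, 8], [5, 8, 8, 8, 5, 8], [8, 4, 5, 5, 8],
  [5, 8, 8, 8], [4, 8, 8, 8, 8, 5, 8], [5, 5, 5, 8, 8, 8], [8, 5, 4, 5, 8], [4, 8, 8, 8], [8, 8, 5, 4, 8, 4, 8],
  [4, 8, 8, 8, 5, 8], [5, 5, 8, 4, 4, 4, 5, 8], [8, 5, 4, 8, 4, 8], [4, 5, 5, 8, 8, 8], [8, 8, 5, 4, 4, 5, 8], [4, 8, 4, 5, 8, 5, 4, 8],
  [8, 8, 4, 4, 8, 5, 4, 8], [8, 4, 4, 4, 5, 8], [8, 5, 8, 8, 8], [5, 8, 4, 5, 8], [4, 4, 8, 4, 5, 8], [8, 4, 5, 8],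
  [8, 4, 8, 5, 5, 8], [8, 8, 8, 4, 8], [5, 5, 8, 4, 8, 5, 8], [8, 5, 5, 5, 4, 8], [5, 8, 5, 8, 8, 8], [5, 5, 5, 4, 8, 4, 5, 8],
  [4, 8, 4, 5, 8], [8, 8, 4, 8, 4, 5, 8], [8, 5, 4, 8, 5, 4, 8], [4, 8, 8, 8, 4, 8], [8, 8, 5, 8, 5, 4, 8], [8, 8, 4, 4, 5, 8]]

/-- Part of `primWords0`. -/
def primWords06 : List (List ℕ) := [
  [8, 4, 8, 5, 8], [4, 5, 5, 8, 4, 5, 8], [4, 5, 8, 4, 5, 8], [5, 5, 4, 8, 4, 5, 8], [8, 5, 4, 8, 5, 8], [5, 8, 5, 8, 8, 4, 8],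
  [5, 4, 5, 8, 4, 5, 8], [8, 5, 8, 8, 4, 8], [5, 5, 8, 4, 5, 8], [4, 8, 5, 4, 8, 5, 8], [5, 5, 5, 8, 4, 5, 8], [8, 4, 8, 4, 8, 8],
  [5, 8, 4, 8, 5, 8], [8, 5, 8, 4, 8, 4, 8], [8, 4, 4, 8, 8, 4, 8], [5, 4, 8, 4, 5, 8], [], [8, 5, 8, 5, 4, 8],
  [8, 8, 8, 5, 5, 4, 8, 8], [4, 8, 5, 8, 5, 4, 8], [8, 8, 8, 4, 5, 4, 8], [8, 4, 5, 4, 8, 4, 8], [4, 8, 8, 5, 5, 4, 8], [8, 4, 4, 4, 8, 4, 8],
  [8, 8, 5, 5, 4, 8], [8, 5, 5, 5, 8, 8, 8], [8, 5, 4, 5, 8, 8]]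

/-- Words from 304 in the stabiliser of 304 and the letter 8. -/
def primWords0 : List (List ℕ) :=
  List.flatten [primWords00, primWords01, primWords02, primWords03, primWords04, primWords05, primWords06]

/-- Part of `primWords1`. -/
def primWords10 : List (List ℕ) := [
  [4, 9, 4, 5, 5, 4, 9], [5, 4, 9, 9, 4, 4, 5, 9], [9, 4, 5, 5, 4, 9], [9, 4, 4, 9, 4, 9], [4, 9, 5, 5, 4, 4, 9], [5, 4, 9, 9, 5, 4, 5, 9],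
  [9, 5, 5, 5, 4, 5, 9], [4, 9, 4, 9, 4, 5, 9], [9, 9, 4, 9, 9, 5, 9], [5, 9, 9, 5, 9, 4, 9], [9, 4, 9, 4, 9, 5, 4, 9], [9, 5, 9, 4, 9, 4, 5, 9],
  [4, 9, 4, 5, 9], [4, 9, 4, 9, 9, 5, 9], [9, 4, 9, 9, 5, 4, 9], [9, 4, 5, 9], [9, 4, 9, 5, 9, 4, 4, 9], [9, 5, 4, 9, 4, 4, 9],
  [9, 4, 9, 9, 4, 9], [9, 4, 4, 9, 4, 5, 9], [4, 9, 4, 9, 9, 4, 9], [5, 4, 9, 4, 5, 9, 4, 4, 9], [4, 9, 5, 4, 9, 5, 4, 9], [9, 5, 9, 5, 9, 4, 9],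
  [4, 5, 4, 9, 4, 5, 9], [5, 9, 4, 5, 9], [4, 5, 9, 4, 5, 5, 4, 9], [4, 4, 9, 9, 4, 4, 9], [4, 4, 5, 9, 4, 5, 9], [5, 9, 4, 9, 4, 5, 4, 4, 9],
  [5, 9, 4, 4, 9, 9, 4, 4, 9], [5, 9, 5, 9, 5, 9], [9, 4, 9, 5, 4, 9], [4, 9, 4, 9, 9], [9, 4, 9, 9], [9, 4, 9, 5, 4, 5, 9],
  [4, 9, 5, 9, 5, 9], [9, 4, 9, 4, 5, 9], [9, 4, 9, 4, 9, 9], [9, 5, 9, 9, 4, 5, 4, 9], [5, 9, 5, 5, 4, 4, 9], [4, 4, 9, 5, 9, 4, 4, 9],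
  [9, 5, 9, 4, 4, 9], [4, 4, 9, 4, 9, 5, 4, 9], [9, 9, 4, 9, 9, 4, 9], [4, 9, 4, 9, 5, 4, 9], [4, 5, 9, 5, 5, 4, 4, 9], [9, 4, 4, 9, 9, 4, 4, 9]]

/-- Part of `primWords1`. -/
def primWords11 : List (List ℕ) := [
  [4, 5, 5, 4, 9, 4, 9, 9], [5, 4, 9, 4, 9, 9, 5, 9], [5, 9, 9, 5, 4, 9, 5, 4, 9], [9, 5, 9, 4, 9, 9], [5, 9, 4, 5, 9, 4, 4, 9], [5, 9, 4, 5, 5, 4, 9],
  [4, 5, 9, 4, 9, 9], [5, 9, 5, 9, 4, 9], [4, 4, 5, 9, 4, 5, 5, 4, 9], [4, 4, 9, 4, 5, 9, 4, 4, 9], [4, 5, 4, 5, 9, 4, 9, 9], [9, 5, 9, 9, 4, 5, 9, 9],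
  [5, 9, 4, 9, 5, 4, 9], [4, 5, 4, 9, 5, 9, 4, 4, 9], [9, 5, 4, 9, 4, 4, 5, 9], [5, 9, 5, 9, 4, 4, 9], [9, 9, 5, 4, 5, 9], [9, 4, 5, 4, 5, 9, 4, 4, 9],
  [4, 9, 5, 9, 9, 4, 4, 9], [4, 4, 9, 5, 9, 9, 4, 9], [9, 4, 9, 9, 5, 5, 4, 9], [9, 4, 9, 9, 5, 9], [4, 9, 5, 9, 9, 4, 9], [4, 9, 9, 4, 4, 5, 9],
  [4, 9, 4, 5, 9, 4, 4, 9], [9, 9, 5, 9, 5, 9, 4, 9], [5, 9, 4, 9, 9, 5, 9], [5, 9, 5, 9, 9, 4, 9], [9, 9, 4, 4, 9], [4, 4, 9, 5, 9, 5, 9],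
  [5, 9, 5, 4, 9, 4, 4, 9], [4, 4, 9, 4, 9, 9], [9, 9, 4, 4, 5, 4, 9], [9, 9, 5, 9, 9, 4, 9], [5, 4, 5, 9, 4, 5, 9], [4, 9, 4, 9, 9, 5, 5, 4, 9],
  [5, 4, 9, 4, 5, 9], [5, 9, 4, 9, 4, 4, 4, 9], [4, 4, 9, 4, 5, 5, 4, 9], [4, 9, 9, 4, 4, 9], [5, 4, 9, 5, 9, 4, 4, 9], [9, 9, 5, 4, 9, 5, 4, 9],
  [5, 4, 9, 4, 9, 9], [5, 9, 4, 9, 4, 5, 9], [4, 5, 9, 9, 5, 4, 5, 9], [9, 4, 9, 4, 9, 9, 4, 4, 9], [5, 9, 4, 9, 4, 9, 9], [5, 4, 4, 9, 4, 9, 9, 4, 9]]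

/-- Part of `primWords1`. -/
def primWords12 : List (List ℕ) := [
  [4, 5, 5, 9, 5, 9, 4, 9], [9, 9, 4, 4, 5, 9], [9, 4, 5, 9, 4, 4, 9], [9, 4, 4, 5, 9, 4, 9], [9, 9, 5, 9, 9, 4, 5, 4, 9], [4, 9, 9, 4, 9, 9, 5, 9],
  [4, 9, 9, 4, 4, 5, 4, 9], [5, 9, 5, 4, 9, 5, 4, 9], [9, 5, 9, 5, 9], [9, 4, 9, 9, 4, 9, 9], [4, 5, 9, 9, 4, 4, 9], [5, 9, 5, 9, 4, 9, 9],
  [9, 9, 5, 9, 4, 5, 9], [9, 5, 9, 4, 4, 9, 9], [5, 5, 9, 5, 9, 4, 9, 9], [4, 4, 4, 9, 5, 9, 4, 4, 9], [9, 9, 4, 9, 9, 4, 4, 9], [4, 4, 4, 5, 9, 4, 5, 9],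
  [4, 4, 4, 9, 9, 4, 4, 9], [4, 9, 9, 5, 9, 4, 9], [5, 4, 4, 9, 4, 5, 9], [9, 5, 9, 4, 4, 5, 4, 9], [9, 5, 9, 9, 4, 4, 9], [9, 5, 9, 9, 5, 4, 5, 9],
  [5, 4, 4, 9, 4, 9, 9], [4, 4, 4, 9, 4, 5, 9], [4, 5, 9, 4, 9, 5, 4, 9], [5, 9, 4, 4, 9, 4, 9], [5, 5, 4, 9, 4, 9, 9], [5, 9, 9, 5, 4, 5, 9],
  [9, 5, 9, 5, 9, 4, 4, 9], [5, 9, 4, 9, 9, 4, 9], [5, 5, 9, 5, 9, 4, 9], [5, 5, 4, 4, 9, 4, 5, 9], [4, 4, 4, 9, 4, 9, 5, 4, 9], [5, 4, 5, 9, 9, 4, 4, 9],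
  [4, 5, 9, 4, 5, 9], [4, 4, 9, 9, 4, 4, 5, 9], [9, 9, 5, 9, 4, 9], [5, 9, 4, 9, 9], [9, 4, 9, 4, 9, 4, 5, 9], [5, 4, 9, 5, 9, 9, 4, 9],
  [4, 5, 4, 4, 9, 4, 9, 9], [4, 9, 4, 9, 4, 9, 9], [9, 5, 5, 4, 4, 9], [4, 4, 9, 4, 9, 9, 4, 9], [9, 9, 5, 9, 4, 4, 9], [4, 9, 5, 5, 5, 4, 5, 9]]

/-- Part of `primWords1`. -/
def primWords13 : List (List ℕ) := [
  [4, 9, 9, 5, 4, 5, 9], [9, 4, 9, 4, 4, 4, 9], [5, 5, 9, 9, 5, 9, 4, 9], [9, 4, 9, 4, 5, 4, 4, 9], [9, 4, 9, 4, 4, 5, 4, 9], [4, 9, 5, 9, 4, 4, 9],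
  [9, 5, 9, 4, 9], [9, 5, 9, 9, 4, 9], [4, 4, 9, 4, 5, 9], [9, 4, 5, 9, 9, 4, 4, 9], [9, 5, 4, 9, 5, 4, 9], [5, 9, 5, 9, 4, 4, 9, 9],
  [5, 9, 9, 4, 4, 9], [5, 4, 5, 9, 4, 9, 9], [5, 9, 5, 9, 5, 9, 4, 9], [9, 5, 9, 4, 4, 9, 4, 9], [9], [9, 5, 4, 9, 9],
  [4, 5, 9], [4, 4, 9, 9], [5, 5, 5, 4, 5, 9], [9, 4, 9, 4, 9], [5, 4, 9, 9], [4, 9],
  [5, 4, 4, 9, 9], [5, 5, 4, 4, 9], [5, 9], [4, 5, 4, 9], [4, 5, 4, 4, 9], [5, 4, 5, 4, 9],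
  [4, 4, 5, 9], [4, 5, 5, 4, 9], [5, 5, 4, 5, 9], [5, 4, 9], [5, 4, 4, 5, 9], [4, 5, 5, 4, 5, 9],
  [5, 4, 5, 9], [5, 9, 9], [9, 9], [4, 9, 9], [5, 4, 4, 9], [4, 4, 5, 4, 9],
  [4, 5, 9, 9], [9, 4, 5, 4, 9], [5, 5, 4, 9], [4, 4, 9], [4, 4, 5, 4, 4, 9], [4, 4, 4, 9]]

/-- Part of `primWords1`. -/
def primWords14 : List (List ℕ) := [
  [9, 4, 9], [5, 4, 5, 4, 9, 4, 4, 9], [4, 4, 5, 9, 5, 9], [9, 5, 4, 9], [4, 9, 5, 4, 5, 9], [9, 4, 4, 9],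
  [9, 4, 5, 9, 9], [5, 9, 4, 4, 9, 9], [9, 9, 5, 9], [5, 4, 9, 5, 4, 9], [5, 4, 9, 4, 4, 9], [5, 4, 9, 4, 9],
  [4, 9, 9, 5, 9, 9], [9, 9, 4, 5, 9], [9, 9, 5, 4, 9], [4, 9, 9, 4, 9], [9, 5, 4, 4, 5, 9], [4, 4, 9, 4, 4, 9],
  [4, 9, 4, 4, 5, 9], [4, 4, 9, 4, 9], [9, 9, 4, 5, 4, 9], [4, 9, 9, 5, 5, 4, 9], [9, 4, 4, 4, 9], [5, 4, 5, 9, 4, 4, 9],
  [4, 4, 9, 5, 4, 9], [4, 5, 5, 4, 9, 4, 9], [4, 5, 9, 4, 9], [5, 9, 9, 4, 5, 4, 9], [5, 4, 5, 9, 4, 9], [5, 4, 9, 4, 4, 5, 9],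
  [4, 5, 9, 4, 4, 9], [4, 4, 9, 9, 5, 9], [4, 9, 4, 5, 4, 4, 9], [4, 5, 9, 5, 9], [4, 4, 4, 5, 9, 4, 9], [5, 9, 9, 4, 5, 9, 9],
  [5, 9, 9, 4, 9, 9], [5, 4, 9, 5, 4, 4, 5, 9], [5, 4, 9, 4, 4, 4, 9], [4, 4, 9, 4, 4, 4, 9], [9, 4, 4, 9, 5, 4, 9], [9, 5, 9],
  [9, 5, 4, 5, 9], [5, 5, 9, 5, 9], [9, 9, 4, 9], [9, 5, 5, 4, 9], [4, 9, 9, 4, 9, 9], [9, 9, 5, 9, 9]]

/-- Part of `primWords1`. -/
def primWords15 : List (List ℕ) := [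
  [5, 9, 5, 4, 5, 9], [9, 4, 5, 4, 4, 9], [5, 5, 5, 9, 5, 9], [4, 4, 5, 9, 4, 9], [9, 5, 9, 9], [4, 5, 4, 5, 9, 4, 9],
  [5, 9, 5, 9], [9, 4, 5, 5, 4, 5, 9], [5, 9, 9, 4, 9], [9, 9, 4, 9, 9], [5, 9, 5, 5, 4, 9], [4, 9, 5, 4, 4, 5, 9],
  [9, 9, 4, 5, 9, 9], [4, 9, 4, 4, 4, 9], [5, 4, 9, 4, 5, 4, 4, 9], [4, 5, 4, 5, 9, 4, 4, 9], [4, 9, 5, 4, 9], [9, 4, 4, 9, 9],
  [4, 5, 4, 9, 4, 9], [4, 9, 4, 9], [4, 9, 4, 4, 9], [4, 9, 9, 5, 4, 9], [4, 5, 4, 9, 4, 4, 9], [5, 9, 4, 9],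
  [9, 9, 5, 5, 4, 9], [9, 4, 4, 5, 9], [5, 5, 4, 9, 4, 9], [5, 9, 4, 4, 9], [5, 4, 9, 5, 4, 5, 9], [9, 5, 9, 4, 5, 9],
  [4, 9, 9, 5, 9], [5, 9, 4, 5, 9, 9], [5, 9, 5, 9, 5, 9, 9, 4, 9], [9, 5, 9, 5, 9, 5, 9], [5, 5, 4, 9, 4, 4, 5, 4, 9], [4, 4, 9, 4, 4, 5, 4, 9],
  [5, 4, 9, 4, 4, 5, 4, 9], [4, 9, 5, 9, 9, 5, 9, 4, 9], [5, 4, 5, 9, 4, 4, 5, 4, 9], [5, 9, 9, 4, 5, 5, 4, 9], [9, 9, 4, 4, 9, 4, 5, 9], [5, 9, 4, 9, 9, 4, 4, 9],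
  [5, 5, 9, 4, 9, 9, 4, 4, 9], [9, 4, 9, 9, 4, 4, 5, 4, 9], [9, 5, 9, 9, 5, 9, 4, 9], [9, 4, 5, 9, 4, 5, 5, 4, 9], [4, 9, 9, 4, 5, 5, 4, 9], [9, 9, 4, 5, 5, 4, 9]]

/-- Part of `primWords1`. -/
def primWords16 : List (List ℕ) := [
  [9, 4, 4, 9, 4, 5, 9, 4, 4, 9], [9, 5, 9, 5, 9, 9, 4, 9], [4, 9, 5, 9, 5, 9, 5, 9], [9, 4, 9, 9, 4, 4, 9], [5, 9, 9, 4, 4, 9, 4, 5, 9], [4, 4, 5, 9, 4, 4, 5, 4, 9],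
  [4, 9, 4, 4, 5, 4, 9], [9, 4, 5, 9, 5, 5, 4, 4, 9], [5, 9, 5, 9, 5, 9, 5, 9], [9, 5, 4, 9, 5, 9, 9, 4, 9], [4, 9, 4, 9, 9, 4, 4, 9], [9, 4, 4, 5, 4, 9],
  [4, 5, 9, 4, 4, 5, 4, 9], [4, 4, 9, 9, 4, 5, 5, 4, 9], [5, 9, 4, 4, 5, 4, 9], [4, 5, 4, 9, 4, 4, 5, 4, 9], [], [4, 9, 4, 9, 9, 4, 5, 5, 4, 9],
  [9, 4, 9, 9, 4, 5, 5, 4, 9], [9, 4, 5, 9, 4, 4, 5, 4, 9], [4, 9, 4, 9, 9, 5, 9, 4, 9], [9, 5, 9, 4, 9, 9, 4, 9], [9, 4, 9, 9, 5, 9, 4, 9], [9, 5, 9, 5, 9, 5, 9, 4, 9],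
  [9, 4, 4, 4, 9, 5, 9, 4, 4, 9], [9, 5, 9, 4, 9, 4, 9, 9], [9, 5, 9, 5, 9, 5, 9, 5, 9]]

/-- Words from 304 in the stabiliser of 304 and the letter 9. -/
def primWords1 : List (List ℕ) :=
  List.flatten [primWords10, primWords11, primWords12, primWords13, primWords14, primWords15, primWords16]

/-- Part of `primWords2`. -/
def primWords20 : List (List ℕ) := [
  [10, 5, 5, 10, 10], [4, 5, 10, 5, 4, 10], [10, 10, 4, 10, 5, 10], [10, 5, 5, 10, 4, 10], [10, 5, 10, 10], [4, 4, 10, 4, 5, 10],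
  [10, 5, 10, 10, 4, 10, 10], [10, 4, 5, 10], [10, 4, 5, 4, 10, 10], [10, 4, 5, 5, 10, 10], [10, 10, 10, 10, 4, 5, 10], [10, 5, 4, 10, 4, 10],
  [10, 5, 5, 10, 10, 10], [10, 4, 5, 5, 4, 10], [4, 10, 5, 4, 10], [10, 4, 4, 4, 5, 4, 10], [5, 10, 10, 5, 10], [10, 5, 4, 10],
  [10, 4, 10, 10, 10], [10, 5, 10, 4, 10, 10], [4, 10, 4, 10, 10, 10], [10, 5, 10, 10, 10], [10, 4, 4, 5, 10, 10, 10], [10, 5, 10, 10, 10, 10],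
  [5, 4, 4, 10, 5, 10, 10], [4, 4, 5, 10, 5, 4, 10], [10, 5, 10, 4, 4, 5, 4, 10], [10, 5, 10, 4, 4, 10], [5, 5, 10, 10, 10, 5, 10], [10, 5, 10, 4, 4, 4, 10],
  [5, 4, 10, 10, 10, 5, 10], [5, 5, 4, 10, 5, 10, 10], [4, 10, 10, 5, 10, 4, 4, 10], [5, 5, 10, 10, 5, 10], [10, 10, 10, 5, 10, 4, 5, 10], [10, 10, 10, 4, 5, 4, 10],
  [4, 5, 4, 10, 5, 10, 10], [10, 5, 10, 5, 4, 5, 10], [10, 10, 5, 4, 5, 10], [10, 4, 10, 5, 4, 5, 10], [10, 10, 5, 10, 5, 4, 10], [4, 5, 10, 5, 10, 10],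
  [5, 10, 4, 10, 4, 5, 5, 10], [10, 10, 4, 4, 10, 5, 10], [10, 5, 10, 5, 10, 10], [10, 5, 4, 4, 10, 4, 5, 10], [5, 10, 5, 4, 10, 4, 10], [4, 10, 10, 10, 5, 10]]

/-- Part of `primWords2`. -/
def primWords21 : List (List ℕ) := [
  [4, 10, 10, 5, 10], [10, 5, 10, 5, 4, 10], [4, 4, 10, 10, 5, 5, 4, 10], [10, 5, 10, 4, 5, 10], [5, 5, 5, 10, 5, 4, 10], [4, 4, 4, 10, 4, 5, 10],
  [5, 5, 10, 4, 5, 4, 10], [10, 10, 5, 4, 5, 10, 4, 4, 10], [10, 4, 10, 4, 5, 10], [4, 4, 5, 5, 10, 5, 4, 10], [10, 4, 4, 4, 10, 4, 5, 10], [10, 4, 10, 5, 10, 10],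
  [10, 10, 5, 5, 4, 10], [10, 10, 5, 5, 10, 10], [5, 5, 5, 10, 4, 5, 10], [10, 5, 4, 10, 5, 4, 10], [10, 4, 5, 4, 10, 4, 10], [10, 5, 4, 5, 10, 10],
  [5, 10, 4, 4, 10, 5, 10], [4, 10, 4, 5, 4, 10], [10, 4, 4, 5, 10, 10], [10, 5, 5, 4, 10], [10, 4, 5, 4, 10], [10, 4, 5, 5, 10],
  [4, 5, 5, 10, 5, 4, 10], [10, 4, 10, 10, 5, 10], [5, 10, 5, 5, 4, 10], [10, 10, 10, 5, 10], [4, 5, 10, 4, 5, 4, 10], [5, 10, 5, 4, 10, 5, 4, 10],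
  [5, 10, 5, 4, 10], [5, 10, 4, 5, 10], [5, 4, 4, 4, 10, 4, 5, 10], [4, 4, 4, 10, 5, 10, 10], [4, 5, 4, 4, 10, 4, 5, 10], [4, 10, 4, 4, 5, 10, 10],
  [4, 4, 10, 10, 10, 5, 10], [10, 10, 10, 4, 10, 5, 10, 10], [5, 4, 10, 5, 4, 10], [5, 10, 4, 4, 5, 10, 10], [5, 5, 10, 5, 10, 10], [5, 5, 4, 10, 5, 4, 10],
  [5, 5, 5, 10, 10, 5, 10], [4, 4, 10, 5, 4, 10], [10, 10, 5, 10, 4, 10, 10], [10, 10, 4, 5, 5, 10], [5, 10, 10, 5, 4, 5, 10], [10, 10, 10, 4, 5, 5, 10]]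

/-- Part of `primWords2`. -/
def primWords22 : List (List ℕ) := [
  [5, 5, 4, 4, 10, 4, 5, 10], [10, 5, 5, 10, 5, 4, 10], [5, 5, 10, 5, 4, 10], [10, 5, 5, 10, 4, 5, 10], [10, 10, 5, 10, 10, 10], [4, 10, 4, 5, 4, 10, 10],
  [10, 10, 10, 5, 5, 10, 10], [10, 5, 10, 10, 10, 5, 10], [5, 4, 10, 5, 10, 10], [5, 10, 5, 10, 5, 4, 10], [5, 10, 10, 10, 10, 5, 10], [4, 5, 10, 10, 5, 10],
  [4, 4, 10, 5, 10, 10], [10, 10, 5, 10, 4, 4, 10], [5, 4, 5, 10, 10, 5, 10], [4, 4, 5, 10, 5, 10, 10], [5, 10, 4, 10, 4, 5, 10], [10, 4, 10, 4, 5, 4, 10],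
  [5, 10, 5, 5, 10, 10], [4, 5, 5, 4, 10, 4, 5, 10], [4, 10, 10, 10, 10, 5, 10], [10, 10, 4, 5, 5, 4, 10], [10, 5, 5, 5, 10, 5, 4, 10], [10, 4, 10, 4, 5, 5, 10],
  [5, 5, 10, 4, 5, 10], [5, 4, 10, 4, 5, 10], [4, 10, 10, 5, 5, 4, 10], [4, 10, 5, 10, 10], [10, 10, 5, 10], [4, 10, 4, 10, 10, 5, 10],
  [4, 4, 5, 5, 10, 4, 5, 10], [10, 4, 4, 10, 5, 10], [10, 4, 10, 10, 5, 10, 10], [4, 10, 10, 5, 10, 10, 10], [5, 4, 4, 10, 4, 5, 10], [10, 10, 10, 5, 10, 10],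
  [10, 5, 4, 5, 10, 4, 4, 10], [4, 10, 4, 5, 5, 10], [5, 5, 4, 10, 4, 5, 10], [10, 4, 5, 10, 4, 4, 10], [5, 10, 5, 10, 4, 4, 4, 10], [5, 10, 4, 5, 4, 10],
  [4, 5, 5, 10, 4, 5, 10], [4, 10, 10, 5, 4, 5, 10], [10, 10, 4, 10, 5, 10, 10], [4, 4, 10, 4, 10, 10, 10], [5, 10, 10, 10, 5, 10], [5, 10, 4, 5, 4, 10, 10]]

/-- Part of `primWords2`. -/
def primWords23 : List (List ℕ) := [
  [4, 10, 4, 5, 4, 10, 4, 10], [10, 10, 4, 10, 10, 10, 10], [4, 10, 4, 5, 10], [4, 10, 5, 5, 10, 4, 5, 10], [10, 10, 10, 5, 5, 5, 4, 10], [5, 10, 5, 10, 10],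
  [4, 10, 10, 4, 5, 5, 4, 10], [4, 10, 5, 10, 4, 5, 10], [10, 5, 5, 10, 5, 10, 10], [4, 5, 10, 5, 5, 4, 10], [4, 10, 5, 10, 10, 10], [4, 5, 4, 10, 5, 4, 10],
  [5, 4, 5, 10, 4, 5, 4, 10], [10, 4, 4, 10, 4, 5, 10], [10, 10, 10, 10, 5, 10], [4, 10, 4, 4, 10, 5, 10], [4, 10, 4, 5, 10, 10], [5, 10, 4, 5, 10, 5, 10, 10],
  [5, 5, 10, 5, 4, 4, 5, 10], [4, 10, 5, 4, 5, 10], [5, 10, 5, 4, 4, 5, 10], [5, 10, 10, 4, 5, 4, 10], [5, 10, 5, 4, 5, 10], [10, 10, 5, 5, 5, 4, 10],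
  [4, 10, 10, 4, 5, 4, 10], [10, 4, 5, 10, 5, 10, 10], [4, 5, 10, 5, 4, 5, 10], [10, 10, 4, 5, 4, 10, 10], [4, 10, 10, 5, 5, 10, 4, 10], [10, 10, 5, 4, 4, 5, 4, 10],
  [5, 5, 10, 5, 4, 5, 10], [10, 10, 4, 5, 4, 10], [10, 5, 4, 4, 5, 10], [10, 4, 10, 10, 10, 10], [10, 5, 5, 5, 4, 10], [10, 4, 5, 10, 10],
  [4, 5, 5, 10, 5, 4, 5, 10], [4, 10, 10, 10, 10, 10], [10, 5, 4, 4, 5, 4, 10], [10, 5, 4, 5, 10], [10, 10, 5, 5, 10, 4, 10], [5, 5, 10, 10, 4, 5, 4, 10],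
  [10, 10, 10, 10, 10], [10, 5, 5, 5, 4, 10, 10], [5, 10, 4, 10, 10, 10, 10], [4, 10, 10, 5, 5, 5, 4, 10], [10, 10, 10, 5, 10, 10, 10], [10, 10, 5, 10, 4, 5, 10]]

/-- Part of `primWords2`. -/
def primWords24 : List (List ℕ) := [
  [10], [10, 4, 10], [5, 4, 5, 4, 10], [5, 5, 5, 4, 10], [10, 5, 10, 4, 10], [4, 4, 10, 10],
  [10, 10, 10, 4, 5, 10], [10, 4, 10, 5, 10], [5, 5, 10], [5, 5, 10, 4, 10], [5, 4, 4, 4, 10, 10], [5, 4, 10],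
  [4, 5, 4, 4, 4, 10], [4, 5, 10, 10], [4, 10, 4, 10, 10], [5, 4, 10, 4, 10], [4, 4, 5, 4, 10, 4, 10], [10, 10, 10],
  [10, 10, 4, 10, 10], [4, 4, 10], [5, 4, 4, 5, 4, 10], [4, 4, 10, 4, 10], [4, 4, 4, 10, 4, 10, 10], [5, 5, 5, 10, 10, 10],
  [5, 10, 10, 10], [4, 5, 5, 4, 10], [4, 5, 10], [4, 4, 5, 4, 10], [5, 4, 5, 10], [5, 10, 10, 4, 10, 10],
  [5, 5, 10, 10, 10], [4, 4, 5, 5, 10], [5, 10, 10, 10, 10], [10, 4, 4, 10, 10], [4, 4, 4, 5, 10], [5, 5, 4, 10, 10],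
  [5, 10, 10], [10, 5, 4, 10, 10], [4, 4, 4, 4, 10], [4, 5, 5, 10, 10], [10, 4, 10, 10], [4, 10, 10, 10, 10],
  [4, 4, 5, 10, 10, 10], [5, 4, 10, 10, 10], [5, 4, 4, 5, 10], [4, 5, 4, 10, 10], [4, 10, 10], [5, 4, 4, 4, 10]]

/-- Part of `primWords2`. -/
def primWords25 : List (List ℕ) := [
  [4, 5, 10, 10, 10], [5, 5, 4, 4, 4, 10], [4, 4, 5, 5, 4, 10], [4, 4, 5, 10], [4, 4, 4, 5, 5, 10], [10, 10, 10, 10],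
  [4, 10, 10, 10], [5, 5, 5, 4, 10, 10], [5, 5, 4, 4, 5, 10], [10, 10], [4, 4, 4, 10], [5, 10, 4, 10, 10],
  [5, 4, 10, 10], [5, 5, 10, 10], [4, 4, 4, 5, 4, 10], [10, 4, 10, 5, 4, 10], [5, 10, 4, 10], [4, 5, 4, 10, 4, 10],
  [4, 5, 4, 10], [4, 10], [4, 4, 4, 10, 10], [4, 4, 10, 4, 10, 10], [5, 5, 5, 10, 4, 10], [5, 10],
  [4, 10, 4, 10], [4, 4, 5, 10, 10], [5, 5, 4, 10], [5, 4, 4, 10, 10], [10, 10, 4, 5, 10], [5, 4, 5, 10, 10],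
  [4, 5, 5, 10], [4, 10, 5, 10, 4, 10], [5, 10, 4, 4, 10], [4, 5, 10, 4, 4, 10], [10, 10, 4, 4, 5, 4, 10], [5, 10, 4, 4, 4, 4, 10],
  [10, 10, 10, 5, 10, 4, 4, 10], [10, 10, 5, 10, 10], [10, 10, 10, 5, 10, 4, 10], [4, 5, 5, 10, 4, 4, 10], [5, 5, 10, 4, 4, 10], [5, 10, 4, 4, 4, 10],
  [5, 5, 10, 4, 4, 4, 10], [10, 5, 5, 10, 4, 4, 4, 10], [10, 10, 10, 5, 10, 5, 4, 10], [4, 10, 10, 5, 10, 10], [4, 4, 10, 4, 4, 5, 4, 10], [4, 10, 4, 4, 5, 4, 10]]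

/-- Part of `primWords2`. -/
def primWords26 : List (List ℕ) := [
  [10, 4, 4, 5, 4, 10], [10, 4, 4, 10], [4, 4, 5, 10, 4, 4, 10], [10, 4, 4, 4, 10], [5, 5, 5, 10, 4, 4, 10], [5, 10, 10, 5, 10, 4, 10],
  [10, 5, 4, 4, 4, 10, 10], [10, 10, 5, 10, 4, 10], [5, 4, 5, 10, 4, 4, 10], [10, 10, 4, 5, 10, 4, 4, 10], [10, 4, 4, 4, 4, 10], [10, 5, 5, 4, 10, 10],
  [5, 10, 4, 4, 5, 4, 10], [5, 4, 10, 10, 5, 10, 10], [4, 10, 10, 5, 10, 4, 10], [10, 10, 10, 5, 5, 4, 10], [], [4, 4, 10, 5, 10],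
  [4, 10, 5, 10], [4, 4, 4, 10, 5, 10], [5, 4, 4, 4, 10, 5, 10], [4, 4, 4, 4, 10, 5, 10], [4, 10, 5, 10, 4, 5, 4, 10], [4, 5, 4, 10, 5, 10],
  [10, 5, 10, 4, 5, 4, 10], [10, 5, 10], [5, 4, 10, 5, 10]]

/-- Words from 304 in the stabiliser of 304 and the letter 10. -/
def primWords2 : List (List ℕ) :=
  List.flatten [primWords20, primWords21, primWords22, primWords23, primWords24, primWords25, primWords26]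

/-- Part of `primWords3`. -/
def primWords30 : List (List ℕ) := [
  [5, 5, 11, 4, 11, 11, 11], [11, 5, 4, 5, 11], [11, 5, 4, 4, 4, 4, 11], [11, 11, 11], [4, 5, 11, 4, 5, 11, 11], [11, 4, 11, 4, 11, 4, 11],
  [11, 4, 11, 4, 11, 11], [11, 5, 11, 5, 4, 5, 11], [11, 4, 11, 11], [11, 11, 11, 4, 4, 11], [4, 5, 11, 4, 5, 5, 11], [11, 4, 11, 4, 4, 11],
  [11, 5, 4, 11, 5, 11, 11], [4, 4, 11, 11, 11], [11, 5, 11, 11, 11, 11], [4, 5, 4, 11, 4, 11, 11], [11, 5, 4, 11, 5, 11, 4, 11], [4, 4, 11, 4, 11, 4, 11],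
  [4, 11, 5, 11, 4, 11], [4, 4, 11, 4, 11, 11], [4, 4, 11, 5, 11, 4, 11], [5, 11, 4, 11, 11, 11], [5, 11, 11, 5, 11, 4, 11], [4, 11, 4, 11, 4, 11],
  [11, 5, 5, 4, 4, 11], [4, 11, 5, 4, 5, 11], [11, 5, 5, 4, 11, 11], [4, 5, 11, 5, 11, 11], [11, 5, 11, 11, 11], [4, 4, 5, 4, 11, 11, 11],
  [11, 4, 5, 4, 11, 11, 4, 11], [11, 5, 11, 4, 11], [5, 5, 11, 5, 11, 11], [11, 11, 11, 11, 11, 11], [5, 5, 4, 11, 11, 4, 11], [5, 11, 4, 11, 4, 11],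
  [4, 5, 5, 11, 11, 11], [5, 11, 5, 5, 4, 4, 11], [5, 11, 4, 11, 4, 5, 11], [5, 4, 11, 5, 11, 11], [5, 5, 11, 4, 5, 11, 11], [11, 11, 11, 11, 11, 5, 11],
  [11, 11, 11, 11, 11], [11, 4, 4, 11, 4, 5, 11], [5, 5, 4, 11, 11, 11], [5, 11, 4, 11, 4, 11, 11], [11, 11, 5, 5, 4, 11], [4, 11, 4, 11, 11, 5, 11]]

/-- Part of `primWords3`. -/
def primWords31 : List (List ℕ) := [
  [11, 4, 11, 4, 5, 11], [11, 11, 11, 11], [4, 11, 11, 5, 11, 11], [11, 11, 4, 11, 11], [4, 5, 5, 11, 4, 11, 11], [5, 11, 5, 4, 4, 4, 4, 11],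
  [5, 11, 11, 4, 11], [11, 5, 11, 4, 11, 11, 4, 11], [5, 11, 5, 4, 5, 11], [4, 11, 4, 11, 11, 11], [5, 11, 4, 5, 5, 11], [11, 11, 11, 11, 11, 11, 5, 11],
  [4, 5, 11, 11, 4, 11], [5, 4, 11, 4, 5, 11, 11], [5, 5, 11, 11, 4, 5, 11], [5, 11, 11, 11, 11, 11], [11, 11, 11, 5, 11, 4, 11], [5, 5, 11, 4, 11, 11],
  [11, 4, 5, 4, 11, 4, 11], [5, 4, 11, 4, 11, 11], [11, 5, 11, 11], [4, 11, 11, 11], [11, 5, 11, 4, 4, 11], [11, 5, 11, 5, 5, 4, 11],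
  [11, 4, 11, 11, 11], [4, 11, 4, 5, 11, 11], [5, 4, 11, 11, 11], [11, 4, 11, 11, 5, 11], [4, 11, 11, 4, 11], [11, 5, 5, 11, 4, 11],
  [4, 5, 11, 4, 11, 4, 11], [11, 11, 4, 5, 11], [4, 5, 11, 11, 5, 11, 4, 11], [4, 4, 5, 11, 11, 11], [4, 11, 5, 4, 11, 11], [4, 11, 5, 11, 11],
  [11, 4, 5, 5, 11, 4, 11], [11, 4, 5, 11, 11], [11, 5, 5, 11, 5, 11, 11], [5, 11, 5, 11, 11], [4, 11, 11, 11, 5, 11, 11], [11, 4, 11, 4, 11, 11, 11],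
  [5, 11, 11, 11, 11, 11, 11], [4, 11, 5, 11, 11, 11, 11], [11, 4, 5, 5, 11, 11, 11], [11, 11, 11, 11, 4, 5, 11], [5, 5, 11, 4, 11, 4, 5, 11], [4, 5, 11, 4, 11, 11]]

/-- Part of `primWords3`. -/
def primWords32 : List (List ℕ) := [
  [5, 11, 5, 4, 11, 11], [4, 11, 4, 11, 4, 4, 11], [11, 5, 4, 5, 11, 4, 11], [5, 4, 11, 4, 11, 4, 4, 11], [4, 11, 11, 11, 11], [4, 11, 4, 11, 11],
  [5, 5, 11, 11, 11, 11], [4, 11, 11, 5, 11, 4, 11], [5, 5, 11, 11, 11], [5, 11, 11, 11, 11], [4, 5, 4, 11, 11, 4, 11], [5, 11, 11, 4, 11, 11],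
  [4, 5, 11, 11, 11], [4, 11, 11, 11, 11, 4, 11], [4, 4, 11, 5, 11, 11], [11, 11, 4, 5, 11, 11, 11], [5, 5, 11, 5, 4, 5, 11], [4, 11, 5, 11, 11, 11],
  [4, 4, 5, 11, 5, 11, 11], [5, 11, 11, 11, 11, 5, 11], [5, 11, 5, 5, 11, 11, 11], [5, 11, 11, 5, 11, 11], [4, 4, 5, 4, 11, 11, 4, 11], [5, 11, 5, 5, 11, 4, 11],
  [5, 11, 11, 4, 5, 11], [5, 11, 11, 4, 5, 5, 11], [11, 11, 5, 11, 11], [5, 11, 11, 11], [4, 5, 11, 11, 4, 5, 5, 11], [11, 11, 4, 11, 11, 4, 11],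
  [11, 11, 4, 5, 11, 11], [5, 4, 11, 5, 11, 4, 11], [11, 5, 4, 11, 5, 11], [11, 4, 11, 4, 11], [11, 5, 4, 11, 11], [4, 4, 4, 5, 11, 11, 11],
  [4, 4, 11, 5, 4, 5, 11], [4, 11, 5, 11, 5, 5, 4, 11], [11, 5, 11, 4, 11, 11], [4, 4, 4, 11, 11, 11], [11, 11, 11, 11, 5, 11], [11, 11, 4, 11],
  [4, 5, 11, 11, 4, 5, 11], [4, 5, 11, 4, 11, 4, 5, 11], [5, 11, 4, 5, 11, 11], [11, 11, 11, 11, 4, 11], [5, 11, 4, 11, 11, 5, 11], [5, 11, 4, 11, 11]]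

/-- Part of `primWords3`. -/
def primWords33 : List (List ℕ) := [
  [5, 5, 11, 5, 4, 11, 11], [4, 5, 4, 11, 5, 11, 11], [11, 11, 4, 5, 5, 11], [11, 5, 5, 11, 11, 4, 5, 11], [11, 11, 5, 11, 4, 11], [4, 11, 11, 11, 11, 11],
  [11, 5, 5, 11, 11, 4, 11], [4, 11, 11, 4, 11, 11], [11, 5, 5, 11, 11, 11], [4, 5, 4, 11, 11, 11], [4, 5, 11, 4, 11, 11, 11], [11, 11, 11, 5, 11, 11],
  [5, 4, 11, 11, 4, 11], [5, 5, 11, 11, 4, 11], [4, 11, 5, 5, 4, 4, 11], [11, 4, 5, 5, 11], [5, 11, 11, 11, 4, 5, 11], [5, 5, 5, 11, 4, 11, 11, 4, 11],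
  [11, 4, 5, 11, 11, 11], [11, 5, 11, 11, 4, 5, 11], [4, 11, 11, 5, 4, 11, 11], [5, 4, 11, 11, 11, 4, 11], [5, 11, 5, 4, 11, 11, 11], [5, 5, 11, 11, 11, 4, 11],
  [11, 4, 11, 11, 11, 11], [5, 5, 11, 4, 11, 11, 4, 11], [5, 5, 11, 11, 11, 4, 5, 11], [4, 11, 5, 11, 4, 11, 4, 11], [5, 11, 11, 11, 4, 11], [4, 5, 4, 11, 11, 11, 4, 11],
  [11, 4, 4, 11, 5, 11, 11], [4, 11, 11, 11, 4, 11], [11, 11, 11, 4, 11, 11, 4, 11], [11, 5, 11, 4, 11, 4, 11], [4, 11, 4, 11, 11, 11, 11], [5, 11, 11, 5, 4, 11, 11],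
  [5, 11, 4, 5, 11, 11, 11], [11, 11, 11, 4, 5, 11], [11, 4, 4, 4, 5, 5, 11], [11, 5, 4, 11, 11, 11], [5, 11, 4, 11, 11, 4, 11], [11, 4, 11, 4, 11, 11, 4, 11],
  [4, 11, 11, 11, 4, 5, 11], [11, 4, 11, 4, 11, 11, 5, 11], [11, 11, 11, 4, 11], [11, 4, 11, 11, 4, 11], [11, 11, 5, 4, 11, 11], [4, 11, 4, 11, 11, 4, 11]]

/-- Part of `primWords3`. -/
def primWords34 : List (List ℕ) := [
  [11, 5, 4, 11], [5, 11, 4, 5, 11], [11, 5, 4, 4, 4, 11], [4, 11, 4, 4, 11], [4, 5, 11, 5, 5, 4, 11], [5, 11, 4, 11, 5, 4, 5, 11],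
  [11, 4, 11], [5, 11, 11, 4, 4, 4, 11], [5, 4, 11, 4, 11], [5, 4, 4, 11, 4, 4, 11], [11, 5, 5, 11, 11], [4, 5, 4, 11, 11],
  [11, 11, 5, 5, 11, 11], [4, 11, 11, 11, 5, 11], [5, 5, 11, 4, 11], [4, 5, 4, 11, 5, 11], [4, 11, 11, 4, 4, 4, 11], [5, 4, 5, 11, 4, 11],
  [5, 4, 11, 4, 5, 11], [5, 5, 11, 11], [5, 11, 4, 5, 4, 11, 11], [5, 11, 11], [4, 4, 5, 5, 11, 4, 11], [4, 5, 11, 4, 11],
  [11, 5, 5, 4, 4, 4, 11], [4, 11, 4, 5, 4, 4, 11], [11, 5, 11], [11, 4, 5, 4, 11, 11], [11, 11], [4, 11, 4, 5, 11],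
  [4, 11, 5, 4, 11, 4, 11], [4, 4, 5, 4, 11, 4, 11], [5, 4, 11, 11], [4, 11, 11, 5, 11], [4, 4, 11, 5, 11], [5, 4, 5, 11, 11],
  [11, 11, 11, 5, 11], [11, 4, 4, 11], [4, 4, 5, 5, 11, 11], [4, 5, 11, 11, 11, 5, 11], [5, 5, 11, 4, 4, 11], [4, 4, 11, 11],
  [5, 11, 5, 5, 4, 11], [5, 11, 11, 5, 11], [5, 4, 11, 5, 11], [11, 11, 5, 5, 11], [5, 4, 4, 11, 4, 5, 11], [4, 5, 5, 4, 11, 11]]

/-- Part of `primWords3`. -/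
def primWords35 : List (List ℕ) := [
  [5, 5, 11, 5, 5, 4, 11], [11, 4, 5, 5, 4, 11], [5, 5, 11, 11, 5, 11], [4, 11, 5, 11], [11, 5, 5, 4, 11], [4, 11, 11],
  [11, 11, 5, 11], [4, 4, 11, 4, 5, 11], [5, 5, 4, 11, 5, 11], [5, 4, 4, 5, 5, 11, 11], [4, 5, 5, 11, 11], [5, 5, 5, 11, 4, 4, 11],
  [4, 5, 11, 11], [5, 11, 11, 11, 5, 11], [5, 5, 4, 11, 11], [5, 11, 4, 4, 11], [4, 4, 11, 4, 4, 11], [11, 11, 4, 4, 4, 11],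
  [4, 4, 5, 4, 11, 11], [4, 11, 5, 4, 11], [5, 11, 5, 4, 4, 4, 11], [4, 5, 5, 11, 4, 11], [11, 4, 5, 11], [4, 11, 4, 11],
  [4, 5, 11, 4, 5, 11], [5, 5, 5, 11, 4, 11], [11, 4, 5, 4, 4, 11], [11, 5, 4, 11, 4, 11], [11, 5, 5, 11, 4, 4, 11], [11, 4, 11, 5, 4, 5, 11],
  [4, 5, 4, 11, 4, 11], [5, 11, 4, 11], [11], [4, 11], [5, 5, 5, 4, 4, 11], [4, 5, 4, 4, 11],
  [5, 5, 4, 4, 11], [4, 4, 4, 5, 5, 11], [4, 5, 11, 5, 5, 11], [4, 5, 11], [5, 11], [4, 5, 5, 4, 11],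
  [4, 4, 5, 4, 4, 11], [4, 4, 4, 11], [4, 4, 5, 5, 11], [5, 4, 4, 4, 11], [5, 4, 4, 5, 5, 11], [4, 4, 4, 4, 4, 11]]

/-- Part of `primWords3`. -/
def primWords36 : List (List ℕ) := [
  [4, 4, 4, 4, 11], [4, 5, 4, 11], [4, 4, 11], [4, 4, 5, 4, 11], [5, 5, 11], [5, 11, 5, 5, 11],
  [5, 4, 4, 11], [11, 5, 5, 11], [5, 4, 11], [4, 5, 5, 11], [5, 5, 4, 11], [5, 4, 5, 11],
  [5, 4, 4, 4, 4, 11], [5, 5, 4, 4, 4, 11], [11, 11, 4, 4, 11], [11, 4, 4, 4, 11], [], [11, 11, 11, 5, 5, 4, 11],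
  [4, 11, 11, 11, 4, 11, 11], [11, 4, 11, 11, 11, 4, 11], [11, 11, 11, 5, 4, 11, 11], [11, 4, 11, 11, 11, 11, 11], [11, 5, 5, 4, 11, 11, 4, 11], [11, 5, 11, 4, 11, 4, 11, 11],
  [11, 4, 5, 4, 11, 11, 11, 4, 11], [11, 11, 11, 4, 11, 11], [11, 5, 5, 11, 11, 11, 4, 11]]

/-- Words from 304 in the stabiliser of 304 and the letter 11. -/
def primWords3 : List (List ℕ) :=
  List.flatten [primWords30, primWords31, primWords32, primWords33, primWords34, primWords35, primWords36]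

/-- Part of `primWords4`. -/
def primWords40 : List (List ℕ) := [
  [5, 4, 12, 4, 5, 12, 4, 12], [4, 4, 12, 4, 4, 12, 4, 4, 12], [4, 4, 12, 4, 4, 4, 12, 5, 4, 12], [4, 5, 12, 4, 12, 4, 4, 4, 12], [5, 5, 4, 4, 5, 12, 4, 12, 4, 12], [4, 12, 4, 12, 4, 5, 4, 12],
  [5, 12, 4, 12, 4, 5, 12, 4, 12], [12, 4, 5, 4, 12, 4, 4, 4, 12], [12, 4, 12, 5, 4, 5, 12, 4, 12], [5, 12, 4, 12, 4, 4, 4, 12], [4, 4, 5, 12, 4, 12, 5, 4, 12], [5, 5, 4, 12, 5, 4, 12, 5, 4, 12],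
  [4, 4, 4, 12, 4, 12, 4, 4, 12], [12, 4, 12, 4, 4, 4, 4, 12], [12, 4, 12, 4, 12], [4, 4, 12, 4, 12, 4, 4, 12], [4, 12, 4, 4, 12, 5, 4, 12], [4, 4, 12, 5, 4, 12, 4, 4, 4, 12],
  [4, 4, 12, 4, 4, 4, 5, 12, 4, 12], [12, 5, 4, 5, 4, 12, 5, 4, 12], [5, 12, 4, 4, 4, 4, 12, 4, 12], [4, 12, 4, 5, 12, 4, 12], [12, 4, 4, 4, 12, 4, 12], [4, 12, 5, 4, 12, 4, 4, 4, 12],
  [5, 5, 4, 12, 4, 12, 4, 12], [5, 4, 4, 12, 4, 12, 4, 4, 12], [12, 5, 4, 12, 4, 12], [5, 4, 12, 5, 4, 5, 12, 4, 12], [12, 5, 4, 12, 5, 4, 12], [5, 5, 4, 12, 4, 12, 4, 4, 4, 12],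
  [5, 4, 12, 5, 4, 12, 4, 4, 12], [4, 12, 4, 4, 4, 5, 12, 4, 12], [4, 12, 4, 5, 4, 5, 12, 4, 12], [5, 4, 12, 4, 4, 12, 5, 4, 12], [5, 12, 4, 4, 12, 4, 12, 4, 4, 12], [12, 4, 4, 12, 4, 4, 12],
  [12, 4, 5, 12, 4, 12, 4, 4, 12], [12, 5, 5, 5, 4, 12, 4, 12], [4, 12, 4, 5, 4, 12, 5, 4, 12], [12, 4, 4, 12, 4, 4, 4, 12], [4, 12, 4, 4, 12, 4, 12], [12, 4, 5, 4, 12, 4, 12],
  [4, 12, 5, 5, 4, 5, 12, 4, 12], [12, 4, 4, 5, 4, 12, 4, 4, 12], [12, 4, 4, 4, 4, 12, 4, 12], [4, 4, 12, 4, 5, 4, 5, 12, 4, 12], [4, 4, 12, 4, 4, 12, 4, 12], [4, 12, 5, 4, 12, 4, 4, 12]]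

/-- Part of `primWords4`. -/
def primWords41 : List (List ℕ) := [
  [12, 4, 12, 4, 12, 4, 4, 4, 4, 12], [12, 5, 5, 4, 12, 4, 12], [5, 12, 4, 5, 12, 4, 12], [5, 5, 4, 12, 5, 4, 5, 12, 4, 12], [5, 5, 4, 12, 4, 4, 12, 4, 4, 12], [4, 4, 12, 4, 12, 4, 5, 4, 12],
  [12, 4, 12, 5, 4, 12], [4, 12, 5, 4, 4, 4, 12, 5, 4, 12], [4, 12, 5, 4, 12, 4, 12], [4, 4, 5, 4, 12, 4, 4, 12, 4, 4, 12], [4, 5, 12, 4, 12, 5, 4, 12], [12, 5, 4, 12, 4, 4, 12, 4, 12],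
  [4, 12, 4, 12, 5, 4, 12], [4, 4, 4, 5, 12, 4, 12, 4, 12], [12, 4, 5, 4, 12, 5, 4, 12], [4, 4, 4, 4, 5, 12, 4, 12, 4, 12], [4, 12, 5, 4, 5, 4, 12, 5, 4, 12], [12, 4, 5, 4, 12, 4, 12, 4, 12],
  [5, 4, 12, 4, 4, 4, 4, 12, 4, 12], [4, 12, 4, 12, 4, 4, 12], [5, 4, 12, 4, 12, 5, 4, 12], [12, 4, 4, 4, 4, 5, 12, 4, 12], [12, 4, 12, 4, 4, 12], [12, 4, 5, 5, 5, 4, 12, 4, 12],
  [4, 5, 4, 12, 4, 4, 12, 4, 4, 12], [5, 4, 12, 4, 5, 4, 12, 4, 12], [4, 12, 4, 5, 4, 12, 4, 4, 12], [12, 5, 4, 12, 4, 4, 12], [4, 5, 12, 4, 12, 4, 4, 12], [4, 12, 4, 5, 12, 4, 12, 4, 4, 12],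
  [4, 12, 4, 4, 12, 4, 4, 12], [12, 4, 5, 4, 12, 4, 4, 12], [4, 12, 4, 4, 4, 12, 4, 12], [4, 5, 4, 12, 4, 12, 4, 12], [12, 4, 4, 4, 5, 12, 4, 12], [12, 5, 4, 5, 12, 4, 12],
  [12, 4, 12, 4, 12, 4, 4, 4, 12], [5, 5, 4, 12, 4, 4, 12, 4, 12], [5, 12, 4, 12, 4, 12], [4, 4, 5, 12, 4, 12, 4, 4, 12], [4, 4, 5, 12, 4, 12, 4, 12], [12, 4, 5, 12, 4, 12],
  [5, 5, 4, 12, 4, 4, 12, 5, 4, 12], [4, 12, 4, 12, 4, 12], [4, 12, 4, 12, 4, 5, 12, 4, 12], [5, 4, 12, 5, 4, 12, 5, 4, 12], [12, 4, 5, 12, 4, 5, 12, 4, 12], [12, 4, 4, 5, 4, 12, 4, 12]]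

/-- Part of `primWords4`. -/
def primWords42 : List (List ℕ) := [
  [12, 4, 4, 4, 4, 12, 5, 4, 12], [12, 5, 4, 12, 4, 12, 4, 4, 4, 12], [5, 4, 12, 4, 4, 12, 4, 4, 12], [5, 12, 5, 4, 12, 4, 12, 4, 4, 4, 12], [5, 12, 5, 4, 12, 4, 12], [5, 5, 4, 12, 5, 4, 12, 4, 4, 12],
  [12, 5, 5, 4, 5, 12, 4, 12], [4, 12, 4, 4, 4, 12, 5, 4, 12], [4, 4, 12, 4, 12, 4, 4, 4, 12], [12, 4, 12, 4, 4, 5, 4, 12], [4, 12, 4, 4, 12, 4, 12, 4, 4, 12], [4, 4, 12, 4, 4, 12, 5, 4, 12],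
  [5, 4, 12, 4, 12, 4, 12], [12, 4, 5, 4, 5, 12, 4, 12], [4, 12, 5, 4, 5, 12, 4, 12], [4, 12, 4, 5, 4, 12, 4, 12], [5, 4, 12, 5, 4, 12, 4, 12], [4, 12, 5, 4, 12, 5, 4, 12],
  [5, 5, 4, 12, 4, 5, 12, 4, 12], [4, 12, 4, 12, 4, 4, 4, 12], [12, 4, 4, 12, 5, 4, 12], [12, 4, 4, 5, 4, 12, 5, 4, 12], [5, 4, 12, 4, 4, 4, 12, 4, 12], [12, 5, 4, 12, 4, 5, 12, 4, 12],
  [5, 12, 4, 5, 4, 12, 4, 4, 12], [12, 5, 5, 4, 12, 4, 4, 12], [4, 4, 12, 4, 12, 5, 4, 12], [5, 4, 5, 12, 4, 12, 4, 4, 4, 12], [4, 12, 5, 5, 4, 12, 4, 4, 12], [12, 4, 12, 4, 5, 12, 4, 12],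
  [12, 4, 4, 4, 12, 4, 12, 4, 4, 12], [4, 12, 4, 4, 4, 4, 12, 4, 12], [12, 4, 12, 4, 5, 4, 12, 5, 4, 12], [12, 5, 4, 12, 4, 4, 4, 12], [12, 5, 4, 4, 4, 12, 4, 4, 12], [4, 4, 5, 4, 12, 4, 12, 4, 12],
  [12, 4, 4, 4, 12, 4, 4, 12], [5, 4, 12, 4, 4, 4, 12, 5, 4, 12], [12, 4, 12, 4, 4, 4, 12], [4, 12, 4, 12, 4, 4, 4, 4, 12], [4, 5, 12, 4, 5, 12, 4, 12], [5, 12, 4, 12, 4, 4, 12],
  [5, 4, 4, 5, 12, 4, 12, 4, 12], [5, 12, 4, 5, 4, 12, 4, 12], [4, 4, 12, 5, 4, 5, 12, 4, 12], [5, 4, 5, 12, 4, 12, 5, 4, 12], [12, 4, 4, 12, 4, 12], [5, 12, 4, 12, 5, 4, 5, 12, 4, 12]]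

/-- Part of `primWords4`. -/
def primWords43 : List (List ℕ) := [
  [12, 5, 4, 4, 4, 12, 5, 4, 12], [5, 4, 12, 4, 4, 12, 4, 12], [12, 4, 12, 4, 5, 4, 12], [5, 4, 12, 4, 12, 4, 4, 4, 12], [12, 4, 4, 4, 12, 5, 4, 12], [4, 4, 12, 5, 5, 4, 5, 12, 4, 12],
  [12, 5, 4, 4, 12, 4, 12, 4, 4, 12], [12, 4, 4, 5, 12, 4, 12], [5, 12, 4, 4, 12, 4, 4, 12], [4, 4, 12, 4, 5, 4, 12, 4, 4, 12], [4, 4, 12, 4, 5, 12, 4, 12], [4, 5, 12, 4, 12, 4, 12],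
  [12, 4, 4, 12, 4, 12, 4, 4, 12], [5, 12, 4, 12, 5, 4, 12], [4, 5, 5, 4, 12, 4, 12, 4, 12], [5, 12, 4, 4, 5, 4, 12, 4, 12], [4, 4, 5, 4, 12, 4, 12, 4, 12, 4, 4, 12], [12, 5, 4, 12, 5, 4, 12, 4, 4, 12],
  [5, 12, 4, 12, 4, 4, 4, 12, 4, 12], [4, 12, 4, 12, 5, 5, 4, 12, 4, 4, 12], [12, 4, 12, 4, 4, 4, 12, 4, 12], [4, 4, 4, 12, 4, 12, 4, 12, 4, 4, 12], [12, 5, 4, 12, 4, 4, 4, 12, 4, 12], [12, 4, 12, 4, 12, 5, 4, 12, 5, 4, 12],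
  [5, 4, 12, 4, 12, 5, 5, 4, 12, 4, 4, 12], [4, 4, 12, 4, 12, 4, 12, 4, 4, 12], [4, 12, 5, 4, 12, 4, 4, 4, 12, 4, 12], [5, 12, 4, 12, 4, 4, 12, 5, 4, 12], [4, 12, 5, 4, 12, 4, 4, 12, 5, 4, 12], [12, 4, 12, 5, 4, 12, 4, 4, 12],
  [12, 4, 12, 4, 12, 4, 4, 12], [4, 4, 12, 4, 12, 4, 4, 12, 5, 4, 12], [5, 4, 12, 4, 12, 4, 12, 4, 4, 12], [4, 4, 12, 4, 12, 5, 5, 4, 12, 4, 4, 12], [5, 12, 4, 12, 4, 12, 4, 4, 12], [4, 5, 4, 12, 4, 12, 4, 12, 4, 4, 12],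
  [4, 12, 4, 12, 4, 12, 4, 4, 12], [5, 4, 12, 4, 12, 4, 4, 4, 12, 4, 12], [4, 12, 4, 12, 4, 4, 4, 12, 4, 12], [12, 4, 12, 5, 5, 4, 12, 4, 4, 12], [12, 5, 4, 12, 4, 4, 12, 5, 4, 12], [4, 5, 12, 4, 12, 4, 4, 12, 5, 4, 12],
  [12, 4, 12, 4, 5, 12, 4, 12, 4, 4, 4, 12], [5, 12, 4, 12, 5, 4, 12, 4, 4, 12], [4, 12, 4, 12, 4, 4, 12, 5, 4, 12], [12, 4, 4, 5, 12, 4, 12, 5, 4, 12], [4, 4, 12, 5, 4, 12, 4, 4, 12, 5, 4, 12], [12, 4, 12, 4, 4, 12, 5, 4, 12]]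

/-- Part of `primWords4`. -/
def primWords44 : List (List ℕ) := [
  [4, 5, 4, 12, 4, 5, 4, 12], [4, 5, 4, 12, 4, 4, 12], [4, 5, 4, 5, 12, 4, 12], [4, 12, 4, 12, 4, 12, 4, 12], [4, 5, 4, 12, 4, 4, 4, 4, 12], [4, 5, 4, 12, 4, 12],
  [4, 5, 4, 12, 5, 4, 12], [4, 5, 4, 12, 4, 4, 4, 12], [4, 5, 5, 5, 4, 12, 4, 12], [4, 4, 4, 12, 4, 4, 4, 12], [4, 4, 4, 5, 12, 4, 12], [4, 4, 4, 12, 5, 4, 12],
  [4, 4, 4, 12, 4, 4, 12], [4, 4, 4, 12, 4, 12], [4, 4, 4, 12, 4, 5, 4, 12], [12, 4, 12, 5, 4, 12, 4, 12], [12, 4, 4, 5, 4, 12], [4, 4, 4, 5, 4, 12, 4, 12],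
  [5, 12, 4, 12], [5, 4, 4, 4, 5, 4, 12, 4, 4, 12], [12, 5, 4, 12], [4, 4, 4, 5, 4, 12, 4, 4, 12], [12, 4, 4, 4, 12], [4, 5, 4, 5, 4, 12, 5, 4, 12],
  [4, 5, 4, 5, 4, 12, 4, 4, 12], [12, 4, 5, 4, 12], [4, 4, 4, 5, 4, 12, 5, 4, 12], [12, 4, 4, 12], [4, 4, 4, 5, 4, 12, 4, 4, 4, 12], [12, 4, 12],
  [4, 5, 4, 5, 4, 12, 4, 12], [12, 4, 4, 4, 4, 12], [4, 4, 12, 5, 4, 12], [5, 4, 5, 12, 4, 12], [5, 4, 12, 4, 4, 12], [5, 5, 5, 4, 12, 4, 12],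
  [4, 4, 12, 4, 12], [12, 4, 12, 4, 12, 4, 12], [5, 4, 12, 4, 4, 4, 12], [4, 4, 12, 4, 4, 4, 12], [4, 4, 12, 4, 5, 4, 12], [5, 4, 12, 4, 5, 4, 12],
  [5, 4, 12, 4, 4, 4, 4, 12], [4, 4, 5, 12, 4, 12], [4, 4, 12, 4, 4, 4, 4, 12], [5, 4, 12, 5, 4, 12], [5, 4, 12, 4, 12], [4, 4, 12, 4, 4, 12]]

/-- Part of `primWords4`. -/
def primWords45 : List (List ℕ) := [
  [12, 5, 12, 4, 5, 12, 4, 12], [4, 12, 5, 4, 12], [4, 12, 4, 5, 4, 12], [5, 5, 4, 5, 12, 4, 12], [4, 12, 4, 4, 4, 4, 12], [5, 5, 4, 12, 4, 4, 12],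
  [5, 5, 4, 12, 4, 5, 4, 12], [4, 12, 4, 12], [4, 5, 12, 4, 12], [5, 5, 4, 12, 4, 4, 4, 12], [5, 5, 4, 12, 5, 4, 12], [4, 12, 4, 4, 5, 4, 12],
  [5, 5, 4, 12, 4, 12], [4, 12, 4, 4, 4, 12], [4, 12, 4, 4, 12], [12, 5, 12, 4, 12, 4, 12], [5, 4, 5, 4, 12, 4, 4, 12], [4, 12, 4, 12, 5, 4, 12, 4, 12],
  [4, 4, 4, 4, 12, 5, 4, 12], [4, 4, 5, 4, 12, 4, 5, 4, 12], [4, 4, 5, 4, 12, 4, 12], [5, 4, 4, 4, 12, 4, 4, 12], [4, 4, 4, 4, 5, 12, 4, 12], [4, 4, 5, 4, 12, 5, 4, 12],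
  [4, 4, 5, 4, 12, 4, 4, 12], [4, 4, 4, 4, 12, 4, 12], [5, 4, 4, 4, 12, 5, 4, 12], [5, 4, 5, 4, 12, 4, 12], [4, 4, 5, 4, 12, 4, 4, 4, 12], [5, 4, 4, 4, 12, 4, 12],
  [4, 4, 5, 5, 5, 4, 12, 4, 12], [5, 4, 5, 4, 12, 5, 4, 12], [12, 4, 12, 5, 4, 12, 5, 4, 12], [4, 12, 4, 12, 5, 4, 12, 5, 4, 12], [12, 4, 4, 5, 12, 4, 12, 4, 4, 12], [4, 12, 4, 4, 12, 4, 12, 4, 4, 4, 12],
  [12, 5, 4, 12, 5, 4, 12, 5, 4, 12], [4, 4, 12, 4, 5, 12, 4, 12, 4, 4, 4, 12], [12, 4, 5, 12, 4, 12, 4, 4, 12, 5, 4, 12], [4, 12, 5, 4, 12, 4, 12, 5, 4, 12], [12, 5, 4, 12, 4, 12, 5, 4, 12], [5, 4, 5, 12, 4, 12, 4, 4, 12, 4, 4, 12],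
  [4, 4, 12, 4, 4, 12, 4, 12, 4, 4, 4, 12], [12, 4, 4, 12, 4, 4, 12, 4, 12], [4, 12, 4, 5, 12, 4, 12, 4, 4, 4, 12], [12, 4, 12, 4, 12, 5, 4, 12], [12, 4, 12, 4, 12, 4, 4, 12, 5, 4, 12], [12, 5, 5, 4, 12, 5, 4, 12, 5, 4, 12]]

/-- Part of `primWords4`. -/
def primWords46 : List (List ℕ) := [
  [4, 12, 4, 4, 12, 4, 4, 12, 4, 12], [5, 12, 4, 12, 4, 4, 12, 4, 4, 12], [12, 5, 4, 12, 4, 4, 12, 4, 4, 12], [4, 5, 12, 4, 12, 4, 4, 12, 4, 4, 12], [12, 4, 12, 4, 4, 12, 4, 4, 12], [12, 4, 5, 4, 12, 4, 12, 4, 12, 4, 4, 12],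
  [12, 4, 4, 12, 4, 12, 4, 4, 4, 12], [5, 12, 4, 12, 4, 12, 4, 4, 12, 5, 4, 12], [5, 4, 12, 4, 12, 5, 4, 12, 5, 4, 12], [12, 4, 5, 12, 4, 12, 4, 4, 4, 12], [4, 4, 5, 12, 4, 12, 4, 4, 12, 4, 4, 12], [4, 12, 4, 12, 4, 12, 5, 4, 12],
  [4, 5, 4, 12, 4, 12, 4, 12, 5, 4, 12], [5, 12, 4, 12, 4, 12, 5, 4, 12], [5, 4, 12, 4, 12, 4, 12, 5, 4, 12], [4, 12, 5, 4, 12, 5, 4, 12, 5, 4, 12], [], [12],
  [4, 4, 4, 4, 12], [4, 12], [5, 4, 12], [4, 4, 12], [5, 5, 4, 12], [4, 4, 5, 4, 12],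
  [4, 4, 4, 5, 4, 12], [4, 4, 4, 12], [4, 5, 4, 12]]

/-- Words from 304 in the stabiliser of 304 and the letter 12. -/
def primWords4 : List (List ℕ) :=
  List.flatten [primWords40, primWords41, primWords42, primWords43, primWords44, primWords45, primWords46]

end Cfsg.Agent.Ico
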