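import Cfsg.Agent.Lib.Icosian.Unitary
import Cfsg.Agent.Lib.Icosian.ChainData

/-!
# The order of the reflection group

* `el`, `tables_sound` : thirteen permutations of the lines with packed tables
* `range_lineHom` : the image of the reflection group is generated by them
* `natCard_range`, `natCard_twoJ2`, `natCard_center`, `natCard_J2`, `nonempty_J2_equiv`
* `stab_line` : the stabiliser of the line 304 and its order 1920
-/

set_option autoImplicit false

namespace Cfsg.Agent.Ico

open Cfsg.Spor Cfsg.Agent.StabCert

/-- A generator acting on the lines. -/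
noncomputable def genEl (k : Fin 4) : twoJ2 := ⟨reflPerm (gen k), reflPerm_mem _⟩

theorem lineHom_genEl (k : Fin 4) (i : Fin 315) : lineHom (genEl k) i = genImg k i :=
  lineImg_eq (conj_reflPerm k i)

/-- The first four letters. -/
noncomputable def baseEl (k : ℕ) : Equiv.Perm (Fin 315) := lineHom (genEl (Fin.ofNat 4 k))

/-- The thirteen letters. -/
noncomputable def el (k : ℕ) : Equiv.Perm (Fin 315) :=
  if k < 4 then baseEl k else wordEl baseEl (letterDef.getD (k - 4) [])

/-- Lines by number. -/
def pt (i : ℕ) : Fin 315 := Fin.ofNat 315 i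

theorem pt_val (x : Fin 315) : pt x = x := Fin.ext (Nat.mod_eq_of_lt x.isLt)

theorem pt_injOn : Set.InjOn pt {i | i < 315} := by
  intro i hi j hj e
  have := congrArg Fin.val e
  simpa [pt, Nat.mod_eq_of_lt hi, Nat.mod_eq_of_lt hj] using this

/-- The tables of the first four letters. -/
def baseTabOK (k : Fin 4) : Bool :=
  (List.finRange 315).all fun i =>
    look 9 (letterTab.getD k.val 0) i.val == (genImg k i).val

theorem baseTab_ok : (List.finRange 4).all baseTabOK = true := by decide +kernel

theorem base_sound : TablesSound (MonoidHom.id (Equiv.Perm (Fin 315))) baseEl pt 9 315 4 letterTab := by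
  intro k hk i hi
  have h := List.all_eq_true.1 baseTab_ok ⟨k, hk⟩ (List.mem_finRange _)
  simp only [baseTabOK, List.all_eq_true, beq_iff_eq] at h
  have h' := h ⟨i, hi⟩ (List.mem_finRange _)
  simp only at h'
  refine ⟨h' ▸ Fin.isLt _, ?_⟩
  rw [h', pt_val, MonoidHom.id_apply, baseEl, lineHom_genEl,
    show Fin.ofNat 4 k = (⟨k, hk⟩ : Fin 4) from Fin.ext (Nat.mod_eq_of_lt hk),
    show pt i = (⟨i, hi⟩ : Fin 315) from Fin.ext (Nat.mod_eq_of_lt hi)]

/-- The table of a further letter. -/
def defTabOK (j : ℕ) : Bool :=
  ((letterDef.getD j []).all fun a => Nat.blt a 4) &&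
    (List.range 315).all fun i =>
      look 9 (letterTab.getD (j + 4) 0) i == ev 9 letterTab (letterDef.getD j []) i

theorem defTab_ok : (List.range 9).all defTabOK = true := by decide +kernel

theorem def_spec {k : ℕ} (hk : k < 13) (h4 : ¬k < 4) :
    (∀ a ∈ letterDef.getD (k - 4) [], a < 4) ∧ ∀ i < 315,
      look 9 (letterTab.getD k 0) i = ev 9 letterTab (letterDef.getD (k - 4) []) i := by
  have h := List.all_eq_true.1 defTab_ok (k - 4) (List.mem_range.2 (by omega))
  simp only [defTabOK, Bool.and_eq_true, List.all_eq_true, Nat.blt_eq, List.mem_range, beq_iff_eq,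
    show k - 4 + 4 = k by omega] at h
  exact h

theorem tables_sound : TablesSound (MonoidHom.id (Equiv.Perm (Fin 315))) el pt 9 315 13 letterTab := by
  intro k hk i hi
  by_cases h4 : k < 4
  · rw [el, if_pos h4]; exact base_sound k h4 i hi
  · obtain ⟨hw, he⟩ := def_spec hk h4
    rw [el, if_neg h4, he i hi]
    exact ev_spec base_sound _ hw i hi

theorem el_mem_range (k : ℕ) : el k ∈ lineHom.range := by
  rw [el]
  split_ifs
  · exact ⟨_, rfl⟩
  · refine Subgroup.list_prod_mem _ fun x hx => ?_
    obtain ⟨a, -, rfl⟩ := List.mem_map.1 hx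
    exact ⟨_, rfl⟩

theorem sub_le_range (l : List ℕ) : sub el l ≤ lineHom.range :=
  (Subgroup.closure_le _).2 (by rintro _ ⟨k, -, rfl⟩; exact el_mem_range k)

theorem range_le_sub {l : List ℕ} (hl : ∀ k < 4, k ∈ l) : lineHom.range ≤ sub el l := by
  rintro _ ⟨⟨g, hg⟩, rfl⟩
  refine twoJ2_induction (P := fun g => ∀ h : g ∈ twoJ2, lineHom ⟨g, h⟩ ∈ sub el l)
    (fun h => by
      rw [show (⟨1, h⟩ : twoJ2) = 1 from rfl, map_one]
      exact one_mem _)
    (fun k f hf h => ?_) hg hg
  have hfm : f ∈ twoJ2 := by simpa using mul_mem (inv_mem (reflPerm_mem (gen k))) h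
  rw [show (⟨_, h⟩ : twoJ2) = genEl k * ⟨f, hfm⟩ from rfl, map_mul]
  refine mul_mem ?_ (hf hfm)
  have := gen_mem_sub el (hl k k.isLt)
  rwa [el, if_pos k.isLt, baseEl, Fin.ofNat_eq_cast, Fin.cast_val_eq_self] at this

/-- The points deciding equality. -/
def detPts : List ℕ := [304, 313, 314, 1, 3, 7]

theorem det_range {g : Equiv.Perm (Fin 315)} (hg : g ∈ lineHom.range)
    (h : ∀ β ∈ detPts, g (pt β) = pt β) : g = 1 := by
  obtain ⟨x, rfl⟩ := hg
  have : x ∈ lineHom.ker := by
    rw [ker_lineHom]
    rcases eq_one_or_negEl (g := x) (fun i hi => by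
        have e := h i.val (by fin_cases hi <;> simp [detPts])
        rwa [pt_val] at e) with rfl | rfl
    · exact one_mem _
    · exact negEl_mem_center
  exact this

set_option maxRecDepth 100000 in
theorem chain_ok : chainOK 9 315 13 letterTab detPts [level0, level1, level2] = true := by
  decide +kernel

theorem chain_info : ∀ ch, chainOK 9 315 13 letterTab detPts ch = true →
    (∀ k ∈ nextGens ch, k < 13) ∧
    Nat.card (sub el (nextGens ch)) = (ch.map fun L => L.words.length).prod ∧
    ∀ g ∈ sub el (nextGens ch), (∀ L ∈ ch, g (pt L.b) = pt L.b) → g = 1 :=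
  chain_spec (G := Equiv.Perm (Fin 315)) (ρ := MonoidHom.id _) tables_sound pt_injOn
    (by decide) (fun g hg h => det_range (sub_le_range _ hg) h)

theorem chain_tail_ok : chainOK 9 315 13 letterTab detPts [level1, level2] = true := by
  have h := chain_ok
  rw [chainOK, Bool.and_eq_true] at h
  exact h.2

theorem range_lineHom : lineHom.range = sub el level0.gens :=
  le_antisymm (range_le_sub (by decide)) (sub_le_range _)

theorem natCard_range : Nat.card lineHom.range = 604800 := by
  rw [range_lineHom]
  have h := (chain_info _ chain_ok).2.1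
  rw [show nextGens [level0, level1, level2] = level0.gens from rfl] at h
  rw [h]
  decide +kernel

theorem center_eq : (Subgroup.center twoJ2 : Set twoJ2) = {1, negEl} := by
  ext g
  constructor
  · intro hg
    rw [SetLike.mem_coe, ← ker_lineHom, MonoidHom.mem_ker] at hg
    rcases eq_one_or_negEl (g := g) (fun i _ => by rw [hg, Equiv.Perm.one_apply]) with e | e <;>
      simp [e]
  · rintro (rfl | rfl)
    exacts [one_mem _, negEl_mem_center]

theorem natCard_center : Nat.card (Subgroup.center twoJ2) = 2 := by
  rw [← SetLike.coe_sort_coe, center_eq, Nat.card_coe_set_eq, Set.ncard_pair]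
  exact fun e => negPerm_ne_one (congrArg Subtype.val e.symm)

theorem natCard_twoJ2 : Nat.card twoJ2 = 1209600 := by
  rw [Subgroup.card_eq_card_quotient_mul_card_subgroup lineHom.ker,
    Nat.card_congr (QuotientGroup.quotientKerEquivRange lineHom).toEquiv, natCard_range,
    ker_lineHom, natCard_center]

/-- The Hall–Janko group is the group on the 315 lines. -/
noncomputable def j2Equiv : J2 ≃* lineHom.range :=
  (QuotientGroup.quotientMulEquivOfEq ker_lineHom.symm).trans
    (QuotientGroup.quotientKerEquivRange lineHom)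

theorem j2Equiv_mk (g : twoJ2) :
    (j2Equiv (QuotientGroup.mk g) : Equiv.Perm (Fin 315)) = lineHom g := rfl

theorem natCard_J2 : Nat.card J2 = 604800 := by
  rw [Nat.card_congr j2Equiv.toEquiv, natCard_range]

/-! ### the stabiliser of the line 304 -/

/-- A list of words reaching every line from a given one. -/
def wordsTo (letters : List ℕ) (a : ℕ) (ws : List (List ℕ)) : Bool :=
  (letters.all fun k => Nat.blt k 13) && (List.range 315).all fun y =>
    ((ws.getD y []).all fun k => letters.contains k) && ev 9 letterTab (ws.getD y []) a == y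

theorem wordsTo_spec {letters : List ℕ} {a : ℕ} (ha : a < 315) {ws : List (List ℕ)}
    (h : wordsTo letters a ws = true) (y : Fin 315) :
    ∃ g ∈ sub el letters, g (pt a) = y := by
  simp only [wordsTo, Bool.and_eq_true, List.all_eq_true, List.mem_range, Nat.blt_eq, beq_iff_eq,
    List.contains_iff_mem] at h
  obtain ⟨hl, he⟩ := h.2 y.val y.isLt
  refine ⟨wordEl el (ws.getD y.val []), wordEl_mem el hl, ?_⟩
  have h2 := (ev_spec tables_sound _ (fun k hk => h.1 k (hl k hk)) a ha).2
  rw [he, pt_val] at h2
  exact h2

set_option maxRecDepth 100000 in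
theorem prim0_ok : wordsTo [4, 5, 6, 7, 8] 304 primWords0 = true := by decide +kernel

instance : MulAction.IsPretransitive lineHom.range (Fin 315) :=
  MulAction.isPretransitive_iff_base (pt 304) |>.2 fun y => by
    obtain ⟨g, hg, e⟩ := wordsTo_spec (by norm_num) prim0_ok y
    exact ⟨⟨g, sub_le_range _ hg⟩, e⟩

theorem level1_fix : level1.gens.all (fun k => Nat.blt k 13 && look 9 (letterTab.getD k 0) 304 == 304) =
    true := by decide +kernel

theorem sub_level1_le :
    sub el level1.gens ≤ MulAction.stabilizer (Equiv.Perm (Fin 315)) (pt 304) := by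
  refine (Subgroup.closure_le _).2 ?_
  rintro _ ⟨k, hk, rfl⟩
  have h := List.all_eq_true.1 level1_fix k hk
  simp only [Bool.and_eq_true, Nat.blt_eq, beq_iff_eq] at h
  have := (tables_sound k h.1 304 (by norm_num)).2
  rwa [h.2] at this

theorem natCard_sub_level1 : Nat.card (sub el level1.gens) = 1920 := by
  have h := (chain_info _ chain_tail_ok).2.1
  rw [show nextGens [level1, level2] = level1.gens from rfl] at h
  rw [h]
  decide +kernel

theorem stab_line :
    MulAction.stabilizer lineHom.range (pt 304) = (sub el level1.gens).subgroupOf lineHom.range := by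
  symm
  refine Subgroup.eq_of_le_of_card_ge (fun x hx => sub_level1_le hx) ?_
  rw [Nat.card_congr (Subgroup.subgroupOfEquivOfLe (sub_le_range _)).toEquiv, natCard_sub_level1]
  have h := (MulAction.stabilizer lineHom.range (pt 304)).index_mul_card
  rw [MulAction.index_stabilizer_of_transitive, Nat.card_fin, natCard_range] at h
  omega

end Cfsg.Agent.Ico
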