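import Cfsg.Agent.Lib.Icosian.Fusion
import Cfsg.Agent.Lib.Icosian.AutData

/-!
# The outer automorphism group of the Hall-Janko group

* `tau_sound` : tables of the 315 reflections
* `exists_eq_tau` : automorphisms permute the reflections
* `quadEl`, `relations` : four reflections generating, with their relations
* `outerAut`, `natCard_out_range`, `natCard_out_J2`
-/

set_option autoImplicit false

namespace Cfsg.Agent.Ico

open Cfsg Cfsg.Spor Cfsg.Agent.StabCert MulAction

/-! ### tables of the reflections -/

/-- The parent check of one line. -/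
def tauOK (j : Fin 315) : Bool :=
  (List.range 315).all fun x =>
    if j.val = rootLine then
      Nat.blt (look 9 (tauTab.getD j.val 0) x) 315 &&
        look 9 (tauTab.getD j.val 0) x == ev 9 letterTab rootWord x
    else
      Nat.blt (look 9 (tauTab.getD j.val 0) x) 315 &&
        look 9 (tauTab.getD j.val 0) x == look 9 (letterTab.getD (treeGen j).val 0)
          (look 9 (tauTab.getD (treeParent j).val 0) (look 9 (letterTab.getD (treeGen j).val 0) x))

set_option maxRecDepth 100000 in
theorem tau_ok : (List.finRange 315).all tauOK = true := by decide +kernel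

theorem tau_table (j : Fin 315) {x : ℕ} (hx : x < 315) :
    look 9 (tauTab.getD j.val 0) x < 315 ∧
      (tau j : Equiv.Perm (Fin 315)) (pt x) = pt (look 9 (tauTab.getD j.val 0) x) := by
  induction h : treeDepth j using Nat.strong_induction_on generalizing j x with
  | _ d ih =>
    have hok := List.all_eq_true.1 tau_ok j (List.mem_finRange j)
    simp only [tauOK, List.all_eq_true, List.mem_range] at hok
    have hox := hok x hx
    rcases tree_check j with e | ⟨e, hlt⟩
    · simp only [e, if_true, Bool.and_eq_true, Nat.blt_eq, beq_iff_eq] at hox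
      rw [← e] at hox
      refine ⟨hox.1, ?_⟩
      rw [hox.2, eq_root e, coe_tau_root]
      exact (ev_spec tables_sound rootWord (by decide) x hx).2
    · by_cases hr : j.val = rootLine
      · simp only [hr, if_true, Bool.and_eq_true, Nat.blt_eq, beq_iff_eq] at hox
        rw [← hr] at hox
        refine ⟨hox.1, ?_⟩
        rw [hox.2, eq_root hr, coe_tau_root]
        exact (ev_spec tables_sound rootWord (by decide) x hx).2
      simp only [hr, if_false, Bool.and_eq_true, Nat.blt_eq, beq_iff_eq] at hox
      refine ⟨hox.1, ?_⟩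
      set k := treeGen j with hk
      have hk13 : k.val < 13 := lt_trans k.isLt (by norm_num)
      obtain ⟨a1, a2⟩ := tables_sound k.val hk13 x hx
      obtain ⟨b1, b2⟩ := ih _ (h ▸ hlt) (treeParent j) a1 rfl
      obtain ⟨-, c2⟩ := tables_sound k.val hk13 _ b1
      have ej : tau j = tau (gen k) * tau (treeParent j) * tau (gen k) := by
        have e' : (tau (gen k) : lineHom.range) • treeParent j = j :=
          (lineHom_genEl k _).trans e
        conv_lhs => rw [← e']
        rw [tau_smul, inv_eq_of_mul_eq_one_right (tau_mul_self _)]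
      simp only [MonoidHom.id_apply] at a2 c2
      rw [ej, Subgroup.coe_mul, Subgroup.coe_mul, coe_tau_gen, Equiv.Perm.mul_apply,
        Equiv.Perm.mul_apply, a2, b2, c2, hox.2]

/-- The reflections as letters. -/
noncomputable def tauEl (i : ℕ) : Equiv.Perm (Fin 315) := tau (pt i)

theorem tau_sound : TablesSound (MonoidHom.id (Equiv.Perm (Fin 315))) tauEl pt 9 315 315 tauTab := by
  intro i hi x hx
  have h := tau_table (pt i) hx
  rw [show (pt i).val = i from Nat.mod_eq_of_lt hi] at h
  exact h

/-- A word in the reflections. -/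
noncomputable def tauW (l : List ℕ) : lineHom.range := (l.map fun i => tau (pt i)).prod

theorem coe_tauW : ∀ l : List ℕ, (tauW l : Equiv.Perm (Fin 315)) = wordEl tauEl l
  | [] => rfl
  | i :: l => by
    have e : tauW (i :: l) = tau (pt i) * tauW l := by simp [tauW]
    rw [e, Subgroup.coe_mul, coe_tauW l]
    simp [wordEl, tauEl]

/-- A word fixes the deciding points. -/
def fixW (l : List ℕ) : Bool := detPts.all fun β => ev 9 tauTab l β == β

theorem tauW_eq_one {l : List ℕ} (hl : ∀ i ∈ l, i < 315) (h : fixW l = true) : tauW l = 1 := by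
  refine Subtype.ext (det_range (tauW l).2 fun β hβ => ?_)
  have e := (ev_spec tau_sound l hl β (detPts_lt β hβ)).2
  simp only [fixW, List.all_eq_true, beq_iff_eq] at h
  rw [h β hβ] at e
  rw [coe_tauW]
  exact e

theorem fixW_of_eq_one {l : List ℕ} (hl : ∀ i ∈ l, i < 315) (h : tauW l = 1) : fixW l = true := by
  simp only [fixW, List.all_eq_true, beq_iff_eq]
  intro β hβ
  obtain ⟨e1, e2⟩ := ev_spec tau_sound l hl β (detPts_lt β hβ)
  rw [← coe_tauW, h] at e2
  exact (pt_injOn (detPts_lt β hβ) e1 e2).symm

/-! ### automorphisms permute the reflections -/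

/-- The involutions of the core. -/
def coreInv : List (Fin 32) := [1, 20, 14, 13, 3, 28, 23, 16, 2, 25, 6]

theorem coreInv_ok : ((List.finRange 32).all fun i =>
    i == 0 || coreInv.contains i || !sameW (cw i ++ cw i) []) = true := by decide +kernel

theorem conj_cases : ((coreSteps.take 9).all fun p => p.2.1 != 0) = true ∧
    (coreInv.all fun i => i == 6 || i == 1 || (coreSteps.take 9).any fun p => p.1 == i) = true := by
  decide +kernel

theorem coreInv_conj {i : Fin 32} (hi : i ∈ coreInv) :
    ∃ g : lineHom.range, stabIncl (coreEl i) = g * tau root * g⁻¹ := by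
  have hall : ∀ (l : List (Fin 32 × ℕ × Fin 32 × Fin 32)) (known : List (Fin 32)),
      (∀ i ∈ known, ∃ g : lineHom.range, stabIncl (coreEl i) = g * tau root * g⁻¹) →
      stepsOK l known = true → ∀ p ∈ l.take 9, ((l.take 9).all fun p => p.2.1 != 0) = true →
      ∃ g : lineHom.range, stabIncl (coreEl p.1) = g * tau root * g⁻¹ := by
    suffices hgen : ∀ n (l : List (Fin 32 × ℕ × Fin 32 × Fin 32)) (known : List (Fin 32)),
        (∀ i ∈ known, ∃ g : lineHom.range, stabIncl (coreEl i) = g * tau root * g⁻¹) →
        stepsOK l known = true → ∀ p ∈ l.take n, ((l.take n).all fun p => p.2.1 != 0) = true →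
        ∃ g : lineHom.range, stabIncl (coreEl p.1) = g * tau root * g⁻¹ from hgen 9
    intro n
    induction n with
    | zero => intro l known _ _ p hp; simp at hp
    | succ n ih =>
      intro l known hk hs p hp hne
      rcases l with _ | ⟨⟨c, k, a, b⟩, r⟩
      · simp at hp
      simp only [List.take_succ_cons, List.all_cons, Bool.and_eq_true, bne_iff_ne] at hne
      simp only [stepsOK, Bool.and_eq_true, List.contains_iff_mem, if_neg hne.1] at hs
      have hnew : ∃ g : lineHom.range, stabIncl (coreEl c) = g * tau root * g⁻¹ := by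
        obtain ⟨g, hg⟩ := hk a hs.1.1
        have hl : ∀ x ∈ [k], x ∈ level1.gens := by simpa using hs.1.2.1
        refine ⟨stabIncl (stabEl [k] hl) * g, ?_⟩
        have e : stabIncl (stabEl [k] hl) * stabIncl (coreEl a) * (stabIncl (stabEl [k] hl))⁻¹ =
            stabIncl (coreEl c) := by
          rw [mul_inv_eq_iff_eq_mul]
          refine Subtype.ext ?_
          show wordEl el [k] * wordEl el (cw a) = wordEl el (cw c) * wordEl el [k]
          rw [← wordEl_append, ← wordEl_append]
          exact sameW_eq (fun x hx => (List.mem_append.1 hx).elim (letters_lt hl x)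
              (letters_lt (cw_letters a) x))
            (fun x hx => (List.mem_append.1 hx).elim (letters_lt (cw_letters c) x)
              (letters_lt hl x)) hs.1.2.2
        rw [← e, hg]
        group
      rw [List.take_succ_cons, List.mem_cons] at hp
      rcases hp with rfl | hp
      · exact hnew
      · exact ih r (c :: known) (fun i hi => by
          rcases List.mem_cons.1 hi with rfl | hi
          · exact hnew
          · exact hk i hi) hs.2 p hp hne.2
  have hsix : ∃ g : lineHom.range, stabIncl (coreEl 6) = g * tau root * g⁻¹ :=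
    ⟨1, by rw [stabIncl_coreEl_six]; group⟩
  have hone : ∃ g : lineHom.range, stabIncl (coreEl 1) = g * tau root * g⁻¹ := by
    obtain ⟨g, hg⟩ := exists_smul_eq lineHom.range root (pt 305)
    refine ⟨g, ?_⟩
    rw [← tau_smul, hg]
    refine Subtype.ext ?_
    rw [coe_stabIncl, coe_tau_second]
    exact sameW_eq (letters_lt (cw_letters 1)) (by decide) fuse_ok.2.2
  have hc := List.all_eq_true.1 conj_cases.2 i hi
  simp only [Bool.or_eq_true, beq_iff_eq, List.any_eq_true] at hc
  rcases hc with (rfl | rfl) | ⟨p, hp, rfl⟩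
  · exact hsix
  · exact hone
  · refine hall coreSteps [1, 6] (fun j hj => ?_) steps_ok p hp conj_cases.1
    simp only [List.mem_cons, List.not_mem_nil, or_false] at hj
    rcases hj with rfl | rfl
    exacts [hone, hsix]

theorem exists_eq_tau_sq {x : lineHom.range} (h1 : x * x ≠ 1) (h2 : x * x * (x * x) = 1) :
    ∃ i, x * x = tau i := by
  have : Fact (Nat.Prime 2) := ⟨Nat.prime_two⟩
  have hx : IsPGroup 2 (Subgroup.zpowers x) := by
    rintro ⟨_, j, rfl⟩
    refine ⟨2, Subtype.ext ?_⟩
    show (x ^ j) ^ (2 ^ 2) = 1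
    rw [← zpow_natCast, ← zpow_mul, mul_comm, zpow_mul, zpow_natCast,
      show x ^ (2 ^ 2) = x * x * (x * x) by simp [pow_succ, mul_assoc], h2, one_zpow]
  obtain ⟨S, hS⟩ := hx.exists_le_sylow
  obtain ⟨g, rfl⟩ := MulAction.exists_smul_eq lineHom.range sylowTwo S
  obtain ⟨y, hy, rfl⟩ := hS (Subgroup.mem_zpowers x)
  obtain ⟨c, hc, rfl⟩ := hy
  have hsq : c * c ∈ pairHom.ker := by
    rw [MonoidHom.mem_ker, map_mul]
    rcases hc with h | h | h | h <;> rw [h] <;> decide
  obtain ⟨i, hi⟩ := exists_coreEl hsq
  have hconj : ∀ a b : lineHom.range, g * a * g⁻¹ * (g * b * g⁻¹) = g * (a * b) * g⁻¹ :=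
    fun a b => by group
  change g * stabIncl c * g⁻¹ * (g * stabIncl c * g⁻¹) * (g * stabIncl c * g⁻¹ * (g * stabIncl c * g⁻¹)) = 1 at h2
  change g * stabIncl c * g⁻¹ * (g * stabIncl c * g⁻¹) ≠ 1 at h1
  show ∃ j, g * stabIncl c * g⁻¹ * (g * stabIncl c * g⁻¹) = tau j
  rw [hconj, ← map_mul, ← hi] at h1
  rw [hconj, ← map_mul, ← hi, hconj] at h2
  rw [hconj, ← map_mul, ← hi]
  have hi0 : i ∈ coreInv := by
    have h := List.all_eq_true.1 coreInv_ok i (List.mem_finRange i)
    simp only [Bool.or_eq_true, beq_iff_eq, List.contains_iff_mem, Bool.not_eq_true'] at h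
    rcases h with (rfl | h) | h
    · exact absurd (by rw [stabIncl_coreEl_zero]; group) h1
    · exact h
    · exfalso
      simp only [sameW, List.all_eq_false, beq_iff_eq] at h
      obtain ⟨β, hβ, hne⟩ := h
      refine word_ne (fun k hk => ?_) (by simp) (detPts_lt β hβ) hne ?_
      · rcases List.mem_append.1 hk with h | h <;> exact letters_lt (cw_letters i) k h
      · have e : stabIncl (coreEl i) * stabIncl (coreEl i) = 1 := by
          calc stabIncl (coreEl i) * stabIncl (coreEl i) =
                g⁻¹ * (g * (stabIncl (coreEl i) * stabIncl (coreEl i)) * g⁻¹) * g := by group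
            _ = 1 := by rw [h2]; group
        rw [wordEl_append]
        exact congrArg Subtype.val e
  obtain ⟨u, hu⟩ := coreInv_conj hi0
  refine ⟨(g * u) • root, ?_⟩
  rw [tau_smul, hu]
  group

theorem exists_sq_root : ∃ x : lineHom.range, x * x = tau root := by
  obtain ⟨i, hi⟩ : ∃ i, sameW (cw i ++ cw i) (cw 6) = true := by decide +kernel
  refine ⟨stabIncl (coreEl i), ?_⟩
  rw [← stabIncl_coreEl_six, ← map_mul]
  refine congrArg stabIncl (Subtype.ext ?_)
  show wordEl el (cw i) * wordEl el (cw i) = wordEl el (cw 6)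
  rw [← wordEl_append]
  exact sameW_eq (fun k hk => (List.mem_append.1 hk).elim (letters_lt (cw_letters i) k)
    (letters_lt (cw_letters i) k)) (letters_lt (cw_letters 6)) hi

theorem exists_eq_tau (α : MulAut lineHom.range) (i : Fin 315) : ∃ j, α (tau i) = tau j := by
  obtain ⟨g, rfl⟩ := exists_smul_eq lineHom.range root i
  obtain ⟨x, hx⟩ := exists_sq_root
  obtain ⟨j, hj⟩ := exists_eq_tau_sq (x := α x)
    (by rw [← map_mul, hx]; exact fun e => tau_root_ne_one (α.injective (e.trans (map_one α).symm)))
    (by rw [← map_mul, hx, ← map_mul, tau_mul_self, map_one])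
  rw [← map_mul, hx] at hj
  exact ⟨α g • j, by rw [tau_smul, map_mul, map_mul, map_inv, hj, tau_smul]⟩

/-! ### four generating reflections -/

/-- The four lines. -/
def quad : ℕ × ℕ × ℕ × ℕ := (304, 167, 150, 0)

/-- The other standard quadruple. -/
def quad' : ℕ × ℕ × ℕ × ℕ := (304, 272, 38, 1)

/-- The lines as a list. -/
def qList (q : ℕ × ℕ × ℕ × ℕ) : List ℕ := [q.1, q.2.1, q.2.2.1, q.2.2.2]

/-- A power of a word. -/
def rep (n : ℕ) (l : List ℕ) : List ℕ := (List.replicate n l).flatten

/-- Relation among the first two. -/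
def relB (a b : ℕ) : Bool := fixW (rep 5 [a, b])

/-- Relations adding the third. -/
def relC (a b c : ℕ) : Bool := fixW (rep 3 [a, c]) && fixW (rep 5 [b, c])

/-- Relations adding the fourth to the first two. -/
def relE (a b e : ℕ) : Bool :=
  fixW (rep 3 [a, e]) && fixW (rep 5 [b, e]) && fixW (rep 2 [e, a, e, b])

/-- Relations of the last two. -/
def relCE (a c e : ℕ) : Bool := fixW (rep 3 [c, e]) && fixW (rep 5 [e, a, e, c])

theorem quad_rel : relB 304 167 = true ∧ relC 304 167 150 = true ∧ relE 304 167 0 = true ∧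
    relCE 304 150 0 = true := by decide +kernel

/-- The candidates are in the certificate. -/
def searchOK : Bool :=
  [160, 272].all fun b => (List.range 315).all fun c =>
    c == 304 || c == b || !relC 304 b c || (List.range 315).all fun e =>
      e == 304 || e == b || e == c || !(relE 304 b e && relCE 304 c e) ||
        quadCert.any fun p => p.1 == (b, c, e)

set_option maxRecDepth 100000 in
theorem search_ok : searchOK = true := by decide +kernel

/-- The certificate words carry a standard quadruple. -/
def certOK : Bool :=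
  quadCert.all fun p => (p.2.2.all fun k => level1.gens.contains k) &&
    (qList (if p.2.1 then quad' else quad)).map (ev 9 letterTab p.2.2) ==
      [304, p.1.1, p.1.2.1, p.1.2.2]

theorem cert_ok : certOK = true := by decide +kernel

theorem second_ok : ((List.range 315).all fun b => b == 304 || !relB 304 b ||
    (subIndex.getD b 5 == 1 || subIndex.getD b 5 == 3)) = true ∧
    subReps.getD 1 0 = 160 ∧ subReps.getD 3 0 = 272 := by decide +kernel

theorem quad_lines : wordEl el [3, 1, 2, 1, 3] (gen 0) = pt 304 ∧
    ((List.finRange 4).all fun k =>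
      (qList quad).contains (ev 9 letterTab [3, 1, 2, 1, 3] (gen k).val)) = true := by
  refine ⟨?_, by decide +kernel⟩
  rw [← pt_val (gen 0)]
  have h := (ev_spec tables_sound [3, 1, 2, 1, 3] (by decide) (gen 0).val (Fin.isLt _)).2
  rw [show ev 9 letterTab [3, 1, 2, 1, 3] (gen 0).val = 304 from by decide +kernel] at h
  exact h

theorem quad_generates :
    Subgroup.closure {x | ∃ a ∈ qList quad, tau (pt a) = x} = ⊤ := by
  set R := Subgroup.closure {x | ∃ a ∈ qList quad, tau (pt a) = x}
  set g : lineHom.range := ⟨wordEl el [3, 1, 2, 1, 3],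
    sub_le_range (List.range 13) (wordEl_mem el (by decide))⟩
  have hle : ⨆ i, Subgroup.zpowers (tau i) ≤ R.comap (MulAut.conj g).toMonoidHom := by
    rw [iSup_zpowers_tau]
    intro x _
    obtain ⟨_, ⟨y, hy⟩, rfl⟩ := x
    refine twoJ2_induction (P := fun y => ∀ h : y ∈ twoJ2,
      lineHom.rangeRestrict ⟨y, h⟩ ∈ R.comap (MulAut.conj g).toMonoidHom) (fun h => ?_)
      (fun k f hf h => ?_) hy hy
    · rw [show (⟨1, h⟩ : twoJ2) = 1 from rfl, map_one]
      exact one_mem _
    · have hfm : f ∈ twoJ2 := by simpa using mul_mem (inv_mem (reflPerm_mem (gen k))) h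
      rw [show (⟨_, h⟩ : twoJ2) = genEl k * ⟨f, hfm⟩ from rfl, map_mul]
      refine mul_mem ?_ (hf hfm)
      rw [Subgroup.mem_comap, MulEquiv.coe_toMonoidHom, MulAut.conj_apply]
      show g * tau (gen k) * g⁻¹ ∈ R
      rw [← tau_smul]
      refine Subgroup.subset_closure ⟨ev 9 letterTab [3, 1, 2, 1, 3] (gen k).val, ?_, ?_⟩
      · have h := List.all_eq_true.1 quad_lines.2 k (List.mem_finRange k)
        simpa using h
      · congr 1
        have h := (ev_spec tables_sound [3, 1, 2, 1, 3] (by decide) (gen k).val (Fin.isLt _)).2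
        rw [pt_val] at h
        exact h.symm
  refine eq_top_iff.2 fun x _ => ?_
  have := hle (iSup_zpowers_tau ▸ Subgroup.mem_top (g⁻¹ * x * g))
  rw [Subgroup.mem_comap, MulEquiv.coe_toMonoidHom, MulAut.conj_apply] at this
  rwa [show g * (g⁻¹ * x * g) * g⁻¹ = x by group] at this

theorem aut_ext_quad {α β : MulAut lineHom.range}
    (h : ∀ a ∈ qList quad, α (tau (pt a)) = β (tau (pt a))) : α = β := by
  have : α.toMonoidHom = β.toMonoidHom := by
    refine MonoidHom.eq_of_eqOn_dense quad_generates ?_
    rintro _ ⟨a, ha, rfl⟩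
    exact h a ha
  exact MulEquiv.ext fun x => DFunLike.congr_fun this x

/-! ### the outer automorphism -/

/-- The checks of the outer permutation. -/
def outOK : Bool :=
  (List.range 315).all fun x => Nat.blt (look 9 outTab x) 315 &&
    look 9 outTabInv (look 9 outTab x) == x &&
    ((List.zip (qList quad) (qList quad')).all fun p =>
      look 9 outTab (look 9 (tauTab.getD p.1 0) x) == look 9 (tauTab.getD p.2 0) (look 9 outTab x))

theorem out_ok : outOK = true := by decide +kernel

/-- The outer permutation as a function. -/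
def outFun (x : Fin 315) : Fin 315 := pt (look 9 outTab x.val)

theorem out_spec {x : ℕ} (hx : x < 315) : look 9 outTab x < 315 ∧
    look 9 outTabInv (look 9 outTab x) = x ∧ ∀ p ∈ List.zip (qList quad) (qList quad'),
      look 9 outTab (look 9 (tauTab.getD p.1 0) x) = look 9 (tauTab.getD p.2 0) (look 9 outTab x) := by
  have h := List.all_eq_true.1 out_ok x (List.mem_range.2 hx)
  simp only [Bool.and_eq_true, Nat.blt_eq, beq_iff_eq, List.all_eq_true] at h
  exact ⟨h.1.1, h.1.2, h.2⟩

theorem outFun_injective : Function.Injective outFun := fun x y h => by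
  obtain ⟨hx, hx', -⟩ := out_spec x.isLt
  obtain ⟨hy, hy', -⟩ := out_spec y.isLt
  have e := congrArg Fin.val h
  simp only [outFun, pt, Fin.val_ofNat, Nat.mod_eq_of_lt hx, Nat.mod_eq_of_lt hy] at e
  exact Fin.ext (by rw [← hx', e, hy'])

/-- The outer permutation. -/
noncomputable def outPerm : Equiv.Perm (Fin 315) :=
  Equiv.ofBijective outFun ⟨outFun_injective, Finite.surjective_of_injective outFun_injective⟩

theorem outPerm_conj_quad {p : ℕ × ℕ} (hp : p ∈ List.zip (qList quad) (qList quad')) :
    outPerm * (tau (pt p.1) : Equiv.Perm (Fin 315)) * outPerm⁻¹ = tau (pt p.2) := by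
  have hlt : p.1 < 315 ∧ p.2 < 315 := by revert hp; revert p; decide +kernel
  rw [mul_inv_eq_iff_eq_mul]
  refine Equiv.ext fun x => ?_
  rw [← pt_val x, Equiv.Perm.mul_apply, Equiv.Perm.mul_apply]
  obtain ⟨hy, -, he⟩ := out_spec x.isLt
  obtain ⟨e1, e1'⟩ := tau_table (pt p.1) x.isLt
  rw [show (pt p.1).val = p.1 from Nat.mod_eq_of_lt hlt.1] at e1 e1'
  obtain ⟨e2, e2'⟩ := tau_table (pt p.2) hy
  rw [show (pt p.2).val = p.2 from Nat.mod_eq_of_lt hlt.2] at e2 e2'
  have hv : ∀ y < 315, outPerm (pt y) = pt (look 9 outTab y) := fun y hy' => by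
    show outFun (pt y) = _
    rw [outFun, show (pt y).val = y from Nat.mod_eq_of_lt hy']
  rw [e1', hv _ e1, hv _ x.isLt, e2', he p hp]

theorem outPerm_normalizes :
    lineHom.range.map (MulAut.conj outPerm).toMonoidHom = lineHom.range := by
  refine Subgroup.eq_of_le_of_card_ge ?_ (by
    rw [Subgroup.card_map_of_injective (MulAut.conj outPerm).injective])
  rintro _ ⟨x, hx, rfl⟩
  suffices h : (⊤ : Subgroup lineHom.range) ≤
      (lineHom.range.comap (MulAut.conj outPerm).toMonoidHom).subgroupOf lineHom.range by
    exact h (Subgroup.mem_top ⟨x, hx⟩)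
  rw [← quad_generates, Subgroup.closure_le]
  rintro _ ⟨a, ha, rfl⟩
  obtain ⟨b, hb⟩ : ∃ b, (a, b) ∈ List.zip (qList quad) (qList quad') := by
    simp only [qList, quad, List.mem_cons, List.not_mem_nil, or_false] at ha
    rcases ha with rfl | rfl | rfl | rfl
    exacts [⟨304, by decide⟩, ⟨272, by decide⟩, ⟨38, by decide⟩, ⟨1, by decide⟩]
  show outPerm * (tau (pt a) : Equiv.Perm (Fin 315)) * outPerm⁻¹ ∈ lineHom.range
  rw [outPerm_conj_quad hb]
  exact (tau (pt b)).2

/-- The outer automorphism. -/
noncomputable def outerAut : MulAut lineHom.range :=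
  ((MulAut.conj outPerm).subgroupMap lineHom.range).trans (MulEquiv.subgroupCongr outPerm_normalizes)

theorem outerAut_quad {p : ℕ × ℕ} (hp : p ∈ List.zip (qList quad) (qList quad')) :
    outerAut (tau (pt p.1)) = tau (pt p.2) := Subtype.ext (outPerm_conj_quad hp)

/-! ### the classification -/

theorem suborbit_inv_ok : (level1.gens.all fun k => (List.range 315).all fun y =>
    subIndex.getD (look 9 (letterTab.getD k 0) y) 5 == subIndex.getD y 5) = true := by decide +kernel

theorem subIndex_stab {g : Equiv.Perm (Fin 315)} (hg : g ∈ lineStab) (y : Fin 315) :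
    subIndex.getD (g y).val 5 = subIndex.getD y.val 5 := by
  rw [lineStab, sub, ← Subgroup.mem_toSubmonoid, Subgroup.closure_toSubmonoid_of_finite] at hg
  induction hg using Submonoid.closure_induction generalizing y with
  | mem x hx =>
    obtain ⟨k, hk, rfl⟩ := hx
    have h1 := List.all_eq_true.1 level1_fix k hk
    simp only [Bool.and_eq_true, Nat.blt_eq] at h1
    obtain ⟨e1, e2⟩ := tables_sound k h1.1 y.val y.isLt
    rw [MonoidHom.id_apply, pt_val] at e2
    rw [e2, show (pt (look 9 (letterTab.getD k 0) y.val)).val = _ from Nat.mod_eq_of_lt e1]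
    have h := List.all_eq_true.1 suborbit_inv_ok k hk
    simp only [List.all_eq_true, List.mem_range, beq_iff_eq] at h
    exact h y.val y.isLt
  | one => rfl
  | mul a b _ _ ha hb => rw [Equiv.Perm.mul_apply, ha, hb]

theorem outerAut_not_inner : outerAut ∉ Cfsg.Inn lineHom.range := by
  rintro ⟨g, hg⟩
  have key : ∀ p ∈ List.zip (qList quad) (qList quad'), g • pt p.1 = pt p.2 := fun p hp =>
    tau_injective (by
      rw [tau_smul]
      exact (DFunLike.congr_fun hg (tau (pt p.1))).trans (outerAut_quad hp))
  have h0 := key (304, 304) (by decide)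
  have h1 := key (167, 272) (by decide)
  have hstab : g ∈ stabilizer lineHom.range (pt 304) := h0
  rw [stab_line] at hstab
  have := subIndex_stab hstab (pt 167)
  change subIndex.getD (g • pt 167).val 5 = _ at this
  rw [h1] at this
  exact absurd this (by decide +kernel)

theorem aut_cases (α : MulAut lineHom.range) :
    ∃ g, α = MulAut.conj g ∨ α = MulAut.conj g * outerAut := by
  choose p hp using exists_eq_tau α
  have hpinj : Function.Injective p := fun a b h =>
    tau_injective (α.injective (by rw [hp, hp, h]))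
  -- move the first line back to the root, the second to a representative
  obtain ⟨g₁, hg₁⟩ := exists_smul_eq lineHom.range (p (pt 304)) (pt 304)
  have himg : ∀ (g : lineHom.range) (l : List ℕ), (∀ i ∈ l, i < 315) → fixW l = true →
      fixW (l.map fun i => (g • p (pt i)).val) = true := by
    intro g l hl hfix
    refine fixW_of_eq_one (fun i hi => ?_) ?_
    · obtain ⟨a, -, rfl⟩ := List.mem_map.1 hi
      exact Fin.isLt _
    have e : ∀ l : List ℕ, tauW (l.map fun i => (g • p (pt i)).val) = g * α (tauW l) * g⁻¹ := by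
      intro l
      induction l with
      | nil => simp [tauW]
      | cons a l ih =>
        have e1 : tauW (a :: l) = tau (pt a) * tauW l := by simp [tauW]
        have e2 : tauW ((a :: l).map fun i => (g • p (pt i)).val) =
            tau (g • p (pt a)) * tauW (l.map fun i => (g • p (pt i)).val) := by
          simp [tauW, pt_val]
        rw [e2, ih, e1, map_mul, tau_smul, ← hp]
        group
    rw [e, tauW_eq_one hl hfix, map_one, mul_one, mul_inv_cancel]
  obtain ⟨q0, q1, q2, q3⟩ := quad_rel
  set b := (g₁ • p (pt 167)).val with hb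
  have hb304 : b ≠ 304 := fun e => absurd (hpinj (smul_left_cancel g₁ (Fin.ext
    (show (g₁ • p (pt 167)).val = (g₁ • p (pt 304)).val by rw [← hb, e, hg₁]; rfl)))) (by decide)
  have hB : relB 304 b = true := by
    have := himg g₁ (rep 5 [304, 167]) (by decide) q0
    have h304 : (g₁ • p (pt 304)).val = 304 := by rw [hg₁]; rfl
    simp only [rep, List.replicate_succ, List.replicate_zero, List.flatten_cons, List.flatten_nil, List.map_append, List.map_cons, List.map_nil, List.cons_append, List.nil_append, h304, ← hb] at this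
    simpa only [relB, rep, List.replicate_succ, List.replicate_zero, List.flatten_cons, List.flatten_nil, List.map_append, List.map_cons, List.map_nil, List.cons_append, List.nil_append] using this
  have hsub := List.all_eq_true.1 second_ok.1 b (List.mem_range.2 (Fin.isLt _))
  simp only [Bool.or_eq_true, beq_iff_eq, Bool.not_eq_true', hB, Bool.true_eq_false, or_false] at hsub
  replace hsub := hsub.resolve_left hb304
  have hs := List.all_eq_true.1 sub_ok b (List.mem_range.2 (Fin.isLt _))
  simp only [Bool.or_eq_true, beq_iff_eq, Bool.and_eq_true, Nat.blt_eq, List.all_eq_true,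
    List.contains_iff_mem] at hs
  obtain ⟨⟨-, hw⟩, he⟩ := hs.resolve_left hb304
  set r := subReps.getD (subIndex.getD b 5) 0 with hr
  have hr2 : r = 160 ∨ r = 272 := by
    rcases hsub with e | e <;> rw [hr, e]
    exacts [Or.inl second_ok.2.1, Or.inr second_ok.2.2]
  set h : lineHom.range := stabIncl (stabEl _ hw)
  have hroot : h • pt 304 = pt 304 := sub_level1_le (wordEl_mem el hw)
  have hhr : h • pt r = g₁ • p (pt 167) := by
    have e := (ev_spec tables_sound _ (letters_lt hw) r (by rcases hr2 with e | e <;> omega)).2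
    rw [he, hb, pt_val] at e
    exact e
  set g₂ := h⁻¹ * g₁ with hg₂
  have i0 : g₂ • p (pt 304) = pt 304 := by rw [hg₂, mul_smul, hg₁, inv_smul_eq_iff, hroot]
  have i1 : g₂ • p (pt 167) = pt r := by rw [hg₂, mul_smul, inv_smul_eq_iff, hhr]
  set c := (g₂ • p (pt 150)).val with hc
  set e := (g₂ • p (pt 0)).val with he'
  have hval : ∀ i, i < 315 → (pt i).val = i := fun i hi => Nat.mod_eq_of_lt hi
  have hr315 : r < 315 := by rcases hr2 with e | e <;> omega
  have v0 : (g₂ • p (pt 304)).val = 304 := by rw [i0]; rfl
  have v1 : (g₂ • p (pt 167)).val = r := by rw [i1, hval r hr315]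
  have hC : relC 304 r c = true := by
    simp only [relC, Bool.and_eq_true] at q1 ⊢
    have a := himg g₂ (rep 3 [304, 150]) (by decide) q1.1
    have a' := himg g₂ (rep 5 [167, 150]) (by decide) q1.2
    simp only [rep, List.replicate_succ, List.replicate_zero, List.flatten_cons, List.flatten_nil, List.map_append, List.map_cons, List.map_nil, List.cons_append, List.nil_append, v0, v1, ← hc] at a a' ⊢
    exact ⟨a, a'⟩
  have hE : relE 304 r e = true ∧ relCE 304 c e = true := by
    simp only [relE, relCE, Bool.and_eq_true] at q2 q3 ⊢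
    have a := himg g₂ (rep 3 [304, 0]) (by decide) q2.1.1
    have a' := himg g₂ (rep 5 [167, 0]) (by decide) q2.1.2
    have a'' := himg g₂ (rep 2 [0, 304, 0, 167]) (by decide) q2.2
    have b' := himg g₂ (rep 3 [150, 0]) (by decide) q3.1
    have b'' := himg g₂ (rep 5 [0, 304, 0, 150]) (by decide) q3.2
    simp only [rep, List.replicate_succ, List.replicate_zero, List.flatten_cons, List.flatten_nil, List.map_append, List.map_cons, List.map_nil, List.cons_append, List.nil_append, v0, v1, ← hc, ← he'] at a a' a'' b' b'' ⊢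
    exact ⟨⟨⟨a, a'⟩, a''⟩, b', b''⟩
  have hne : ∀ i j, i < 315 → j < 315 → i ≠ j → (g₂ • p (pt i)).val ≠ (g₂ • p (pt j)).val :=
    fun i j hi hj hij h' => hij (by
      have := congrArg Fin.val (hpinj (smul_left_cancel g₂ (Fin.ext h')))
      rwa [hval i hi, hval j hj] at this)
  have hcert : ∃ x ∈ quadCert, x.1 = (r, c, e) := by
    have hok := search_ok
    simp only [searchOK, List.all_eq_true, List.mem_range, Bool.or_eq_true, beq_iff_eq,
      Bool.not_eq_true', List.any_eq_true] at hok
    have h1 := hok r (by rcases hr2 with e | e <;> simp [e]) c (Fin.isLt _)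
    have n1 := hne 150 304 (by norm_num) (by norm_num) (by norm_num)
    have n2 := hne 150 167 (by norm_num) (by norm_num) (by norm_num)
    rw [i0, ← hc, hval 304 (by norm_num)] at n1
    rw [i1, ← hc, hval r hr315] at n2
    rw [hC] at h1
    simp only [n1, n2, Bool.true_eq_false, false_or] at h1
    have h2 := h1 e (Fin.isLt _)
    have n3 := hne 0 304 (by norm_num) (by norm_num) (by norm_num)
    have n4 := hne 0 167 (by norm_num) (by norm_num) (by norm_num)
    have n5 := hne 0 150 (by norm_num) (by norm_num) (by norm_num)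
    rw [i0, ← he', hval 304 (by norm_num)] at n3
    rw [i1, ← he', hval r hr315] at n4
    rw [← hc, ← he'] at n5
    rw [hE.1, hE.2] at h2
    simpa [n3, n4, n5] using h2
  obtain ⟨⟨x, f, w⟩, hx, hxe⟩ := hcert
  simp only at hxe
  subst hxe
  have hok := List.all_eq_true.1 cert_ok _ hx
  simp only [Bool.and_eq_true, List.all_eq_true, List.contains_iff_mem, beq_iff_eq] at hok
  obtain ⟨hwl, hmap⟩ := hok
  set k : lineHom.range := stabIncl (stabEl w hwl) with hk
  -- the images of the four lines
  have himgq : ∀ a a' : ℕ, a < 315 → a' < 315 → ev 9 letterTab w a = a' → k • pt a = pt a' := by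
    intro a a' ha _ he
    have h := (ev_spec tables_sound w (letters_lt hwl) a ha).2
    rw [he] at h
    exact h
  have hfin : ∀ (q : ℕ × ℕ × ℕ × ℕ), (qList q).map (ev 9 letterTab w) = [304, r, c, e] →
      (∀ a ∈ qList q, a < 315) → ∀ pr ∈ List.zip (qList quad) (qList q),
      α (tau (pt pr.1)) = MulAut.conj (g₂⁻¹ * k) (tau (pt pr.2)) := by
    intro q hq hlt pr hpr
    simp only [qList, List.map_cons, List.map_nil, List.cons.injEq, and_true] at hq
    obtain ⟨m0, m1, m2, m3⟩ := hq
    rw [MulAut.conj_apply, ← tau_smul, hp]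
    congr 1
    rw [mul_smul, eq_inv_smul_iff]
    simp only [qList, List.zip_cons_cons, List.zip_nil_left, List.mem_cons, List.not_mem_nil,
      or_false, quad] at hpr
    rcases hpr with rfl | rfl | rfl | rfl
    · rw [i0, himgq _ 304 (hlt _ (by simp [qList])) (by norm_num) m0]
    · rw [i1, himgq _ r (hlt _ (by simp [qList])) hr315 m1]
    · rw [himgq _ c (hlt _ (by simp [qList])) (Fin.isLt _) m2, hc, pt_val]
    · rw [himgq _ e (hlt _ (by simp [qList])) (Fin.isLt _) m3, he', pt_val]
  refine ⟨g₂⁻¹ * k, ?_⟩
  cases f with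
  | false =>
    left
    refine aut_ext_quad fun a ha => ?_
    exact hfin quad (by simpa using hmap) (by decide) (a, a) (by
      simp only [qList, quad, List.mem_cons, List.not_mem_nil, or_false] at ha
      rcases ha with rfl | rfl | rfl | rfl <;> decide)
  | true =>
    right
    refine aut_ext_quad fun a ha => ?_
    obtain ⟨b, hb⟩ : ∃ b, (a, b) ∈ List.zip (qList quad) (qList quad') := by
      simp only [qList, quad, List.mem_cons, List.not_mem_nil, or_false] at ha
      rcases ha with rfl | rfl | rfl | rfl
      exacts [⟨304, by decide⟩, ⟨272, by decide⟩, ⟨38, by decide⟩, ⟨1, by decide⟩]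
    rw [MulAut.mul_apply, outerAut_quad hb]
    exact hfin quad' (by simpa using hmap) (by decide) (a, b) hb

theorem natCard_out_range : Nat.card (Cfsg.Out lineHom.range) = 2 := by
  rw [← Subgroup.index_eq_card, Subgroup.index_eq_two_iff]
  refine ⟨outerAut, fun α => ?_⟩
  by_cases hα : α ∈ Cfsg.Inn lineHom.range
  · exact Or.inr ⟨hα, fun h => outerAut_not_inner ((Subgroup.mul_mem_cancel_left _ hα).1 h)⟩
  · refine Or.inl ⟨?_, hα⟩
    obtain ⟨g, e | e⟩ := aut_cases (α * outerAut)
    · exact ⟨g, e.symm⟩
    · exact absurd ⟨g, (mul_right_cancel e).symm⟩ hα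

theorem natCard_out_J2 : Nat.card (Cfsg.Out J2) = 2 := by
  have hmap : (Cfsg.Inn J2).map (MulAut.congr j2Equiv).toMonoidHom = Cfsg.Inn lineHom.range := by
    ext φ
    constructor
    · rintro ⟨_, ⟨g, rfl⟩, rfl⟩
      exact ⟨j2Equiv g, by ext t; simp [MulAut.congr]⟩
    · rintro ⟨t, rfl⟩
      exact ⟨_, ⟨j2Equiv.symm t, rfl⟩, by ext u; simp [MulAut.congr]⟩
  rw [← natCard_out_range]
  exact Nat.card_congr
    (QuotientGroup.congr (Cfsg.Inn J2) (Cfsg.Inn lineHom.range) (MulAut.congr j2Equiv) hmap).toEquiv

end Cfsg.Agent.Ico
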