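import Cfsg.Prelude.Def_Spor_J2
import Mathlib

/-!
# Integer coordinates for quaternions over `½ ℤ[τ]`

`Q` has eight integer fields; `toH X` is the real quaternion with coefficients `(a + b τ)/2`.
* `toH_injective`; `toH_add`, `toH_sub`, `toH_neg`, `toH_conj`, `toH_mul2` (`toH (mul2 X Y) = 2 toH X * toH Y`)
* `InI`, `toH_mem_icosians`, `mem_icosians_iff` : the icosian ring in coordinates
-/

set_option autoImplicit false

namespace Cfsg.Agent.Ico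

open Cfsg.Spor Quaternion

/-- Coordinates `(a₀ + b₀τ, a₁ + b₁τ, a₂ + b₂τ, a₃ + b₃τ)` of twice a quaternion. -/
@[ext]
structure Q where
  a0 : ℤ
  b0 : ℤ
  a1 : ℤ
  b1 : ℤ
  a2 : ℤ
  b2 : ℤ
  a3 : ℤ
  b3 : ℤ
deriving DecidableEq

namespace Q

def zero : Q := ⟨0, 0, 0, 0, 0, 0, 0, 0⟩

def one : Q := ⟨2, 0, 0, 0, 0, 0, 0, 0⟩

def add (X Y : Q) : Q :=
  ⟨X.a0 + Y.a0, X.b0 + Y.b0, X.a1 + Y.a1, X.b1 + Y.b1, X.a2 + Y.a2, X.b2 + Y.b2, X.a3 + Y.a3, X.b3 + Y.b3⟩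

def sub (X Y : Q) : Q :=
  ⟨X.a0 - Y.a0, X.b0 - Y.b0, X.a1 - Y.a1, X.b1 - Y.b1, X.a2 - Y.a2, X.b2 - Y.b2, X.a3 - Y.a3, X.b3 - Y.b3⟩

def neg (X : Q) : Q := ⟨-X.a0, -X.b0, -X.a1, -X.b1, -X.a2, -X.b2, -X.a3, -X.b3⟩

def conj (X : Q) : Q := ⟨X.a0, X.b0, -X.a1, -X.b1, -X.a2, -X.b2, -X.a3, -X.b3⟩

def smul (k : ℤ) (X : Q) : Q :=
  ⟨k * X.a0, k * X.b0, k * X.a1, k * X.b1, k * X.a2, k * X.b2, k * X.a3, k * X.b3⟩

/-- Twice the product. -/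
def mul2 (X Y : Q) : Q where
  a0 := X.a0*Y.a0 + X.b0*Y.b0 - (X.a1*Y.a1 + X.b1*Y.b1) - (X.a2*Y.a2 + X.b2*Y.b2) - (X.a3*Y.a3 + X.b3*Y.b3)
  b0 := X.a0*Y.b0 + X.b0*(Y.a0 + Y.b0) - (X.a1*Y.b1 + X.b1*(Y.a1 + Y.b1)) -
    (X.a2*Y.b2 + X.b2*(Y.a2 + Y.b2)) - (X.a3*Y.b3 + X.b3*(Y.a3 + Y.b3))
  a1 := X.a0*Y.a1 + X.b0*Y.b1 + (X.a1*Y.a0 + X.b1*Y.b0) + (X.a2*Y.a3 + X.b2*Y.b3) - (X.a3*Y.a2 + X.b3*Y.b2)
  b1 := X.a0*Y.b1 + X.b0*(Y.a1 + Y.b1) + (X.a1*Y.b0 + X.b1*(Y.a0 + Y.b0)) +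
    (X.a2*Y.b3 + X.b2*(Y.a3 + Y.b3)) - (X.a3*Y.b2 + X.b3*(Y.a2 + Y.b2))
  a2 := X.a0*Y.a2 + X.b0*Y.b2 - (X.a1*Y.a3 + X.b1*Y.b3) + (X.a2*Y.a0 + X.b2*Y.b0) + (X.a3*Y.a1 + X.b3*Y.b1)
  b2 := X.a0*Y.b2 + X.b0*(Y.a2 + Y.b2) - (X.a1*Y.b3 + X.b1*(Y.a3 + Y.b3)) +
    (X.a2*Y.b0 + X.b2*(Y.a0 + Y.b0)) + (X.a3*Y.b1 + X.b3*(Y.a1 + Y.b1))
  a3 := X.a0*Y.a3 + X.b0*Y.b3 + (X.a1*Y.a2 + X.b1*Y.b2) - (X.a2*Y.a1 + X.b2*Y.b1) + (X.a3*Y.a0 + X.b3*Y.b0)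
  b3 := X.a0*Y.b3 + X.b0*(Y.a3 + Y.b3) + (X.a1*Y.b2 + X.b1*(Y.a2 + Y.b2)) -
    (X.a2*Y.b1 + X.b2*(Y.a1 + Y.b1)) + (X.a3*Y.b0 + X.b3*(Y.a0 + Y.b0))

/-- Divisibility of all coordinates. -/
def Dvd' (k : ℤ) (X : Q) : Prop :=
  X.a0 % k = 0 ∧ X.b0 % k = 0 ∧ X.a1 % k = 0 ∧ X.b1 % k = 0 ∧
  X.a2 % k = 0 ∧ X.b2 % k = 0 ∧ X.a3 % k = 0 ∧ X.b3 % k = 0

instance (k : ℤ) (X : Q) : Decidable (Dvd' k X) := by unfold Dvd'; infer_instance

def div (X : Q) (k : ℤ) : Q :=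
  ⟨X.a0 / k, X.b0 / k, X.a1 / k, X.b1 / k, X.a2 / k, X.b2 / k, X.a3 / k, X.b3 / k⟩

theorem smul_div {k : ℤ} {X : Q} (h : Dvd' k X) : smul k (div X k) = X := by
  obtain ⟨h0, h1, h2, h3, h4, h5, h6, h7⟩ := h
  ext <;> simp only [smul, div] <;>
    exact Int.mul_ediv_cancel' (Int.dvd_of_emod_eq_zero (by assumption))

/-- The squared norm times four, as `a + b τ`. -/
def nrm (X : Q) : ℤ × ℤ :=
  (X.a0*X.a0 + X.b0*X.b0 + (X.a1*X.a1 + X.b1*X.b1) + (X.a2*X.a2 + X.b2*X.b2) + (X.a3*X.a3 + X.b3*X.b3),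
   X.a0*X.b0 + X.b0*(X.a0 + X.b0) + (X.a1*X.b1 + X.b1*(X.a1 + X.b1)) +
    (X.a2*X.b2 + X.b2*(X.a2 + X.b2)) + (X.a3*X.b3 + X.b3*(X.a3 + X.b3)))

end Q

/-! ### the embedding -/

theorem tau_sq : tau * tau = tau + 1 := by
  have h : Real.sqrt 5 * Real.sqrt 5 = 5 := Real.mul_self_sqrt (by norm_num)
  unfold tau
  linear_combination h / 4

theorem tau_irrational : Irrational tau := by
  have h5 : Irrational (Real.sqrt 5) := by
    simpa using Nat.Prime.irrational_sqrt (p := 5) (by norm_num)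
  have : Irrational ((1 : ℕ) + Real.sqrt 5) := h5.natCast_add 1
  have h2 := this.div_natCast (m := 2) (by norm_num)
  simpa [tau] using h2

theorem int_add_tau_eq_zero {a b : ℤ} (h : (a : ℝ) + b * tau = 0) : a = 0 ∧ b = 0 := by
  by_cases hb : b = 0
  · subst hb; simpa using h
  · exfalso
    have hirr : Irrational ((a : ℝ) + b * tau) := (tau_irrational.intCast_mul hb).intCast_add a
    exact hirr ⟨0, by simp [h]⟩

theorem int_tau_inj {a b c d : ℤ} (h : ((a : ℝ) + b * tau) / 2 = ((c : ℝ) + d * tau) / 2) :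
    a = c ∧ b = d := by
  obtain ⟨h1, h2⟩ := int_add_tau_eq_zero (a := a - c) (b := b - d) (by push_cast; linarith)
  omega

/-- The quaternion with coordinates `X`. -/
noncomputable def toH (X : Q) : ℍ[ℝ] :=
  ⟨((X.a0 : ℝ) + X.b0 * tau) / 2, ((X.a1 : ℝ) + X.b1 * tau) / 2,
    ((X.a2 : ℝ) + X.b2 * tau) / 2, ((X.a3 : ℝ) + X.b3 * tau) / 2⟩

theorem toH_re (X : Q) : (toH X).re = ((X.a0 : ℝ) + X.b0 * tau) / 2 := rfl
theorem toH_imI (X : Q) : (toH X).imI = ((X.a1 : ℝ) + X.b1 * tau) / 2 := rfl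
theorem toH_imJ (X : Q) : (toH X).imJ = ((X.a2 : ℝ) + X.b2 * tau) / 2 := rfl
theorem toH_imK (X : Q) : (toH X).imK = ((X.a3 : ℝ) + X.b3 * tau) / 2 := rfl

theorem toH_injective : Function.Injective toH := by
  intro X Y h
  have h0 := congrArg QuaternionAlgebra.re h
  have h1 := congrArg QuaternionAlgebra.imI h
  have h2 := congrArg QuaternionAlgebra.imJ h
  have h3 := congrArg QuaternionAlgebra.imK h
  simp only [toH_re, toH_imI, toH_imJ, toH_imK] at h0 h1 h2 h3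
  ext
  exacts [(int_tau_inj h0).1, (int_tau_inj h0).2, (int_tau_inj h1).1, (int_tau_inj h1).2,
    (int_tau_inj h2).1, (int_tau_inj h2).2, (int_tau_inj h3).1, (int_tau_inj h3).2]

@[simp] theorem toH_zero : toH Q.zero = 0 := by
  ext <;> simp [toH_re, toH_imI, toH_imJ, toH_imK, Q.zero]

@[simp] theorem toH_one : toH Q.one = 1 := by
  ext <;> simp [toH_re, toH_imI, toH_imJ, toH_imK, Q.one]

theorem toH_add (X Y : Q) : toH (X.add Y) = toH X + toH Y := by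
  ext <;> simp [toH_re, toH_imI, toH_imJ, toH_imK, Q.add] <;> ring

theorem toH_sub (X Y : Q) : toH (X.sub Y) = toH X - toH Y := by
  ext <;> simp [toH_re, toH_imI, toH_imJ, toH_imK, Q.sub] <;> ring

theorem toH_neg (X : Q) : toH X.neg = -toH X := by
  ext <;> simp [toH_re, toH_imI, toH_imJ, toH_imK, Q.neg] <;> ring

theorem toH_conj (X : Q) : toH X.conj = star (toH X) := by
  ext <;> simp [toH_re, toH_imI, toH_imJ, toH_imK, Q.conj] <;> ring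

theorem toH_smul (k : ℤ) (X : Q) : toH (X.smul k) = (k : ℝ) • toH X := by
  ext <;> simp [toH_re, toH_imI, toH_imJ, toH_imK, Q.smul] <;> ring

theorem toH_mul2 (X Y : Q) : toH (X.mul2 Y) = (2 : ℝ) • (toH X * toH Y) := by
  have h := tau_sq
  ext <;> simp [toH_re, toH_imI, toH_imJ, toH_imK, Q.mul2]
  · linear_combination (-((X.b0 : ℝ) * Y.b0 - X.b1 * Y.b1 - X.b2 * Y.b2 - X.b3 * Y.b3) / 2) * h
  · linear_combination (-((X.b0 : ℝ) * Y.b1 + X.b1 * Y.b0 + X.b2 * Y.b3 - X.b3 * Y.b2) / 2) * h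
  · linear_combination (-((X.b0 : ℝ) * Y.b2 - X.b1 * Y.b3 + X.b2 * Y.b0 + X.b3 * Y.b1) / 2) * h
  · linear_combination (-((X.b0 : ℝ) * Y.b3 + X.b1 * Y.b2 - X.b2 * Y.b1 + X.b3 * Y.b0) / 2) * h

theorem toH_mul (X Y Z : Q) (h : X.mul2 Y = Z.smul 2) : toH X * toH Y = toH Z := by
  have e := congrArg toH h
  rw [toH_mul2, toH_smul, Int.cast_ofNat] at e
  exact smul_right_injective _ (two_ne_zero (α := ℝ)) e

theorem toH_nrm (X : Q) :
    toH X * star (toH X) = ((((X.nrm.1 : ℝ) + X.nrm.2 * tau) / 4 : ℝ) : ℍ[ℝ]) := by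
  have h := tau_sq
  ext <;> simp only [Quaternion.re_mul, Quaternion.imI_mul, Quaternion.imJ_mul, Quaternion.imK_mul,
    Quaternion.re_star, Quaternion.imI_star, Quaternion.imJ_star, Quaternion.imK_star,
    Quaternion.re_coe, Quaternion.imI_coe, Quaternion.imJ_coe, Quaternion.imK_coe,
    toH_re, toH_imI, toH_imJ, toH_imK, Q.nrm] <;> push_cast
  · linear_combination (((X.b0 : ℝ) * X.b0 + X.b1 * X.b1 + X.b2 * X.b2 + X.b3 * X.b3) / 4) * h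
  all_goals ring

/-! ### the icosian ring -/

/-- The parity conditions cutting out the icosians. -/
def InI (X : Q) : Prop :=
  (X.b1 + X.a2 + X.a3 + X.b3) % 2 = 0 ∧ (X.a1 + X.a2 + X.b2 + X.b3) % 2 = 0 ∧
  (X.b0 + X.a2 + X.b2 + X.a3) % 2 = 0 ∧ (X.a0 + X.b2 + X.a3 + X.b3) % 2 = 0

instance (X : Q) : Decidable (InI X) := by unfold InI; infer_instance

theorem InI.add {X Y : Q} (hX : InI X) (hY : InI Y) : InI (X.add Y) := by
  simp only [InI, Q.add] at *; omega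

theorem InI.neg {X : Q} (hX : InI X) : InI X.neg := by
  simp only [InI, Q.neg] at *; omega

/-- Lifts of the four generators of the code of `InI`, and twice the first four unit vectors. -/
def Qbasis : Fin 8 → Q :=
  ![⟨0, 1, 1, 1, 1, 0, 0, 0⟩, ⟨1, 1, 1, 0, 0, 1, 0, 0⟩, ⟨1, 1, 0, 1, 0, 0, 1, 0⟩,
    ⟨1, 0, 1, 1, 0, 0, 0, 1⟩, ⟨2, 0, 0, 0, 0, 0, 0, 0⟩, ⟨0, 2, 0, 0, 0, 0, 0, 0⟩,
    ⟨0, 0, 2, 0, 0, 0, 0, 0⟩, ⟨0, 0, 0, 2, 0, 0, 0, 0⟩]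

/-- The coefficients of `X` with respect to `Qbasis`. -/
def coeffs (X : Q) : Fin 8 → ℤ :=
  ![X.a2, X.b2, X.a3, X.b3, (X.a0 - X.b2 - X.a3 - X.b3) / 2, (X.b0 - X.a2 - X.b2 - X.a3) / 2,
    (X.a1 - X.a2 - X.b2 - X.b3) / 2, (X.b1 - X.a2 - X.a3 - X.b3) / 2]

theorem toH_eq_sum {X : Q} (h : InI X) : toH X = ∑ i, (coeffs X i : ℤ) • toH (Qbasis i) := by
  obtain ⟨h1, h2, h3, h4⟩ := h
  have e : ∀ {a : ℤ}, a % 2 = 0 → ((a / 2 : ℤ) : ℝ) = (a : ℝ) / 2 := fun {a} ha => by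
    rw [Int.cast_div (Int.dvd_of_emod_eq_zero ha) (by norm_num)]; norm_num
  ext <;> simp [Fin.sum_univ_eight, coeffs, Qbasis, toH_re, toH_imI, toH_imJ, toH_imK,
    e (a := X.a0 - X.b2 - X.a3 - X.b3) (by omega), e (a := X.b0 - X.a2 - X.b2 - X.a3) (by omega),
    e (a := X.a1 - X.a2 - X.b2 - X.b3) (by omega), e (a := X.b1 - X.a2 - X.a3 - X.b3) (by omega)] <;>
    ring

/-- `i`. -/
def QI : Q := ⟨0, 0, 2, 0, 0, 0, 0, 0⟩

/-- `½(1 + σ i + τ k)`. -/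
def QW : Q := ⟨1, 0, 1, -1, 0, 0, 0, 1⟩

theorem toH_QI : toH QI = qI := by ext <;> simp [toH_re, toH_imI, toH_imJ, toH_imK, QI, qI]

theorem toH_QW : toH QW = ⟨1 / 2, sig / 2, 0, tau / 2⟩ := by
  ext <;> simp [toH_re, toH_imI, toH_imJ, toH_imK, QW, sig, tau] <;> ring

/-- The closure of coordinates under halved multiplication. -/
theorem qbasis_mul : ∀ i j : Fin 8, Q.Dvd' 2 ((Qbasis i).mul2 (Qbasis j)) ∧
    InI (((Qbasis i).mul2 (Qbasis j)).div 2) := by decide +kernel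

/-- The image of the parity lattice. -/
def icoSubgroup : AddSubgroup ℍ[ℝ] where
  carrier := toH '' {X | InI X}
  zero_mem' := ⟨Q.zero, by decide, toH_zero⟩
  add_mem' := by
    rintro _ _ ⟨X, hX, rfl⟩ ⟨Y, hY, rfl⟩
    exact ⟨X.add Y, hX.add hY, toH_add X Y⟩
  neg_mem' := by
    rintro _ ⟨X, hX, rfl⟩
    exact ⟨X.neg, hX.neg, toH_neg X⟩

theorem icoSubgroup_mul {x y : ℍ[ℝ]} (hx : x ∈ icoSubgroup) (hy : y ∈ icoSubgroup) :
    x * y ∈ icoSubgroup := by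
  obtain ⟨X, hX, rfl⟩ := hx
  obtain ⟨Y, hY, rfl⟩ := hy
  rw [toH_eq_sum hX, toH_eq_sum hY, Finset.sum_mul_sum]
  refine icoSubgroup.sum_mem fun i _ => icoSubgroup.sum_mem fun j _ => ?_
  rw [smul_mul_smul_comm]
  refine icoSubgroup.zsmul_mem ⟨_, (qbasis_mul i j).2, ?_⟩ _
  exact (toH_mul _ _ _ (Q.smul_div (qbasis_mul i j).1).symm).symm

/-- The parity lattice as a subring. -/
def icoSubring : Subring ℍ[ℝ] :=
  { icoSubgroup with
    one_mem' := ⟨Q.one, by decide, toH_one⟩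
    mul_mem' := icoSubgroup_mul }

theorem icosians_le : icosians ≤ icoSubring := by
  refine Subring.closure_le.2 ?_
  rintro x (rfl | rfl)
  · exact ⟨QI, by decide, toH_QI⟩
  · exact ⟨QW, by decide, toH_QW⟩

/-- Words in `i` and `w`, spanning the icosians. -/
def wordQ : Fin 8 → Q :=
  ![⟨0, 0, 2, 0, 0, 0, 0, 0⟩, ⟨0, -1, -1, 1, -1, 0, 0, 0⟩, ⟨2, 0, 0, 0, 0, 0, 0, 0⟩,
    ⟨-1, 1, 1, 0, 0, 1, 0, 0⟩, ⟨1, -1, 0, 0, 1, 0, 0, 1⟩, ⟨0, 0, -1, 1, 0, 1, 1, 0⟩,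
    ⟨1, 0, 1, -1, 0, 0, 0, 1⟩, ⟨-1, 1, 1, 0, 0, -1, 0, 0⟩]

/-- The letters of the words. -/
def wordL : Fin 8 → List Bool :=
  ![[true], [true, false, true, false], [], [false, true], [false, true, false, false, true],
    [false, false, true, false], [false], [true, false]]

/-- The value of a word, with a check that all halvings are exact. -/
def evalWord : Q → List Bool → Option Q
  | X, [] => some X
  | X, b :: l =>
    let P := X.mul2 (if b then QI else QW)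
    if Q.Dvd' 2 P then evalWord (P.div 2) l else none

theorem evalWord_mem : ∀ (l : List Bool) (X Y : Q), toH X ∈ icosians → evalWord X l = some Y →
    toH Y ∈ icosians
  | [], X, Y, hX, h => by
    rw [evalWord, Option.some_inj] at h; subst h; exact hX
  | b :: l, X, Y, hX, h => by
    have hb : toH (if b then QI else QW) ∈ icosians := by
      cases b
      · rw [if_neg Bool.false_ne_true, toH_QW]; exact Subring.subset_closure (Or.inr rfl)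
      · rw [if_pos rfl, toH_QI]; exact Subring.subset_closure (Or.inl rfl)
    by_cases hd : Q.Dvd' 2 (X.mul2 (if b then QI else QW))
    · rw [evalWord] at h
      simp only [hd, if_true] at h
      refine evalWord_mem l _ Y ?_ h
      rw [← toH_mul _ _ _ (Q.smul_div hd).symm]
      exact icosians.mul_mem hX hb
    · rw [evalWord] at h
      simp only [hd, if_false] at h
      exact absurd h (by simp)

theorem evalWord_wordQ : ∀ i, evalWord Q.one (wordL i) = some (wordQ i) := by decide +kernel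

/-- `Qbasis` in terms of the words. -/
def basisCoef : Fin 8 → Fin 8 → ℤ :=
  ![![0, 0, 1, 1, 1, 0, -1, 1], ![0, 0, 1, 1, 0, 0, 0, 0], ![0, 0, 1, 0, 0, 1, 0, 1],
    ![0, 1, 1, 1, 1, 0, 0, 1], ![0, 0, 1, 0, 0, 0, 0, 0], ![-1, 0, 1, 1, 0, 0, 0, 1],
    ![1, 0, 0, 0, 0, 0, 0, 0], ![0, 1, 1, 1, 1, 0, -1, 1]]

theorem toH_qbasis_mem (i : Fin 8) : toH (Qbasis i) ∈ icosians := by
  have e : toH (Qbasis i) = ∑ j, (basisCoef i j : ℤ) • toH (wordQ j) := by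
    fin_cases i <;>
      (ext <;> simp [Fin.sum_univ_eight, Qbasis, basisCoef, wordQ, toH_re, toH_imI, toH_imJ, toH_imK] <;> ring)
  rw [e]
  refine icosians.sum_mem fun j _ => icosians.zsmul_mem ?_ _
  exact evalWord_mem _ _ _ (by rw [toH_one]; exact icosians.one_mem) (evalWord_wordQ j)

theorem toH_mem_icosians {X : Q} (h : InI X) : toH X ∈ icosians := by
  rw [toH_eq_sum h]
  exact icosians.sum_mem fun i _ => icosians.zsmul_mem (toH_qbasis_mem i) _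

theorem mem_icosians_iff {x : ℍ[ℝ]} : x ∈ icosians ↔ ∃ X, InI X ∧ toH X = x :=
  ⟨fun h => icosians_le h, fun ⟨_, hX, e⟩ => e ▸ toH_mem_icosians hX⟩

theorem InI_of_mem {X : Q} (h : toH X ∈ icosians) : InI X := by
  obtain ⟨Y, hY, e⟩ := mem_icosians_iff.1 h
  rwa [← toH_injective e]

end Cfsg.Agent.Ico
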