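import Cfsg.Agent.Lib.Icosian.Centralizer
import Cfsg.Agent.Lib.Fusion3.Equiv
import Cfsg.Agent.Lib.Fusion.Group
import Cfsg.Agent.Lib.FusionNormal.Basic
import Cfsg.Agent.Lib.PGroup.Basic

/-!
# The 2-fusion system of the Hall-Janko group is simple

* `centralizer_ker`, `closure_two_elements` : structure of the centraliser of a reflection
* `sylowTwo` : a Sylow 2-subgroup of order 128
* `eq_sylowTwo_of_closed` : it has no proper strongly closed subgroup
* `isSimple_fusion`
-/

set_option autoImplicit false

namespace Cfsg.Agent.Ico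

open Cfsg Cfsg.Spor Cfsg.Agent.StabCert MulAction Cfsg.FusionSystem Cfsg.Agent.Fusion

/-- The centraliser of the reflection, inside the group on the lines. -/
noncomputable def stabIncl : lineStab →* lineHom.range := Subgroup.inclusion (sub_le_range _)

theorem stabIncl_injective : Function.Injective stabIncl := Subgroup.inclusion_injective _

/-- An element of the core. -/
noncomputable def coreEl (i : Fin 32) : lineStab := stabEl (cw i) (cw_letters i)

theorem coreEl_mem (i : Fin 32) : coreEl i ∈ pairHom.ker := by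
  refine Equiv.ext fun n => ?_
  have e := pairHom_stabEl (cw i) (cw_letters i)
  rw [core_ok.1] at e
  have e' := congrArg (fun l : List (Fin 5) => l.getD n.val 0) e
  fin_cases n <;> simpa [coreEl, List.finRange, List.ofFn_succ] using e'

theorem coreEl_injective : Function.Injective coreEl := fun i j h => by
  have h' : wordEl el (cw i) = wordEl el (cw j) := congrArg Subtype.val h
  refine List.inj_on_of_nodup_map core_ok.2.1 (List.mem_finRange i) (List.mem_finRange j)
    (List.map_congr_left fun β hβ => ?_)
  by_contra hne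
  exact word_ne (letters_lt (cw_letters i)) (letters_lt (cw_letters j)) (detPts_lt β hβ) hne h'

theorem exists_coreEl {x : lineStab} (hx : x ∈ pairHom.ker) : ∃ i, coreEl i = x := by
  have hb := (Nat.bijective_iff_injective_and_card (fun i => (⟨coreEl i, coreEl_mem i⟩ : pairHom.ker))).2
    ⟨fun i j h => coreEl_injective (congrArg Subtype.val h), by rw [natCard_ker_pairHom, Nat.card_fin]⟩
  obtain ⟨i, hi⟩ := hb.2 ⟨x, hx⟩
  exact ⟨i, congrArg Subtype.val hi⟩

theorem sameW_eq {u v : List ℕ} (hu : ∀ k ∈ u, k < 13) (hv : ∀ k ∈ v, k < 13)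
    (h : sameW u v = true) : wordEl el u = wordEl el v :=
  word_eq hu hv (by simpa [sameW] using h)

theorem core_center {x : lineStab} (hx : x ∈ pairHom.ker)
    (hc : ∀ y ∈ pairHom.ker, y * x = x * y) : x = coreEl 0 ∨ x = coreEl 6 := by
  obtain ⟨i, rfl⟩ := exists_coreEl hx
  have hes := List.all_eq_true.1 es_ok i (List.mem_finRange i)
  simp only [esOK, Bool.and_eq_true, Bool.or_eq_true, beq_iff_eq, List.any_eq_true,
    Bool.not_eq_true'] at hes
  rcases hes.2 with (rfl | rfl) | ⟨j, -, hj⟩
  · exact Or.inl rfl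
  · exact Or.inr rfl
  · exfalso
    simp only [sameW, List.all_eq_false, beq_iff_eq] at hj
    obtain ⟨β, hβ, hne⟩ := hj
    have e : wordEl el (cw j) * wordEl el (cw i) = wordEl el (cw i) * wordEl el (cw j) :=
      congrArg Subtype.val (hc _ (coreEl_mem j))
    refine word_ne (fun k hk => ?_) (fun k hk => ?_) (detPts_lt β hβ) hne
      (by rw [wordEl_append, wordEl_append, e]) <;>
    rcases List.mem_append.1 hk with h | h <;> exact letters_lt (cw_letters _) k h

theorem four_mem : ∀ k ∈ [4], k ∈ level1.gens := by decide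

/-- A witness against inner action, and its checks. -/
def innerOK : Bool :=
  sameW (4 :: cw 1) (cw 20 ++ [4]) && !sameW (cw 20) (cw 1) && !sameW (cw 20) (cw 6 ++ cw 1)

theorem inner_ok : innerOK = true := by decide +kernel

theorem normal_cases_stab (N : Subgroup lineStab) [N.Normal] :
    N ≤ pairHom.ker ∨ N ⊔ pairHom.ker = ⊤ := by
  have hA : IsSimpleGroup (alternatingGroup (Fin 5)) :=
    alternatingGroup.isSimpleGroup (by simp)
  have hR : IsSimpleGroup pairHom.range := (MulEquiv.subgroupCongr range_pairHom).isSimpleGroup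
  have hn : (N.map pairHom.rangeRestrict).Normal :=
    Subgroup.Normal.map inferInstance _ pairHom.rangeRestrict_surjective
  rcases hn.eq_bot_or_eq_top with h | h
  · left
    rwa [Subgroup.map_eq_bot_iff, MonoidHom.ker_rangeRestrict] at h
  · right
    rw [← MonoidHom.ker_rangeRestrict, ← Subgroup.comap_map_eq, h, Subgroup.comap_top]

theorem centralizer_ker {x : lineStab} (hx : ∀ y ∈ pairHom.ker, y * x = x * y) :
    x ∈ pairHom.ker := by
  rcases normal_cases_stab (Subgroup.centralizer (pairHom.ker : Set lineStab)) with h | h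
  · exact h fun y hy => hx y hy
  exfalso
  have h4 : stabEl [4] four_mem ∈ Subgroup.centralizer (pairHom.ker : Set lineStab) ⊔ pairHom.ker :=
    h ▸ Subgroup.mem_top _
  obtain ⟨k, hk, q, hq, e⟩ := Subgroup.mem_sup_of_normal_right.1 h4
  obtain ⟨i, rfl⟩ := exists_coreEl hq
  have hI := inner_ok
  simp only [innerOK, Bool.and_eq_true, Bool.not_eq_true'] at hI
  have hl4 : ∀ k ∈ [4], k < 13 := by decide
  have hap : ∀ i j, ∀ k ∈ cw i ++ cw j, k < 13 := fun i j k hk =>
    (List.mem_append.1 hk).elim (letters_lt (cw_letters i) k) (letters_lt (cw_letters j) k)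
  have e1 : stabEl [4] four_mem * coreEl 1 = coreEl 20 * stabEl [4] four_mem := by
    refine Subtype.ext ?_
    show wordEl el [4] * wordEl el (cw 1) = wordEl el (cw 20) * wordEl el [4]
    rw [← wordEl_append, ← wordEl_append]
    exact sameW_eq (fun k hk => (List.mem_append.1 hk).elim (hl4 k) (letters_lt (cw_letters 1) k))
      (fun k hk => (List.mem_append.1 hk).elim (letters_lt (cw_letters 20) k) (hl4 k)) hI.1.1
  -- the witness would act like an element of the core
  have e2 : coreEl i * coreEl 1 = coreEl 20 * coreEl i := by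
    have hk20 := hk (coreEl 20) (coreEl_mem 20)
    refine mul_left_cancel (a := k) ?_
    calc k * (coreEl i * coreEl 1) = stabEl [4] four_mem * coreEl 1 := by rw [← e, mul_assoc]
      _ = coreEl 20 * (k * coreEl i) := by rw [e1, e]
      _ = k * (coreEl 20 * coreEl i) := by rw [← mul_assoc, hk20, mul_assoc]
  have hes := List.all_eq_true.1 es_ok i (List.mem_finRange i)
  simp only [esOK, Bool.and_eq_true, Bool.or_eq_true, List.all_eq_true] at hes
  have e2' : wordEl el (cw i) * wordEl el (cw 1) = wordEl el (cw 20) * wordEl el (cw i) :=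
    congrArg Subtype.val e2
  rcases hes.1.2 1 (List.mem_finRange 1) with h' | h'
  · have := sameW_eq (hap _ _) (hap _ _) h'
    rw [wordEl_append, wordEl_append, e2'] at this
    have hb := mul_right_cancel this
    simp only [sameW, List.all_eq_false, beq_iff_eq] at hI
    obtain ⟨β, hβ, hne⟩ := hI.1.2
    exact word_ne (letters_lt (cw_letters _)) (letters_lt (cw_letters _)) (detPts_lt β hβ) hne hb
  · have := sameW_eq (hap _ _) (fun k hk => (List.mem_append.1 hk).elim (hap 6 1 k)
      (letters_lt (cw_letters i) k)) h'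
    rw [wordEl_append, wordEl_append, e2'] at this
    have hb := mul_right_cancel this
    simp only [sameW, List.all_eq_false, beq_iff_eq] at hI
    obtain ⟨β, hβ, hne⟩ := hI.2
    exact word_ne (letters_lt (cw_letters _)) (hap _ _) (detPts_lt β hβ) hne hb

/-! ### a Sylow subgroup -/

/-- First permutation of the four-group. -/
def vA : Equiv.Perm (Fin 5) := Equiv.swap 0 2 * Equiv.swap 1 3

/-- Second permutation of the four-group. -/
def vB : Equiv.Perm (Fin 5) := Equiv.swap 0 1 * Equiv.swap 2 3

/-- The four-group. -/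
def fourGroup : Subgroup (Equiv.Perm (Fin 5)) where
  carrier := {1, vA, vB, vA * vB}
  mul_mem' := by
    intro a b ha hb
    simp only [Set.mem_insert_iff, Set.mem_singleton_iff] at ha hb ⊢
    rcases ha with rfl | rfl | rfl | rfl <;> rcases hb with rfl | rfl | rfl | rfl <;> decide
  one_mem' := Or.inl rfl
  inv_mem' := by
    intro a ha
    simp only [Set.mem_insert_iff, Set.mem_singleton_iff] at ha ⊢
    rcases ha with rfl | rfl | rfl | rfl <;> decide

/-- First word outside the core. -/
def sWordA : List ℕ := [6, 4, 4, 7, 7, 4, 4]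

/-- Second word outside the core. -/
def sWordB : List ℕ := [7, 4, 4, 7, 4, 4, 4]

theorem sWord_letters : (∀ k ∈ sWordA, k ∈ level1.gens) ∧ ∀ k ∈ sWordB, k ∈ level1.gens := by decide

/-- The elements of the two words. -/
noncomputable def sA : lineStab := stabEl sWordA sWord_letters.1

/-- The elements of the two words. -/
noncomputable def sB : lineStab := stabEl sWordB sWord_letters.2

theorem sWord_img : pairImg sWordA = [2, 3, 0, 1, 4] ∧ pairImg sWordB = [1, 0, 3, 2, 4] := by
  decide +kernel

theorem perm_of_list : ∀ σ : Equiv.Perm (Fin 5),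
    ((List.finRange 5).map σ = [2, 3, 0, 1, 4] → σ = vA) ∧
    ((List.finRange 5).map σ = [1, 0, 3, 2, 4] → σ = vB) := by decide +kernel

theorem pairHom_sA : pairHom sA = vA :=
  (perm_of_list _).1 ((pairHom_stabEl _ _).trans sWord_img.1)

theorem pairHom_sB : pairHom sB = vB :=
  (perm_of_list _).2 ((pairHom_stabEl _ _).trans sWord_img.2)

theorem fourGroup_le : fourGroup ≤ pairHom.range := by
  intro x hx
  rcases hx with rfl | rfl | rfl | rfl
  · exact one_mem _
  · exact ⟨sA, pairHom_sA⟩
  · exact ⟨sB, pairHom_sB⟩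
  · exact ⟨sA * sB, by rw [map_mul, pairHom_sA, pairHom_sB]⟩

theorem natCard_fourGroup : Nat.card fourGroup = 4 := by
  rw [← SetLike.coe_sort_coe, Nat.card_coe_set_eq]
  show ({1, vA, vB, vA * vB} : Set (Equiv.Perm (Fin 5))).ncard = 4
  rw [show ({1, vA, vB, vA * vB} : Set (Equiv.Perm (Fin 5))) =
    (({1, vA, vB, vA * vB} : Finset (Equiv.Perm (Fin 5))) : Set (Equiv.Perm (Fin 5))) by simp,
    Set.ncard_coe_finset]
  decide

/-- A subgroup of order 128. -/
noncomputable def sylowSub : Subgroup lineHom.range := (fourGroup.comap pairHom).map stabIncl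

theorem natCard_sylowSub : Nat.card sylowSub = 128 := by
  rw [sylowSub, Subgroup.card_map_of_injective stabIncl_injective]
  have h1 := (fourGroup.subgroupOf pairHom.range).index_mul_card
  rw [Nat.card_congr (Subgroup.subgroupOfEquivOfLe fourGroup_le).toEquiv, natCard_fourGroup,
    range_pairHom, nat_card_alternatingGroup, Nat.card_fin, show Nat.factorial 5 = 120 from rfl] at h1
  have h2 := (fourGroup.comap pairHom).index_mul_card
  rw [Subgroup.index_comap, range_pairHom] at h2
  have hc : Nat.card lineStab = 1920 := natCard_sub_level1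
  rw [hc] at h2
  change (fourGroup.subgroupOf (alternatingGroup (Fin 5))).index * _ = 1920 at h2
  have h15 : (fourGroup.subgroupOf (alternatingGroup (Fin 5))).index = 15 := by omega
  rw [h15] at h2
  omega

theorem isPGroup_sylowSub : IsPGroup 2 sylowSub :=
  IsPGroup.of_card (n := 7) (by rw [natCard_sylowSub]; norm_num)

/-- The Sylow subgroup. -/
noncomputable def sylowTwo : Sylow 2 lineHom.range :=
  isPGroup_sylowSub.toSylow (by
    have h := sylowSub.index_mul_card
    rw [natCard_sylowSub, natCard_range] at h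
    omega)

theorem coe_sylowTwo : (sylowTwo : Subgroup lineHom.range) = sylowSub := rfl

/-- The core inside the group. -/
noncomputable def coreSub : Subgroup lineHom.range := pairHom.ker.map stabIncl

theorem coreSub_le : coreSub ≤ sylowSub :=
  Subgroup.map_mono fun x hx => by
    rw [Subgroup.mem_comap, MonoidHom.mem_ker.1 hx]
    exact one_mem _

theorem coe_stabIncl (x : lineStab) : (stabIncl x : Equiv.Perm (Fin 315)) = x := rfl

theorem stabIncl_coreEl_six : stabIncl (coreEl 6) = tau root := by
  refine Subtype.ext ?_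
  rw [coe_stabIncl, coe_tau_root]
  refine word_eq (letters_lt (cw_letters 6)) (by decide) fun β hβ => ?_
  exact List.map_inj_left.1 core_ok.2.2.2.2 β hβ

theorem stabIncl_coreEl_zero : stabIncl (coreEl 0) = 1 := by
  refine Subtype.ext ?_
  rw [coe_stabIncl]
  show wordEl el (cw 0) = 1
  rw [core_ok.2.2.2.1]
  rfl

theorem exists_of_commute {x : lineHom.range} (h : x * tau root = tau root * x) :
    ∃ c : lineStab, stabIncl c = x := by
  have hx : x ∈ Subgroup.centralizer {tau root} := Subgroup.mem_centralizer_singleton_iff.2 h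
  rw [centralizer_tau_root, ← line305.2.1, stab_line] at hx
  exact ⟨⟨x.1, hx⟩, rfl⟩

theorem stab_commute (c : lineStab) : stabIncl c * tau root = tau root * stabIncl c := by
  refine Subgroup.mem_centralizer_singleton_iff.1 ?_
  rw [centralizer_tau_root, ← line305.2.1, stab_line]
  exact c.2

theorem tau_root_ne_one : tau root ≠ 1 := by
  rw [← stabIncl_coreEl_six, ← stabIncl_coreEl_zero]
  exact fun e => absurd (coreEl_injective (stabIncl_injective e)) (by decide)

theorem centralizer_coreSub {x : lineHom.range} (hx : ∀ y ∈ coreSub, y * x = x * y) :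
    x = 1 ∨ x = tau root := by
  have hz : tau root ∈ coreSub := ⟨_, coreEl_mem 6, stabIncl_coreEl_six⟩
  obtain ⟨c, rfl⟩ := exists_of_commute (hx _ hz).symm
  have hc : ∀ y ∈ pairHom.ker, y * c = c * y := fun y hy =>
    stabIncl_injective (by rw [map_mul, map_mul]; exact hx _ ⟨y, hy, rfl⟩)
  rcases core_center (centralizer_ker hc) hc with rfl | rfl
  · exact Or.inl stabIncl_coreEl_zero
  · exact Or.inr stabIncl_coreEl_six

/-! ### the centraliser is generated by 2-elements -/

theorem closure_two_elements :
    Subgroup.closure {c : lineStab | ∃ k, c ^ 2 ^ k = 1} = ⊤ := by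
  set R := Subgroup.closure {c : lineStab | ∃ k, c ^ 2 ^ k = 1} with hR
  have hn : R.Normal := by
    refine Subgroup.normalizer_eq_top_iff.1 (eq_top_iff.2 fun g _ => ?_)
    refine Subgroup.mem_normalizer_iff_map_conj_eq.2 ?_
    rw [hR, MonoidHom.map_closure]
    refine congrArg Subgroup.closure (Set.ext fun x => ⟨?_, fun ⟨k, hk⟩ => ⟨g⁻¹ * x * g, ⟨k, ?_⟩, by simp [mul_assoc]⟩⟩)
    · rintro ⟨c, ⟨k, hk⟩, rfl⟩
      exact ⟨k, by rw [← map_pow, hk, map_one]⟩
    · rw [show g⁻¹ * x * g = MulAut.conj g⁻¹ x by simp, ← map_pow, hk, map_one]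
  have hker : pairHom.ker ≤ R := fun x hx => Subgroup.subset_closure ⟨5, by
    have h := pow_card_eq_one' (x := (⟨x, hx⟩ : pairHom.ker))
    rw [natCard_ker_pairHom] at h
    exact congrArg Subtype.val h⟩
  rcases normal_cases_stab R with h | h
  · exfalso
    have hs : sA ∈ R := Subgroup.subset_closure ⟨7, by
      have hm : stabIncl sA ∈ sylowSub :=
        ⟨sA, by rw [SetLike.mem_coe, Subgroup.mem_comap, pairHom_sA]; exact Or.inr (Or.inl rfl), rfl⟩
      have h := pow_card_eq_one' (x := (⟨_, hm⟩ : sylowSub))
      rw [natCard_sylowSub] at h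
      exact stabIncl_injective (by rw [map_pow, map_one]; exact congrArg Subtype.val h)⟩
    have := h hs
    rw [MonoidHom.mem_ker, pairHom_sA] at this
    exact absurd this (by decide)
  · rwa [sup_of_le_left hker] at h

/-! ### strongly closed subgroups -/

/-- Steps generating the core from a reflection: `(c, k, a, b)` says `c` is the conjugate of `a` by
the letter `k`, or for `k = 0` the product of `a` and `b`. -/
def coreSteps : List (Fin 32 × ℕ × Fin 32 × Fin 32) :=
  [(20, 4, 1, 0), (14, 7, 1, 0), (13, 4, 20, 0), (3, 5, 20, 0), (28, 4, 14, 0), (23, 5, 14, 0),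
    (16, 6, 14, 0), (2, 5, 3, 0), (25, 6, 3, 0), (0, 0, 1, 1), (10, 0, 1, 20), (22, 4, 10, 0),
    (9, 5, 10, 0), (17, 7, 10, 0), (21, 4, 22, 0), (7, 6, 22, 0), (8, 7, 22, 0), (29, 4, 9, 0),
    (26, 6, 9, 0), (18, 7, 9, 0), (15, 6, 17, 0), (12, 7, 17, 0), (31, 4, 21, 0), (24, 6, 21, 0),
    (30, 7, 21, 0), (11, 4, 7, 0), (4, 5, 7, 0), (19, 5, 29, 0), (27, 5, 26, 0), (5, 6, 24, 0)]

/-- The check of the steps, given the elements known so far. -/
def stepsOK : List (Fin 32 × ℕ × Fin 32 × Fin 32) → List (Fin 32) → Bool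
  | [], known => (List.finRange 32).all fun i => known.contains i
  | (c, k, a, b) :: r, known => known.contains a &&
      (if k = 0 then known.contains b && sameW (cw c) (cw a ++ cw b)
        else level1.gens.contains k && sameW (k :: cw a) (cw c ++ [k])) &&
      stepsOK r (c :: known)

theorem steps_ok : stepsOK coreSteps [1, 6] = true := by decide +kernel

/-- The fusing word. -/
def fuseWord : List ℕ := [0, 2, 3, 1, 0]

theorem fuse_ok : sameW (fuseWord ++ cw 7 ++ fuseWord.reverse) sWordA = true ∧
    sameW (fuseWord ++ cw 8 ++ fuseWord.reverse) sWordB = true ∧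
    sameW (cw 1) secondWord = true := by decide +kernel

theorem wordEl_reverse : ∀ (l : List ℕ), (∀ k ∈ l, k < 4) →
    wordEl el l.reverse = (wordEl el l)⁻¹
  | [], _ => by simp [wordEl]
  | k :: l, h => by
    have hk : k < 4 := h k List.mem_cons_self
    have hinv : el k * el k = 1 := by
      have e := congrArg (fun x : lineHom.range => (x : Equiv.Perm (Fin 315)))
        (tau_mul_self (gen ⟨k, hk⟩))
      simpa only [Subgroup.coe_mul, coe_tau_gen, Subgroup.coe_one] using e
    rw [List.reverse_cons, wordEl_append, wordEl_reverse l fun a ha => h a (List.mem_cons_of_mem _ ha),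
      show wordEl el (k :: l) = el k * wordEl el l by simp [wordEl], mul_inv_rev,
      inv_eq_of_mul_eq_one_right hinv]
    simp [wordEl]

theorem eq_sylowTwo_of_closed {T : Subgroup lineHom.range} (hT : T ≤ sylowSub)
    (hc : ∀ x ∈ T, ∀ g : lineHom.range, g * x * g⁻¹ ∈ sylowSub → g * x * g⁻¹ ∈ T) (hne : T ≠ ⊥) :
    T = sylowSub := by
  refine le_antisymm hT ?_
  have : Fact (Nat.Prime 2) := ⟨Nat.prime_two⟩
  have hn : (T.subgroupOf sylowSub).Normal := ⟨fun n hn g => by
    rw [Subgroup.mem_subgroupOf] at hn ⊢
    exact hc n hn g (mul_mem (mul_mem g.2 n.2) (inv_mem g.2))⟩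
  have hne' : T.subgroupOf sylowSub ⊓ Subgroup.center sylowSub ≠ ⊥ :=
    PGroup.inf_center_ne_bot isPGroup_sylowSub fun e => hne (by
      rw [← Subgroup.map_subgroupOf_eq_of_le hT, e, Subgroup.map_bot])
  obtain ⟨⟨w, hw⟩, hw'⟩ := Subgroup.ne_bot_iff_exists_ne_one.1 hne'
  have hz : tau root ∈ T := by
    rcases centralizer_coreSub (x := (w : lineHom.range)) (fun y hy =>
        congrArg Subtype.val (Subgroup.mem_center_iff.1 hw.2 ⟨y, coreSub_le hy⟩)) with e | e
    · exact absurd (Subtype.ext (Subtype.ext e)) hw'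
    · exact e ▸ hw.1
  have hcoreS : ∀ i, stabIncl (coreEl i) ∈ sylowSub := fun i => coreSub_le ⟨_, coreEl_mem i, rfl⟩
  have hsecond : stabIncl (coreEl 1) ∈ T := by
    have e : stabIncl (coreEl 1) = tau (pt 305) := Subtype.ext (by
      rw [coe_stabIncl, coe_tau_second]
      exact sameW_eq (letters_lt (cw_letters 1)) (by decide) fuse_ok.2.2)
    obtain ⟨g, hg⟩ := exists_smul_eq lineHom.range root (pt 305)
    rw [e, ← hg, tau_smul]
    exact hc _ hz g (by rw [← tau_smul, hg, ← e]; exact hcoreS 1)
  have hall : ∀ (l : List (Fin 32 × ℕ × Fin 32 × Fin 32)) (known : List (Fin 32)),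
      (∀ i ∈ known, stabIncl (coreEl i) ∈ T) → stepsOK l known = true →
        ∀ i, stabIncl (coreEl i) ∈ T := by
    intro l
    induction l with
    | nil =>
      intro known hk h i
      simp only [stepsOK, List.all_eq_true, List.contains_iff_mem] at h
      exact hk i (h i (List.mem_finRange i))
    | cons p r ih =>
      obtain ⟨c, k, a, b⟩ := p
      intro known hk h
      simp only [stepsOK, Bool.and_eq_true, List.contains_iff_mem] at h
      refine ih _ (fun i hi => ?_) h.2
      rcases List.mem_cons.1 hi with rfl | hi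
      swap
      · exact hk i hi
      by_cases hk0 : k = 0
      · simp only [hk0, if_true, Bool.and_eq_true, List.contains_iff_mem] at h
        have e : stabIncl (coreEl i) = stabIncl (coreEl a) * stabIncl (coreEl b) := Subtype.ext (by
          rw [Subgroup.coe_mul, coe_stabIncl, coe_stabIncl, coe_stabIncl]
          show wordEl el (cw i) = wordEl el (cw a) * wordEl el (cw b)
          rw [← wordEl_append]
          exact sameW_eq (letters_lt (cw_letters i))
            (fun k hk => (List.mem_append.1 hk).elim (letters_lt (cw_letters a) k)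
              (letters_lt (cw_letters b) k)) h.1.2.2)
        rw [e]
        exact mul_mem (hk a h.1.1) (hk b h.1.2.1)
      · simp only [hk0, if_false, Bool.and_eq_true, List.contains_iff_mem] at h
        have hl : ∀ x ∈ [k], x ∈ level1.gens := by simpa using h.1.2.1
        set g := stabIncl (stabEl [k] hl) with hg
        have e : g * stabIncl (coreEl a) * g⁻¹ = stabIncl (coreEl i) := by
          rw [mul_inv_eq_iff_eq_mul]
          refine Subtype.ext ?_
          show wordEl el [k] * wordEl el (cw a) = wordEl el (cw i) * wordEl el [k]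
          rw [← wordEl_append, ← wordEl_append]
          exact sameW_eq (fun x hx => (List.mem_append.1 hx).elim (letters_lt hl x)
              (letters_lt (cw_letters a) x))
            (fun x hx => (List.mem_append.1 hx).elim (letters_lt (cw_letters i) x)
              (letters_lt hl x)) h.1.2.2
        rw [← e]
        exact hc _ (hk a h.1.1) g (e ▸ hcoreS i)
  have hQ : ∀ i, stabIncl (coreEl i) ∈ T :=
    hall coreSteps [1, 6] (fun i hi => by
      simp only [List.mem_cons, List.not_mem_nil, or_false] at hi
      rcases hi with rfl | rfl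
      · exact hsecond
      · rw [stabIncl_coreEl_six]; exact hz) steps_ok
  have hfuse : ∀ (j : Fin 32) (sw : List ℕ) (hsw : ∀ k ∈ sw, k ∈ level1.gens),
      sameW (fuseWord ++ cw j ++ fuseWord.reverse) sw = true →
      stabEl sw hsw ∈ fourGroup.comap pairHom → stabIncl (stabEl sw hsw) ∈ T := by
    intro j sw hsw hsame hmem
    let g : lineHom.range := ⟨wordEl el fuseWord,
      sub_le_range (List.range 13) (wordEl_mem el (by decide))⟩
    have e : g * stabIncl (coreEl j) * g⁻¹ = stabIncl (stabEl sw hsw) := by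
      refine Subtype.ext ?_
      show wordEl el fuseWord * wordEl el (cw j) * (wordEl el fuseWord)⁻¹ = wordEl el sw
      rw [← wordEl_reverse fuseWord (by decide), ← wordEl_append, ← wordEl_append]
      refine sameW_eq (fun x hx => ?_) (letters_lt hsw) hsame
      simp only [List.mem_append, List.mem_reverse] at hx
      rcases hx with (hx | hx) | hx
      · revert hx; revert x; decide
      · exact letters_lt (cw_letters j) x hx
      · revert hx; revert x; decide
    rw [← e]
    exact hc _ (hQ j) g (e ▸ ⟨_, hmem, rfl⟩)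
  have hA : stabIncl sA ∈ T := hfuse 7 sWordA sWord_letters.1 fuse_ok.1
    (show pairHom sA ∈ fourGroup by rw [pairHom_sA]; exact Or.inr (Or.inl rfl))
  have hB : stabIncl sB ∈ T := hfuse 8 sWordB sWord_letters.2 fuse_ok.2.1
    (show pairHom sB ∈ fourGroup by rw [pairHom_sB]; exact Or.inr (Or.inr (Or.inl rfl)))
  rintro _ ⟨x, hx, rfl⟩
  have key : ∀ v : lineStab, stabIncl v ∈ T → pairHom x = pairHom v → stabIncl x ∈ T := by
    intro v hv e
    obtain ⟨i, hi⟩ := exists_coreEl (x := v⁻¹ * x) (by
      rw [MonoidHom.mem_ker, map_mul, map_inv, e, inv_mul_cancel])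
    rw [show x = v * coreEl i by rw [hi, mul_inv_cancel_left], map_mul]
    exact mul_mem hv (hQ i)
  rcases hx with h | h | h | h
  · exact key 1 (by rw [map_one]; exact one_mem _) (by rw [h, map_one])
  · exact key sA hA (by rw [h, pairHom_sA])
  · exact key sB hB (by rw [h, pairHom_sB])
  · exact key (sA * sB) (by rw [map_mul]; exact mul_mem hA hB)
      (by rw [h, map_mul, pairHom_sA, pairHom_sB])

/-! ### simplicity -/

theorem coreSub_conj (c : lineStab) {y : lineHom.range} (hy : y ∈ coreSub) :
    stabIncl c * y * (stabIncl c)⁻¹ ∈ coreSub := by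
  obtain ⟨q, hq, rfl⟩ := hy
  exact ⟨c * q * c⁻¹, pairHom.normal_ker.conj_mem q hq c, by simp⟩

/-- The action of the centraliser on the core. -/
noncomputable def coreAut : lineStab →* MulAut coreSub where
  toFun c :=
    { toFun := fun x => ⟨stabIncl c * x * (stabIncl c)⁻¹, coreSub_conj c x.2⟩
      invFun := fun x => ⟨stabIncl c⁻¹ * x * (stabIncl c⁻¹)⁻¹, coreSub_conj c⁻¹ x.2⟩
      left_inv := fun x => Subtype.ext (by simp [mul_assoc])
      right_inv := fun x => Subtype.ext (by simp [mul_assoc])
      map_mul' := fun x y => Subtype.ext (by simp [mul_assoc]) }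
  map_one' := MulEquiv.ext fun x => Subtype.ext (by simp)
  map_mul' c d := MulEquiv.ext fun x => Subtype.ext (by simp [mul_assoc])

theorem isSimple_sylowTwo : (groupFusionSystem sylowSub).IsSimple 2 := by
  have : Fact (Nat.Prime 2) := ⟨Nat.prime_two⟩
  have hS1 : sylowSub ≠ ⊥ := fun e => by
    have := natCard_sylowSub
    rw [e, Subgroup.card_bot] at this
    omega
  have hsat : (groupFusionSystem sylowSub).IsSaturated 2 :=
    Fusion.isSaturated_group (T := sylowTwo)
  refine FusionNormal.isSimple_of_top_generated isPGroup_sylowSub hsat hS1 ?_ ?_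
  · intro T hT
    by_cases hb : T = ⊥
    · exact Or.inl hb
    refine Or.inr (eq_sylowTwo_of_closed hT.1 (fun x hx g hg => ?_) hb)
    have hle : Subgroup.zpowers x ≤ T := Subgroup.zpowers_le.2 hx
    obtain ⟨ψ, hψ, e⟩ := Fusion.isMap_group_iff.2
      ⟨hle.trans hT.1, g, fun y hy => ⟨by
        obtain ⟨n, rfl⟩ := Subgroup.mem_zpowers_iff.1 hy
        rw [← conj_zpow]; exact zpow_mem hg n, rfl⟩⟩
    have := hT.2 _ hle ψ hψ ⟨x, Subgroup.mem_zpowers x⟩
    rwa [e x (Subgroup.mem_zpowers x)] at this
  · intro β hβ
    refine Subgroup.subset_closure ⟨hβ, Or.inr ?_⟩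
    rw [Fusion.autGroup_group le_rfl, ← Fusion.range_normConj] at hβ
    obtain ⟨⟨g, hgn⟩, rfl⟩ := hβ
    -- the element fixes the central involution
    have hfix : g * tau root * g⁻¹ = tau root := by
      have hzS : tau root ∈ sylowSub := coreSub_le ⟨_, coreEl_mem 6, stabIncl_coreEl_six⟩
      have hcomm : ∀ y ∈ coreSub, y * (g * tau root * g⁻¹) = g * tau root * g⁻¹ * y := fun y hy => by
        have hy' : g⁻¹ * y * g ∈ sylowSub := by
          simpa using (Subgroup.mem_normalizer_iff''.1 hgn.2 y).1 (coreSub_le hy)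
        obtain ⟨c, -, hc⟩ := hy'
        have := stab_commute c
        rw [hc] at this
        calc y * (g * tau root * g⁻¹) = g * (g⁻¹ * y * g * tau root) * g⁻¹ := by group
          _ = g * (tau root * (g⁻¹ * y * g)) * g⁻¹ := by rw [this]
          _ = _ := by group
      rcases centralizer_coreSub (x := g * tau root * g⁻¹) hcomm with e | e
      · exfalso
        refine tau_root_ne_one ?_
        calc tau root = g⁻¹ * (g * tau root * g⁻¹) * g := by group
          _ = 1 := by rw [e]; group
      · exact e
    obtain ⟨c, rfl⟩ := exists_of_commute (mul_inv_eq_iff_eq_mul.1 hfix)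
    refine ⟨coreSub, ⟨coreSub_le, fun Q hQ x hx => ?_⟩, coreAut c, ?_, fun x => ?_⟩
    · obtain ⟨φ, ⟨-, -, h, hh⟩, rfl⟩ := hQ
      obtain ⟨-, hxc⟩ := hx
      have hxQ : h⁻¹ * x * h ∈ coreSub := by
        have hcomm : ∀ y ∈ coreSub, y * (h⁻¹ * x * h) = h⁻¹ * x * h * y := fun y hy => by
          have := Subgroup.mem_centralizer_iff.1 hxc (φ ⟨y, hy⟩) ⟨_, rfl⟩
          rw [hh] at this
          calc y * (h⁻¹ * x * h) = h⁻¹ * (h * y * h⁻¹ * x) * h := by group
            _ = h⁻¹ * (x * (h * y * h⁻¹)) * h := by rw [this]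
            _ = _ := by group
        rcases centralizer_coreSub (x := h⁻¹ * x * h) hcomm with e | e
        · rw [e]; exact one_mem _
        · rw [e]; exact ⟨_, coreEl_mem 6, stabIncl_coreEl_six⟩
      refine ⟨⟨_, hxQ⟩, ?_⟩
      rw [hh]
      simp [mul_assoc]
    · have : c ∈ Subgroup.closure {c : lineStab | ∃ k, c ^ 2 ^ k = 1} :=
        closure_two_elements ▸ Subgroup.mem_top c
      have hmap := Subgroup.mem_map_of_mem coreAut this
      rw [MonoidHom.map_closure] at hmap
      refine Subgroup.closure_mono ?_ hmap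
      rintro _ ⟨d, ⟨k, hk⟩, rfl⟩
      refine ⟨Subgroup.subset_closure ⟨coreSub_le, fun x => coreSub_le ?_, stabIncl d, fun x => rfl⟩,
        k, by rw [← map_pow, hk, map_one]⟩
      exact coreSub_conj d x.2
    · rw [Fusion.autFn_apply _ (coreSub_le x.2), Fusion.normConj_apply]
      rfl

theorem isSimple_fusion (S : Sylow 2 lineHom.range) :
    (groupFusionSystem (S : Subgroup lineHom.range)).IsSimple 2 := by
  have : Fact (Nat.Prime 2) := ⟨Nat.prime_two⟩
  obtain ⟨g, rfl⟩ := MulAction.exists_smul_eq lineHom.range sylowTwo S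
  let e := MulAut.conj g
  have hι : (groupFusionSystem sylowSub).IsRealizedBy (e.toMonoidHom.comp sylowSub.subtype) := by
    refine ⟨e.injective.comp (Subgroup.subtype_injective _), fun P hP φ hφ => ⟨?_, ?_⟩⟩
    · rintro ⟨-, -, a, ha⟩
      refine ⟨e a, fun x => ?_⟩
      show e (φ x) = e a * e x * (e a)⁻¹
      rw [ha, map_mul, map_mul, map_inv]
    · rintro ⟨a, ha⟩
      refine ⟨hP, hφ, e.symm a, fun x => e.injective ?_⟩
      have := ha x
      simp only [map_mul, map_inv, e.apply_symm_apply]
      exact this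
  have h2 := (FusionIso.ofRealized hι).isSimple isSimple_sylowTwo
  rw [MonoidHom.range_comp, Subgroup.range_subtype] at h2
  exact h2

end Cfsg.Agent.Ico
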