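import Cfsg.Agent.Lib.Icosian.Basic

/-!
# The icosian Leech lattice in integer coordinates

* `InL` : membership in `I·h`; `V`, `toV`, `InLat`, `mem_icoLeech_iff`, `InLat_of_mem`
* `qip_toV`, `minimal_iff` : `r·r = 4 ↔ nrm = (16, 0)`; `qrefl_toV`, `refl`
* `Psd`, `psd_iff` : positivity in both real embeddings
-/

set_option autoImplicit false

namespace Cfsg.Agent.Ico

open Cfsg.Spor Quaternion

/-- `h`. -/
def QH : Q := ⟨1, -2, 1, 0, 1, 0, 1, 0⟩

theorem toH_QH : toH QH = icoH := by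
  ext <;> simp [toH_re, toH_imI, toH_imJ, toH_imK, QH, icoH, tau] <;> ring

theorem QH_mul_conj : QH.mul2 QH.conj = Q.smul 4 Q.one ∧ QH.conj.mul2 QH = Q.smul 4 Q.one := by
  decide

theorem toH_mul2_QH {H : Q} (h : H.mul2 H.conj = Q.smul 4 Q.one) :
    toH H * toH H.conj = (2 : ℝ) • (1 : ℍ[ℝ]) := by
  have e := congrArg toH h
  rw [toH_mul2, toH_smul, toH_one, show ((4 : ℤ) : ℝ) = 2 * 2 by norm_num, mul_smul] at e
  exact smul_right_injective _ (two_ne_zero (α := ℝ)) e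

/-- Membership of the left ideal `I·h`. -/
def InL (H X : Q) : Prop := Q.Dvd' 4 (X.mul2 H.conj) ∧ InI ((X.mul2 H.conj).div 4)

instance (H X : Q) : Decidable (InL H X) := by unfold InL; infer_instance

theorem smul_inj {k : ℤ} (hk : k ≠ 0) {X Y : Q} (h : X.smul k = Y.smul k) : X = Y := by
  simp only [Q.smul, Q.mk.injEq] at h
  obtain ⟨h0, h1, h2, h3, h4, h5, h6, h7⟩ := h
  ext <;> exact mul_left_cancel₀ hk (by assumption)

theorem div_smul {k : ℤ} (hk : k ≠ 0) (X : Q) : (X.smul k).div k = X := by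
  ext <;> simp [Q.smul, Q.div, hk]

theorem dvd_smul (k : ℤ) (X : Q) : Q.Dvd' k (X.smul k) := by
  simp [Q.Dvd', Q.smul]

theorem mem_leftIdeal_iff {H X : Q} (h1 : H.mul2 H.conj = Q.smul 4 Q.one)
    (h2 : H.conj.mul2 H.conj.conj = Q.smul 4 Q.one) :
    toH X ∈ leftIdeal (toH H) ↔ InL H X := by
  constructor
  · rintro ⟨a, ha, e⟩
    obtain ⟨A, hA, rfl⟩ := mem_icosians_iff.1 ha
    have : X.mul2 H.conj = A.smul 4 := toH_injective (by
      rw [toH_mul2, toH_smul, e, mul_assoc, toH_mul2_QH h1, mul_smul_comm, mul_one, smul_smul]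
      norm_num)
    refine ⟨by rw [this]; exact dvd_smul 4 A, ?_⟩
    rwa [this, div_smul (by norm_num)]
  · rintro ⟨hd, hI⟩
    refine ⟨_, toH_mem_icosians hI, ?_⟩
    have e := congrArg toH (Q.smul_div hd)
    rw [toH_mul2, toH_smul] at e
    have hcc : H.conj.conj = H := by ext <;> simp [Q.conj]
    have h3 := toH_mul2_QH h2
    rw [hcc] at h3
    have := congrArg (· * toH H) e
    simp only [smul_mul_assoc] at this
    rw [mul_assoc, h3, mul_smul_comm, mul_one, smul_smul] at this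
    apply smul_right_injective _ (show (4 : ℝ) ≠ 0 by norm_num)
    simp only
    rw [show ((4 : ℤ) : ℝ) = (4 : ℝ) by norm_num, show (2 : ℝ) * 2 = 4 by norm_num] at this
    exact this.symm

theorem mem_leftIdeal_QH {X : Q} : toH X ∈ leftIdeal icoH ↔ InL QH X := by
  rw [← toH_QH]; exact mem_leftIdeal_iff QH_mul_conj.1 (by decide)

theorem mem_leftIdeal_QHc {X : Q} : toH X ∈ leftIdeal (star icoH) ↔ InL QH.conj X := by
  rw [← toH_QH, ← toH_conj]; exact mem_leftIdeal_iff (by decide) (by decide)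

/-- Triples of coordinates. -/
@[ext]
structure V where
  x : Q
  y : Q
  z : Q
deriving DecidableEq

/-- The vector with given coordinates. -/
noncomputable def toV (v : V) : Fin 3 → ℍ[ℝ] := ![toH v.x, toH v.y, toH v.z]

theorem toV_injective : Function.Injective toV := by
  intro v w h
  ext : 1
  exacts [toH_injective (congrFun h 0), toH_injective (congrFun h 1), toH_injective (congrFun h 2)]

/-- Membership of the lattice. -/
def InLat (v : V) : Prop :=
  InI v.x ∧ InI v.y ∧ InI v.z ∧ InL QH (v.x.sub v.y) ∧ InL QH (v.y.sub v.z) ∧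
    InL QH.conj ((v.x.add v.y).add v.z)

instance (v : V) : Decidable (InLat v) := by unfold InLat; infer_instance

theorem toV_mem {v : V} (h : InLat v) : toV v ∈ icoLeech := by
  obtain ⟨hx, hy, hz, h1, h2, h3⟩ := h
  refine ⟨fun t => ?_, ?_, ?_, ?_⟩
  · fin_cases t <;> exact toH_mem_icosians (by assumption)
  · simpa [toV, ← toH_sub] using mem_leftIdeal_QH.2 h1
  · simpa [toV, ← toH_sub] using mem_leftIdeal_QH.2 h2
  · simpa [toV, ← toH_add] using mem_leftIdeal_QHc.2 h3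

theorem mem_icoLeech_iff {r : Fin 3 → ℍ[ℝ]} : r ∈ icoLeech ↔ ∃ v, InLat v ∧ toV v = r := by
  constructor
  · rintro ⟨hI, h1, h2, h3⟩
    obtain ⟨X, hX, eX⟩ := mem_icosians_iff.1 (hI 0)
    obtain ⟨Y, hY, eY⟩ := mem_icosians_iff.1 (hI 1)
    obtain ⟨Z, hZ, eZ⟩ := mem_icosians_iff.1 (hI 2)
    refine ⟨⟨X, Y, Z⟩, ⟨hX, hY, hZ, mem_leftIdeal_QH.1 ?_, mem_leftIdeal_QH.1 ?_,
      mem_leftIdeal_QHc.1 ?_⟩, ?_⟩
    · rwa [toH_sub, eX, eY]
    · rwa [toH_sub, eY, eZ]
    · rwa [toH_add, toH_add, eX, eY, eZ]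
    · funext t; fin_cases t <;> assumption
  · rintro ⟨v, hv, rfl⟩; exact toV_mem hv

theorem InLat_of_mem {v : V} (h : toV v ∈ icoLeech) : InLat v := by
  obtain ⟨w, hw, e⟩ := mem_icoLeech_iff.1 h
  rwa [← toV_injective e]

namespace V

def zero : V := ⟨Q.zero, Q.zero, Q.zero⟩
def neg (v : V) : V := ⟨v.x.neg, v.y.neg, v.z.neg⟩

/-- The squared norm times four. -/
def nrm (v : V) : ℤ × ℤ :=
  (v.x.nrm.1 + v.y.nrm.1 + v.z.nrm.1, v.x.nrm.2 + v.y.nrm.2 + v.z.nrm.2)

/-- Twice the hermitian product. -/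
def dot2 (v w : V) : Q :=
  ((v.x.mul2 w.x.conj).add (v.y.mul2 w.y.conj)).add (v.z.mul2 w.z.conj)

/-- Twice the left multiple. -/
def lmul2 (U : Q) (v : V) : V := ⟨U.mul2 v.x, U.mul2 v.y, U.mul2 v.z⟩

def smul (k : ℤ) (v : V) : V := ⟨v.x.smul k, v.y.smul k, v.z.smul k⟩

def Dvd' (k : ℤ) (v : V) : Prop := Q.Dvd' k v.x ∧ Q.Dvd' k v.y ∧ Q.Dvd' k v.z

instance (k : ℤ) (v : V) : Decidable (Dvd' k v) := by unfold Dvd'; infer_instance

def div (v : V) (k : ℤ) : V := ⟨v.x.div k, v.y.div k, v.z.div k⟩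

def sub (v w : V) : V := ⟨v.x.sub w.x, v.y.sub w.y, v.z.sub w.z⟩

theorem smul_div {k : ℤ} {v : V} (h : Dvd' k v) : smul k (div v k) = v := by
  simp [smul, div, Q.smul_div h.1, Q.smul_div h.2.1, Q.smul_div h.2.2]

end V

theorem toV_zero : toV V.zero = 0 := by
  funext t; fin_cases t <;> simp [toV, V.zero]

theorem toV_neg (v : V) : toV v.neg = -toV v := by
  funext t; fin_cases t <;> simp [toV, V.neg, toH_neg]

theorem toV_sub (v w : V) : toV (v.sub w) = toV v - toV w := by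
  funext t; fin_cases t <;> simp [toV, V.sub, toH_sub]

theorem toV_smul (k : ℤ) (v : V) : toV (v.smul k) = (k : ℝ) • toV v := by
  funext t; fin_cases t <;> simp [toV, V.smul, toH_smul]

theorem toV_lmul2 (U : Q) (v : V) : toV (v.lmul2 U) = (2 : ℝ) • fun t => toH U * toV v t := by
  funext t; fin_cases t <;> simp [toV, V.lmul2, toH_mul2]

theorem dot2_eq (v w : V) : toH (v.dot2 w) = (2 : ℝ) • qip (toV v) (toV w) := by
  simp [V.dot2, qip, toV, Fin.sum_univ_three, toH_add, toH_mul2, toH_conj, smul_add]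

theorem qip_self (v : V) :
    qip (toV v) (toV v) = ((((v.nrm.1 : ℝ) + v.nrm.2 * tau) / 4 : ℝ) : ℍ[ℝ]) := by
  have e : qip (toV v) (toV v) = toH v.x * star (toH v.x) + toH v.y * star (toH v.y) +
      toH v.z * star (toH v.z) := by
    simp [qip, toV, Fin.sum_univ_three]
  rw [e, toH_nrm, toH_nrm, toH_nrm, ← Quaternion.coe_add, ← Quaternion.coe_add]
  congr 1
  simp [V.nrm]; ring

theorem minimal_iff (v : V) : qip (toV v) (toV v) = 4 ↔ v.nrm = (16, 0) := by
  rw [qip_self, show (4 : ℍ[ℝ]) = ((4 : ℝ) : ℍ[ℝ]) by ext <;> rfl]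
  constructor
  · intro h
    have h2 := Quaternion.coe_injective h
    obtain ⟨e1, e2⟩ := int_add_tau_eq_zero (a := v.nrm.1 - 16) (b := v.nrm.2) (by push_cast; linarith)
    exact Prod.ext (by omega) e2
  · intro h
    rw [h]; norm_num

/-- The reflection in coordinates. -/
def refl (r v : V) : V := v.sub ((r.lmul2 (v.dot2 r)).div 8)

theorem qrefl_toV {r v : V} (h : V.Dvd' 8 (r.lmul2 (v.dot2 r))) :
    qrefl (toV r) (toV v) = toV (refl r v) := by
  have e := congrArg toV (V.smul_div h)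
  rw [toV_smul, toV_lmul2, dot2_eq] at e
  funext t
  rw [refl, toV_sub, qrefl, Pi.sub_apply]
  congr 1
  have e2 := congrFun e t
  simp only [Pi.smul_apply, smul_mul_assoc, smul_smul] at e2
  apply smul_right_injective _ (show (8 : ℝ) ≠ 0 by norm_num)
  simp only [smul_mul_assoc, smul_smul]
  rw [show ((8 : ℤ) : ℝ) = (8 : ℝ) by norm_num] at e2
  rw [e2]
  norm_num

/-! ### positivity -/

/-- `a + bτ` is non-negative in both real embeddings. -/
def Psd (z : ℤ × ℤ) : Prop := 0 ≤ 2 * z.1 + z.2 ∧ 5 * (z.2 * z.2) ≤ (2 * z.1 + z.2) * (2 * z.1 + z.2)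

instance (z : ℤ × ℤ) : Decidable (Psd z) := by unfold Psd; infer_instance

theorem Psd.add {z w : ℤ × ℤ} (hz : Psd z) (hw : Psd w) : Psd (z + w) := by
  obtain ⟨h1, h2⟩ := hz
  obtain ⟨h3, h4⟩ := hw
  refine ⟨by simp; omega, ?_⟩
  simp only [Prod.fst_add, Prod.snd_add]
  have hx : 5 * (z.2 * w.2) ≤ (2 * z.1 + z.2) * (2 * w.1 + w.2) := by
    by_contra hc
    have hp : 0 ≤ (2 * z.1 + z.2) * (2 * w.1 + w.2) := mul_nonneg h1 h3
    have hm : (5 * (z.2 * z.2)) * (5 * (w.2 * w.2)) ≤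
        ((2 * z.1 + z.2) * (2 * z.1 + z.2)) * ((2 * w.1 + w.2) * (2 * w.1 + w.2)) :=
      mul_le_mul h2 h4 (mul_nonneg (by norm_num) (mul_self_nonneg _)) (mul_self_nonneg _)
    nlinarith
  nlinarith

theorem psd_sq (a b : ℤ) : Psd (a * a + b * b, a * b + b * (a + b)) := by
  refine ⟨?_, ?_⟩
  · nlinarith [sq_nonneg (a + b), sq_nonneg a, sq_nonneg b]
  · nlinarith [sq_nonneg (a * a + a * b - b * b)]

end Cfsg.Agent.Ico
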