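import Cfsg.Agent.Lib.Icosian.Short

/-!
# The minimal vectors of the icosian Leech lattice

* `lines_spec` : 315 minimal vectors `lineV i`
* `exists_line` : every minimal vector is `u • lineV i` for a unit `u`
* `line_unique` : the index and the unit are determined, even for a unit quaternion multiple
* `minimalEquiv`, `card_minimal` : there are 37800 minimal vectors
-/

set_option autoImplicit false

namespace Cfsg.Agent.Ico

open Cfsg.Spor Quaternion

/-- The `i`-th line vector. -/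
def lineV (i : Fin 315) : V := lines.getD i.val V.zero

theorem lineV_mem (i : Fin 315) : lineV i ∈ lines := by
  have h : i.val < lines.length := by rw [length_lines]; exact i.2
  rw [lineV, List.getD_eq_getElem _ _ h]
  exact List.getElem_mem h

theorem exists_lineV {v : V} (h : v ∈ lines) : ∃ i, lineV i = v := by
  obtain ⟨k, hk, e⟩ := List.getElem_of_mem h
  refine ⟨⟨k, by rw [← length_lines]; exact hk⟩, ?_⟩
  rw [lineV, List.getD_eq_getElem _ _ hk, e]

theorem lines_spec : ∀ v ∈ lines, InLat v ∧ v.nrm = (16, 0) := by decide +kernel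

theorem exists_mul2_of_InL {H D : Q} (h2 : H.conj.mul2 H = Q.smul 4 Q.one) (h : InL H D) :
    ∃ A, InI A ∧ A.mul2 H = D.smul 2 := by
  refine ⟨_, h.2, toH_injective ?_⟩
  have e := congrArg toH (Q.smul_div h.1)
  rw [toH_smul, toH_mul2] at e
  have h3 := congrArg toH h2
  rw [toH_mul2, toH_smul, toH_one, show ((4 : ℤ) : ℝ) = 2 * 2 by norm_num, mul_smul] at h3
  have h4 := smul_right_injective _ (two_ne_zero (α := ℝ)) h3
  have := congrArg (· * toH H) e
  simp only [smul_mul_assoc] at this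
  rw [mul_assoc, h4, mul_smul_comm, mul_one, smul_smul] at this
  rw [toH_mul2, toH_smul]
  apply smul_right_injective _ (two_ne_zero (α := ℝ))
  simp only [smul_smul]
  rw [show ((2 : ℤ) : ℝ) = (2 : ℝ) by norm_num]
  rw [show ((4 : ℤ) : ℝ) = (2 : ℝ) * 2 by norm_num] at this
  exact this

theorem clsH_lin {D : Q} (h : InL QH D) :
    (2 * D.a2 + 2 * D.a3) % 4 = 0 ∧
    (2 * D.b2 + 2 * D.b3) % 4 = 0 ∧
    (D.a0 + D.a1 + 3 * D.a2 + 3 * D.a3 + 2 * D.b3) % 4 = 0 ∧
    (D.b0 + D.b1 + D.b2 + 2 * D.a3 + 3 * D.b3) % 4 = 0 := by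
  obtain ⟨A, ⟨i1, i2, i3, i4⟩, e⟩ := exists_mul2_of_InL (by decide) h
  simp only [Q.mul2, Q.smul, QH, Q.mk.injEq] at e
  obtain ⟨e0, e1, e2, e3, e4, e5, e6, e7⟩ := e
  refine ⟨?_, ?_, ?_, ?_⟩ <;> omega

theorem clsH_eq {X Y : Q} (h : InL QH (X.sub Y)) : clsH X = clsH Y := by
  obtain ⟨f1, f2, f3, f4⟩ := clsH_lin h
  simp only [Q.sub] at f1 f2 f3 f4
  have m : ∀ {a b c : ℤ}, c % 4 = 0 → a - b = c → a % 4 = b % 4 := fun hc e => by omega
  have g1 : (2 * X.a2 + 2 * X.a3) % 4 =
      (2 * Y.a2 + 2 * Y.a3) % 4 := m f1 (by ring)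
  have g2 : (2 * X.b2 + 2 * X.b3) % 4 =
      (2 * Y.b2 + 2 * Y.b3) % 4 := m f2 (by ring)
  have g3 : (X.a0 + X.a1 + 3 * X.a2 + 3 * X.a3 + 2 * X.b3) % 4 =
      (Y.a0 + Y.a1 + 3 * Y.a2 + 3 * Y.a3 + 2 * Y.b3) % 4 := m f3 (by ring)
  have g4 : (X.b0 + X.b1 + X.b2 + 2 * X.a3 + 3 * X.b3) % 4 =
      (Y.b0 + Y.b1 + Y.b2 + 2 * Y.a3 + 3 * Y.b3) % 4 := m f4 (by ring)
  simp only [clsH, g1, g2, g3, g4]

set_option maxHeartbeats 1600000 in
theorem clsHc_lin {D : Q} (h : InL QH.conj D) :
    (D.a0 + 2 * D.a2 + 3 * D.b2 + 3 * D.a3 + 3 * D.b3) % 4 = 0 ∧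
    (D.b0 + 3 * D.a2 + D.b2 + 3 * D.a3 + 2 * D.b3) % 4 = 0 ∧
    (D.b0 + D.b1 + 3 * D.b2 + 2 * D.a3 + 3 * D.b3) % 4 = 0 ∧
    (D.a1 + D.a2 + D.b2 + 2 * D.a3 + 3 * D.b3) % 4 = 0 := by
  obtain ⟨A, ⟨i1, i2, i3, i4⟩, e⟩ := exists_mul2_of_InL (by decide) h
  simp only [Q.mul2, Q.smul, Q.conj, QH, Q.mk.injEq] at e
  obtain ⟨e0, e1, e2, e3, e4, e5, e6, e7⟩ := e
  refine ⟨?_, ?_, ?_, ?_⟩ <;> omega

theorem clsHc_eq {X Y : Q} (h : InL QH.conj (X.sub Y)) : clsHc X = clsHc Y := by
  obtain ⟨f1, f2, f3, f4⟩ := clsHc_lin h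
  simp only [Q.sub] at f1 f2 f3 f4
  have m : ∀ {a b c : ℤ}, c % 4 = 0 → a - b = c → a % 4 = b % 4 := fun hc e => by omega
  have g1 : (X.a0 + 2 * X.a2 + 3 * X.b2 + 3 * X.a3 + 3 * X.b3) % 4 =
      (Y.a0 + 2 * Y.a2 + 3 * Y.b2 + 3 * Y.a3 + 3 * Y.b3) % 4 := m f1 (by ring)
  have g2 : (X.b0 + 3 * X.a2 + X.b2 + 3 * X.a3 + 2 * X.b3) % 4 =
      (Y.b0 + 3 * Y.a2 + Y.b2 + 3 * Y.a3 + 2 * Y.b3) % 4 := m f2 (by ring)
  have g3 : (X.b0 + X.b1 + 3 * X.b2 + 2 * X.a3 + 3 * X.b3) % 4 =
      (Y.b0 + Y.b1 + 3 * Y.b2 + 2 * Y.a3 + 3 * Y.b3) % 4 := m f3 (by ring)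
  have g4 : (X.a1 + X.a2 + X.b2 + 2 * X.a3 + 3 * X.b3) % 4 =
      (Y.a1 + Y.a2 + Y.b2 + 2 * Y.a3 + 3 * Y.b3) % 4 := m f4 (by ring)
  simp only [clsHc, g1, g2, g3, g4]

/-- The key of a table entry. -/
def kK (t : ℕ) : ℕ := t % 1099511627776

/-- The class modulo `I h` of a table entry. -/
def kH (t : ℕ) : ℕ := t / 1099511627776 % 256

/-- The class modulo `I h̄` of a table entry. -/
def kC (t : ℕ) : ℕ := t / 281474976710656 % 256

/-- The norm code of a table entry. -/
def kN (t : ℕ) : ℕ := t / 72057594037927936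

theorem clsH_lt (X : Q) : clsH X < 256 := by simp only [clsH]; omega

theorem clsHc_lt (X : Q) : clsHc X < 256 := by simp only [clsHc]; omega

theorem pack_fields {X : Q} (h : X ∈ enum) : kK (pack X) = key X ∧ kH (pack X) = clsH X ∧
    kC (pack X) = clsHc X ∧ kN (pack X) = ncode X.nrm := by
  have := key_lt (enum_bound h)
  have := clsH_lt X
  have := clsHc_lt X
  simp only [kK, kH, kC, kN, pack]
  omega

theorem pack_mem {X : Q} (h : X ∈ enum) : pack X ∈ tabData := by
  rw [← enum_pack]; exact List.mem_map_of_mem h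

/-- The norm codes. -/
def ncodes : List ℕ := [16, 144, 148, 268, 272, 276, 396, 400, 528]

/-- The keys of the line vectors. -/
def lineTriples : List (ℕ × ℕ × ℕ) := List.zip lineKeys0 (List.zip lineKeys1 lineKeys2)

/-- A key triple among the lines. -/
def isLine (a b c : ℕ) : Bool :=
  lineTriples.any fun t => Nat.beq t.1 a && Nat.beq t.2.1 b && Nat.beq t.2.2 c

/-- The test for triples with a given first entry and second entries from a list. -/
def checkY (x : Q) (kx : ℕ) (Y Z : List ℕ) : Bool :=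
  Y.all fun ty =>
    let c := clsHc (x.add (unkey (kK ty))).neg
    Z.all fun tz => !(Nat.beq (kC tz) c) || isLine kx (kK ty) (kK tz)

/-- The test for triples with a given first entry. -/
def checkX (x : Q) : Bool :=
  let K := clsH x
  let R := ncode ((16, 0) - x.nrm) + 16
  let Y := tabData.filter fun t => Nat.beq (kH t) K
  ncodes.all fun n => checkY x (key x) (Y.filter fun t => Nat.beq (kN t) n)
    (Y.filter fun t => Nat.beq (kN t + n) R)

/-- The test for triples with first entry zero. -/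
def check0 (y : Q) : Bool :=
  !(Nat.beq (clsH y) (clsH Q.zero)) || checkY Q.zero (key Q.zero) [pack y]
    (tabData.filter fun t => Nat.beq (kH t) (clsH y) && Nat.beq (kN t + ncode y.nrm) 544)

/-- The test for triples with the first two entries zero. -/
def check00 (z : Q) : Bool :=
  decide (InLat ⟨Q.zero, Q.zero, z⟩ ∧ z.nrm = (16, 0) → (⟨Q.zero, Q.zero, z⟩ : V) ∈ lines)

set_option maxRecDepth 100000 in
theorem ncodes_mem : (tabData.all fun t => ncodes.any (Nat.beq (kN t))) = true := by decide +kernel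

set_option maxRecDepth 100000 in
theorem checkX_reps : reps.all checkX = true := by decide +kernel

set_option maxRecDepth 100000 in
theorem check0_reps : reps.all check0 = true := by decide +kernel

theorem check00_reps : reps.all check00 = true := by decide +kernel

theorem reps_bound : ∀ r ∈ reps, unkey (key r) = r := by decide +kernel

theorem zipWith_mem {a b c : ℕ} {l0 l1 l2 : List ℕ}
    (h : (a, b, c) ∈ List.zip l0 (List.zip l1 l2)) :
    (⟨unkey a, unkey b, unkey c⟩ : V) ∈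
      List.zipWith (fun a (p : ℕ × ℕ) => (⟨unkey a, unkey p.1, unkey p.2⟩ : V)) l0 (List.zip l1 l2) := by
  rw [← List.map_uncurry_zip_eq_zipWith]
  exact List.mem_map.2 ⟨(a, b, c), h, rfl⟩

theorem mem_lines_of_isLine {x y z : Q} (hx : unkey (key x) = x) (hy : unkey (key y) = y)
    (hz : unkey (key z) = z) (h : isLine (key x) (key y) (key z) = true) :
    (⟨x, y, z⟩ : V) ∈ lines := by
  simp only [isLine, List.any_eq_true, Bool.and_eq_true] at h
  obtain ⟨⟨a, b, c⟩, hmem, ⟨ha, hb⟩, hc⟩ := h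
  have ea : a = key x := Nat.eq_of_beq_eq_true ha
  have eb : b = key y := Nat.eq_of_beq_eq_true hb
  have ec : c = key z := Nat.eq_of_beq_eq_true hc
  subst ea eb ec
  have := zipWith_mem hmem
  rwa [hx, hy, hz] at this

theorem checkY_spec {x y z : Q} {kx : ℕ} {Y Z : List ℕ} (h : checkY x kx Y Z = true)
    (my : y ∈ enum) (mz : z ∈ enum) (hY : pack y ∈ Y) (hZ : pack z ∈ Z)
    (hc : clsHc z = clsHc (x.add y).neg) : isLine kx (key y) (key z) = true := by
  simp only [checkY, List.all_eq_true, Bool.or_eq_true, Bool.not_eq_true'] at h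
  have h' := h _ hY _ hZ
  obtain ⟨e1, -, -, -⟩ := pack_fields my
  obtain ⟨e2, -, e3, -⟩ := pack_fields mz
  rw [e1, e2, e3, unkey_key (enum_bound my), hc] at h'
  rcases h' with h' | h'
  · exact absurd h' (by simp)
  · exact h'

/-! ### the module structure -/

theorem mul_mem_leftIdeal {u x q : ℍ[ℝ]} (hu : u ∈ icosians) (hx : x ∈ leftIdeal q) :
    u * x ∈ leftIdeal q := by
  obtain ⟨a, ha, rfl⟩ := hx
  exact ⟨u * a, icosians.mul_mem hu ha, by rw [mul_assoc]⟩

theorem icoLeech_lmul {u : ℍ[ℝ]} (hu : u ∈ icosians) {r : Fin 3 → ℍ[ℝ]} (hr : r ∈ icoLeech) :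
    (fun t => u * r t) ∈ icoLeech := by
  obtain ⟨h0, h1, h2, h3⟩ := hr
  refine ⟨fun t => icosians.mul_mem hu (h0 t), ?_, ?_, ?_⟩
  · rw [← mul_sub]; exact mul_mem_leftIdeal hu h1
  · rw [← mul_sub]; exact mul_mem_leftIdeal hu h2
  · rw [← mul_add, ← mul_add]; exact mul_mem_leftIdeal hu h3

theorem qip_lmul (u : ℍ[ℝ]) (x r : Fin 3 → ℍ[ℝ]) :
    qip (fun t => u * x t) r = u * qip x r := by
  simp only [qip, Finset.mul_sum, mul_assoc]

theorem qip_lmul_right (u : ℍ[ℝ]) (x r : Fin 3 → ℍ[ℝ]) :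
    qip x (fun t => u * r t) = qip x r * star u := by
  simp only [qip, Finset.sum_mul, star_mul, mul_assoc]

theorem qip_lmul_self {u : ℍ[ℝ]} (hu : u * star u = 1) {r : Fin 3 → ℍ[ℝ]} (hr : qip r r = 4) :
    qip (fun t => u * r t) (fun t => u * r t) = 4 := by
  rw [qip_lmul, qip_lmul_right, hr, show (4 : ℍ[ℝ]) = ((4 : ℝ) : ℍ[ℝ]) by ext <;> rfl,
    ← mul_assoc, ← Quaternion.coe_commutes, mul_assoc, hu, mul_one]

theorem unit_mul_star {U : Q} (h : U ∈ units) :
    toH U * star (toH U) = 1 ∧ star (toH U) * toH U = 1 := ⟨unit_star h, star_unit h⟩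

/-! ### every minimal vector is a unit times a line vector -/

theorem nrm_eq_zero {X : Q} (h : X.nrm = (0, 0)) : X = Q.zero := by
  have h0 := toH_nrm X
  rw [h] at h0
  simp at h0
  exact toH_injective (by rw [h0, toH_zero])

theorem psd_nrm (X : Q) : Psd X.nrm := by
  rw [nrm_eq_sum]
  exact (((psd_sq X.a3 X.b3).add (psd_sq X.a2 X.b2)).add (psd_sq X.a1 X.b1)).add (psd_sq X.a0 X.b0)

theorem ncode_add {p q r : ℤ × ℤ} (hp : Psd p) (hq : Psd q) (hr : Psd r)
    (h : p + q + r = (16, 0)) :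
    ncode q + ncode r = ncode ((16, 0) - p) + 16 := by
  have b1 : ∀ {a : ℤ × ℤ}, Psd a → a.1 ≤ 16 → 0 ≤ a.1 → -16 ≤ a.2 := fun {a} ha h1 h0 => by
    nlinarith [ha.1, ha.2]
  have nn : ∀ {a : ℤ × ℤ}, Psd a → 0 ≤ a.1 := fun {a} ha => by
    nlinarith [ha.1, ha.2]
  have := nn hp
  have := nn hq
  have := nn hr
  have h1 : p.1 + q.1 + r.1 = 16 := congrArg Prod.fst h
  have h2 : p.2 + q.2 + r.2 = 0 := congrArg Prod.snd h
  have := b1 hq (by omega) (nn hq)
  have := b1 hr (by omega) (nn hr)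
  have hqr := b1 (hq.add hr) (by simp; omega) (by simp; omega)
  simp only [Prod.snd_add] at hqr
  simp only [ncode, Prod.fst_sub, Prod.snd_sub]
  omega

theorem normalized_mem {v : V} (hv : InLat v) (hn : v.nrm = (16, 0))
    (hf : v.x ∈ reps ∨ (v.x = Q.zero ∧ v.y ∈ reps) ∨ (v.x = Q.zero ∧ v.y = Q.zero ∧ v.z ∈ reps)) :
    v ∈ lines := by
  obtain ⟨x, y, z⟩ := v
  have hx := psd_nrm x
  have hy := psd_nrm y
  have hz := psd_nrm z
  have hsum : x.nrm + y.nrm + z.nrm = (16, 0) := hn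
  have my : y ∈ enum := mem_enum hv.2.1 (by
    have e : ((16, 0) : ℤ × ℤ) - y.nrm = x.nrm + z.nrm := by rw [← hsum]; abel
    rw [e]; exact hx.add hz)
  have mz : z ∈ enum := mem_enum hv.2.2.1 (by
    have e : ((16, 0) : ℤ × ℤ) - z.nrm = x.nrm + y.nrm := by rw [← hsum]; abel
    rw [e]; exact hx.add hy)
  have hby := unkey_key (enum_bound my)
  have hbz := unkey_key (enum_bound mz)
  have c1 : clsH x = clsH y := clsH_eq hv.2.2.2.1
  have c2 : clsH y = clsH z := clsH_eq hv.2.2.2.2.1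
  have c3 : clsHc z = clsHc (x.add y).neg := clsHc_eq (by
    have e : z.sub (x.add y).neg = (x.add y).add z := by
      ext <;> simp [Q.sub, Q.add, Q.neg] <;> ring
    rw [e]; exact hv.2.2.2.2.2)
  have hN := ncode_add hx hy hz hsum
  obtain ⟨-, eyH, -, eyN⟩ := pack_fields my
  obtain ⟨-, ezH, -, ezN⟩ := pack_fields mz
  rcases hf with hxr | ⟨hx0, hyr⟩ | ⟨hx0, hy0, hzr⟩
  · have hc := List.all_eq_true.1 checkX_reps x hxr
    simp only [checkX, List.all_eq_true] at hc
    obtain ⟨n, hn', hne⟩ := List.any_eq_true.1 (List.all_eq_true.1 ncodes_mem _ (pack_mem my))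
    have hne' := Nat.eq_of_beq_eq_true hne
    refine mem_lines_of_isLine (reps_bound x hxr) hby hbz
      (checkY_spec (hc n hn') my mz ?_ ?_ c3)
    · simp only [List.mem_filter, pack_mem my, eyH, ← c1, ← hne', Nat.beq_refl,
        and_self]
    · simp only [List.mem_filter, pack_mem mz, true_and, ezH, ← c2, ← c1, ← hne', ezN, eyN,
        Nat.beq_refl, true_and]
      rw [add_comm, hN, Nat.beq_refl]
  · simp only at hx0
    subst hx0
    have hc := List.all_eq_true.1 check0_reps y hyr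
    simp only [check0, ← c1, Nat.beq_refl, Bool.not_true, Bool.false_or] at hc
    refine mem_lines_of_isLine (by decide) hby hbz
      (checkY_spec hc my mz (List.mem_singleton_self _) ?_ c3)
    simp only [List.mem_filter, pack_mem mz, true_and, ezH, ← c2, ← c1, ezN, Nat.beq_refl,
      Bool.true_and]
    rw [add_comm, hN]
    decide
  · simp only at hx0 hy0
    subst hx0 hy0
    have hc := List.all_eq_true.1 check00_reps z hzr
    simp only [check00, decide_eq_true_eq] at hc
    exact hc ⟨hv, by rw [← hsum, show Q.zero.nrm = 0 from rfl]; abel⟩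

theorem exists_line {r : Fin 3 → ℍ[ℝ]} (hr : r ∈ icoLeech) (hn : qip r r = 4) :
    ∃ U ∈ units, ∃ i, r = fun t => toH U * toV (lineV i) t := by
  obtain ⟨v, hv, rfl⟩ := mem_icoLeech_iff.1 hr
  have hn' := (minimal_iff v).1 hn
  obtain ⟨F, hF, hFv, hF0⟩ : ∃ F, (v.x = F ∨ (v.x = Q.zero ∧ v.y = F) ∨
      (v.x = Q.zero ∧ v.y = Q.zero ∧ v.z = F)) ∧ F ≠ Q.zero ∧ InI F ∧ Psd ((16, 0) - F.nrm) := by
    have hsum : v.x.nrm + v.y.nrm + v.z.nrm = (16, 0) := hn'
    by_cases hx : v.x = Q.zero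
    · by_cases hy : v.y = Q.zero
      · refine ⟨v.z, Or.inr (Or.inr ⟨hx, hy, rfl⟩), fun hz => ?_, hv.2.2.1, ?_⟩
        · rw [hx, hy, hz] at hsum; exact absurd hsum (by decide)
        · rw [← hsum, show v.x.nrm + v.y.nrm + v.z.nrm - v.z.nrm = v.x.nrm + v.y.nrm by abel]
          exact (psd_nrm _).add (psd_nrm _)
      · refine ⟨v.y, Or.inr (Or.inl ⟨hx, rfl⟩), hy, hv.2.1, ?_⟩
        rw [← hsum, show v.x.nrm + v.y.nrm + v.z.nrm - v.y.nrm = v.x.nrm + v.z.nrm by abel]
        exact (psd_nrm _).add (psd_nrm _)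
    · refine ⟨v.x, Or.inl rfl, hx, hv.1, ?_⟩
      rw [← hsum, show v.x.nrm + v.y.nrm + v.z.nrm - v.x.nrm = v.y.nrm + v.z.nrm by abel]
      exact (psd_nrm _).add (psd_nrm _)
  obtain ⟨U, hU, R, hR, hUR⟩ := mem_short hF0.1 hF0.2 hFv
  obtain ⟨w, hw, ew⟩ := mem_icoLeech_iff.1 (icoLeech_lmul (star_unit_mem hU) hr)
  have hwn : w.nrm = (16, 0) := by
    rw [← minimal_iff, ew]
    exact qip_lmul_self (by rw [star_star]; exact (unit_mul_star hU).2) hn
  have hFR : star (toH U) * toH F = toH R := by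
    rw [← hUR, ← mul_assoc, (unit_mul_star hU).2, one_mul]
  have e0 : toH w.x = star (toH U) * toH v.x := congrFun ew 0
  have e1 : toH w.y = star (toH U) * toH v.y := congrFun ew 1
  have e2 : toH w.z = star (toH U) * toH v.z := congrFun ew 2
  have hwl : w ∈ lines := by
    refine normalized_mem hw hwn ?_
    rcases hF with h | ⟨h, h'⟩ | ⟨h, h', h''⟩
    · left
      rwa [toH_injective (e0.trans (by rw [h, hFR]))]
    · right; left
      refine ⟨toH_injective (by rw [e0, h, toH_zero, mul_zero]), ?_⟩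
      rwa [toH_injective (e1.trans (by rw [h', hFR]))]
    · right; right
      refine ⟨toH_injective (by rw [e0, h, toH_zero, mul_zero]),
        toH_injective (by rw [e1, h', toH_zero, mul_zero]), ?_⟩
      rwa [toH_injective (e2.trans (by rw [h'', hFR]))]
  obtain ⟨i, hi⟩ := exists_lineV hwl
  refine ⟨U, hU, i, ?_⟩
  funext t
  rw [hi, ew]
  show toV v t = toH U * (star (toH U) * toV v t)
  rw [← mul_assoc, (unit_mul_star hU).1, one_mul]

/-! ### uniqueness -/

/-- Packed invariant of a line: the products `r̄_f r_k` for the first non-zero coordinate `r_f`. -/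
def inv (v : V) : V :=
  let f := if v.x = Q.zero then (if v.y = Q.zero then v.z else v.y) else v.x
  ⟨f.conj.mul2 v.x, f.conj.mul2 v.y, f.conj.mul2 v.z⟩

theorem inv_code_nodup : (lines.map fun v =>
    let w := inv v
    (key w.x, key w.y, key w.z)).Nodup := by decide +kernel

theorem inv_nodup : (lines.map inv).Nodup := by
  have h := inv_code_nodup
  rw [show (lines.map fun v => let w := inv v; (key w.x, key w.y, key w.z)) =
    (lines.map inv).map (fun w => (key w.x, key w.y, key w.z)) by rw [List.map_map]; rfl] at h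
  exact h.of_map _

theorem inv_lmul {q : ℍ[ℝ]} (hq : star q * q = 1) {v w : V}
    (h : ∀ t, toV w t = q * toV v t) : inv w = inv v := by
  have hq0 : q ≠ 0 := fun e => by simp [e] at hq
  have hx : toH w.x = q * toH v.x := h 0
  have hy : toH w.y = q * toH v.y := h 1
  have hz : toH w.z = q * toH v.z := h 2
  have iff0 : ∀ {X Y : Q}, toH X = q * toH Y → (X = Q.zero ↔ Y = Q.zero) := fun {X Y} e => by
    constructor
    · intro h0; rw [h0, toH_zero, zero_eq_mul] at e
      exact toH_injective (by rw [e.resolve_left hq0, toH_zero])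
    · intro h0; rw [h0, toH_zero, mul_zero] at e
      exact toH_injective (by rw [e, toH_zero])
  have key : ∀ {F G X Y : Q}, toH F = q * toH G → toH X = q * toH Y →
      F.conj.mul2 X = G.conj.mul2 Y := fun {F G X Y} eF eX => toH_injective (by
    rw [toH_mul2, toH_mul2, toH_conj, toH_conj, eF, eX, star_mul, mul_assoc, ← mul_assoc (star q),
      hq, one_mul])
  have hf : toH (if w.x = Q.zero then (if w.y = Q.zero then w.z else w.y) else w.x) =
      q * toH (if v.x = Q.zero then (if v.y = Q.zero then v.z else v.y) else v.x) := by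
    simp only [iff0 hx, iff0 hy]
    split
    · split
      · exact hz
      · exact hy
    · exact hx
  simp only [inv, V.mk.injEq]
  exact ⟨key hf hx, key hf hy, key hf hz⟩

theorem line_unique {q : ℍ[ℝ]} (hq : star q * q = 1) {i j : Fin 315}
    (h : ∀ t, toV (lineV j) t = q * toV (lineV i) t) : j = i := by
  have e := inv_lmul hq h
  have hlen : ∀ k : Fin 315, k.val < (lines.map inv).length := fun k => by
    rw [List.length_map, length_lines]; exact k.2
  have hget : ∀ k : Fin 315, (lines.map inv)[k.val]'(hlen k) = inv (lineV k) := fun k => by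
    rw [List.getElem_map, lineV, List.getD_eq_getElem]
  exact Fin.ext ((List.Nodup.getElem_inj_iff inv_nodup).1 (by rw [hget, hget, e]))

theorem lineV_ne_zero (i : Fin 315) : ∃ t, toV (lineV i) t ≠ 0 := by
  by_contra! h
  have hn := (lines_spec _ (lineV_mem i)).2
  have : lineV i = V.zero := toV_injective (by rw [toV_zero]; exact funext h)
  rw [this] at hn
  exact absurd hn (by decide)

theorem lineV_mem_icoLeech (i : Fin 315) : toV (lineV i) ∈ icoLeech :=
  toV_mem (lines_spec _ (lineV_mem i)).1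

theorem qip_lineV (i : Fin 315) : qip (toV (lineV i)) (toV (lineV i)) = 4 :=
  (minimal_iff _).2 (lines_spec _ (lineV_mem i)).2

/-- The minimal vectors are the pairs of a unit and a line. -/
noncomputable def minimalEquiv :
    {U // U ∈ units} × Fin 315 ≃ {r : Fin 3 → ℍ[ℝ] // r ∈ icoLeech ∧ qip r r = 4} :=
  Equiv.ofBijective
    (fun p => ⟨fun t => toH p.1.1 * toV (lineV p.2) t,
      icoLeech_lmul (toH_mem_icosians (units_spec _ p.1.2).1) (lineV_mem_icoLeech _),
      qip_lmul_self (unit_mul_star p.1.2).1 (qip_lineV _)⟩)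
    ⟨by
      rintro ⟨⟨U, hU⟩, i⟩ ⟨⟨U', hU'⟩, j⟩ h
      have h' : ∀ t, toH U * toV (lineV i) t = toH U' * toV (lineV j) t :=
        congrFun (congrArg Subtype.val h)
      have hq : ∀ t, toV (lineV j) t = star (toH U') * toH U * toV (lineV i) t := fun t => by
        rw [mul_assoc, h' t, ← mul_assoc, (unit_mul_star hU').2, one_mul]
      have hji : j = i := line_unique (by
        rw [star_mul, star_star, mul_assoc, ← mul_assoc (toH U'), (unit_mul_star hU').1, one_mul,
          (unit_mul_star hU).2]) hq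
      subst hji
      obtain ⟨t, ht⟩ := lineV_ne_zero j
      have := toH_injective (mul_right_cancel₀ ht (h' t))
      subst this
      rfl,
    fun ⟨r, hr, hn⟩ => by
      obtain ⟨U, hU, i, e⟩ := exists_line hr hn
      exact ⟨(⟨U, hU⟩, i), Subtype.ext e.symm⟩⟩

theorem card_minimal : {r : Fin 3 → ℍ[ℝ] | r ∈ icoLeech ∧ qip r r = 4}.ncard = 37800 := by
  rw [← Nat.card_coe_set_eq]
  refine (Nat.card_congr minimalEquiv).symm.trans ?_
  rw [Nat.card_prod, Nat.card_fin]
  have : Nat.card {U // U ∈ units} = 120 := by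
    rw [← Nat.card_congr (List.Nodup.getEquiv units units_nodup), Nat.card_fin, length_units]
  rw [this]

end Cfsg.Agent.Ico
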