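import Cfsg.Agent.Lib.Icosian.Lines
import Cfsg.Agent.Lib.Icosian.ReflData

/-!
# The 315 reflections

* `forceQ`, `forceV` : evaluation to literals in the kernel
* `qrefl_add`, `qrefl_lmul`, `qip_qrefl`, `qrefl_conj`, `qrefl_unit` : calculus of reflections
* `reflPerm i` : the reflection of the `i`-th line, `isIcoReflection_iff`, `reflPerm_injective`,
  `card_reflections`
* `genImg`, `refl_gen_line`, `reflPerm_transitive` : transitivity by conjugation
-/

set_option autoImplicit false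

namespace Cfsg.Agent.Ico

open Cfsg.Spor Quaternion

/-- Vectors of `ℍ³`. -/
abbrev H3 : Type := Fin 3 → ℍ[ℝ]

/-- Evaluates an integer to a literal before calling `f`. -/
def fz {α : Type} (v : ℤ) (f : ℤ → α) : α :=
  match v with
  | Int.ofNat n => (match n with
    | 0 => f 0
    | m + 1 => f (Int.ofNat (m + 1)))
  | Int.negSucc n => (match n with
    | 0 => f (Int.negSucc 0)
    | m + 1 => f (Int.negSucc (m + 1)))

theorem fz_eq {α : Type} (v : ℤ) (f : ℤ → α) : fz v f = f v := by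
  unfold fz
  rcases v with n | n <;> cases n <;> rfl

/-- Evaluates a quaternion to literals before calling `f`. -/
def forceQ {α : Type} (X : Q) (f : Q → α) : α :=
  fz X.a0 fun a0 => fz X.b0 fun b0 => fz X.a1 fun a1 => fz X.b1 fun b1 =>
  fz X.a2 fun a2 => fz X.b2 fun b2 => fz X.a3 fun a3 => fz X.b3 fun b3 =>
  f ⟨a0, b0, a1, b1, a2, b2, a3, b3⟩

theorem forceQ_eq {α : Type} (X : Q) (f : Q → α) : forceQ X f = f X := by simp [forceQ, fz_eq]

/-- Evaluates a vector to literals before calling `f`. -/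
def forceV {α : Type} (v : V) (f : V → α) : α :=
  forceQ v.x fun x => forceQ v.y fun y => forceQ v.z fun z => f ⟨x, y, z⟩

theorem forceV_eq {α : Type} (v : V) (f : V → α) : forceV v f = f v := by simp [forceV, forceQ_eq]

theorem qip_add_left (x y r : H3) : qip (x + y) r = qip x r + qip y r := by
  simp [qip, add_mul, Finset.sum_add_distrib]

theorem qip_sub_left (x y r : H3) : qip (x - y) r = qip x r - qip y r := by
  simp [qip, sub_mul, Finset.sum_sub_distrib]

theorem star_qip (x r : H3) : star (qip x r) = qip r x := by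
  simp [qip, star_sum, star_mul]

theorem qip_sub_right (x r s : H3) : qip x (r - s) = qip x r - qip x s := by
  rw [← star_qip, qip_sub_left, star_sub, star_qip, star_qip]

theorem qrefl_eq (r x : H3) : qrefl r x = x - fun t => ((1 / 2 : ℝ) • qip x r) * r t := rfl

theorem qrefl_add (r x y : H3) : qrefl r (x + y) = qrefl r x + qrefl r y := by
  funext t
  simp only [qrefl, qip_add_left, Pi.add_apply, smul_add, add_mul]
  abel

theorem qrefl_sub (r x y : H3) : qrefl r (x - y) = qrefl r x - qrefl r y := by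
  funext t
  simp only [qrefl, qip_sub_left, Pi.sub_apply, smul_sub, sub_mul]
  abel

theorem qrefl_lmul (r : H3) (u : ℍ[ℝ]) (x : H3) :
    qrefl r (fun t => u * x t) = fun t => u * qrefl r x t := by
  funext t
  simp only [qrefl, qip_lmul, mul_sub, smul_mul_assoc, mul_smul_comm, mul_assoc]

theorem qip_qrefl {s : H3} (hs : qip s s = 4) (a b : H3) :
    qip (qrefl s a) (qrefl s b) = qip a b := by
  rw [qrefl_eq, qrefl_eq, qip_sub_left, qip_sub_right, qip_sub_right, qip_lmul, qip_lmul_right,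
    qip_lmul, qip_lmul_right, hs, Quaternion.star_smul, star_qip,
    show (4 : ℍ[ℝ]) = ((4 : ℝ) : ℍ[ℝ]) by ext <;> rfl, Quaternion.coe_mul_eq_smul,
    mul_smul_comm]
  simp only [smul_mul_assoc, mul_smul_comm, smul_smul]
  module

theorem qrefl_self {r : H3} (hr : qip r r = 4) : qrefl r r = -r := by
  funext t
  simp only [qrefl, hr, Pi.neg_apply]
  rw [show ((1 / 2 : ℝ) • (4 : ℍ[ℝ])) = ((2 : ℝ) : ℍ[ℝ]) by
    rw [show (4 : ℍ[ℝ]) = ((4 : ℝ) : ℍ[ℝ]) by ext <;> rfl, Quaternion.smul_coe]; norm_num,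
    Quaternion.coe_mul_eq_smul]
  module

theorem qrefl_involutive {r : H3} (hr : qip r r = 4) (x : H3) : qrefl r (qrefl r x) = x := by
  have e := qrefl_eq r x
  conv_lhs => rw [e, qrefl_sub, qrefl_lmul, qrefl_self hr]
  funext t
  simp only [Pi.sub_apply, Pi.neg_apply, qrefl, mul_neg]
  abel

theorem qrefl_conj {s r : H3} (hs : qip s s = 4) (x : H3) :
    qrefl s (qrefl r (qrefl s x)) = qrefl (qrefl s r) x := by
  rw [qrefl_eq r, qrefl_sub, qrefl_involutive hs, qrefl_lmul]
  have : qip (qrefl s x) r = qip x (qrefl s r) := by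
    conv_lhs => rw [← qrefl_involutive hs r, qip_qrefl hs]
  rw [this, qrefl_eq (qrefl s r)]

theorem qrefl_unit {u : ℍ[ℝ]} (hu : star u * u = 1) (r x : H3) :
    qrefl (fun t => u * r t) x = qrefl r x := by
  funext t
  simp only [qrefl, qip_lmul_right, smul_mul_assoc, mul_assoc]
  rw [← mul_assoc (star u), hu, one_mul]

/-! ### three vectors generating the lattice as a module -/

/-- Generators of the lattice over the icosians. -/
def basisV : List V :=
  [⟨Q.one, Q.one, ⟨-3, 0, -1, 0, 1, -2, 1, 0⟩⟩, ⟨Q.zero, QH, ⟨-3, 0, -1, 0, 1, 0, -1, 2⟩⟩,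
    ⟨Q.zero, Q.zero, ⟨4, 0, 0, 0, 0, 0, 0, 0⟩⟩]

theorem basisV_mem : ∀ v ∈ basisV, InLat v := by decide

theorem inter_two {Z : Q} (hI : InI Z) (h1 : InL QH Z.neg) (h2 : InL QH.conj Z) :
    InI (Z.div 2) ∧ Q.Dvd' 2 Z := by
  obtain ⟨a1, a2, a3, a4⟩ := clsH_lin h1
  obtain ⟨b1, b2, b3, b4⟩ := clsHc_lin h2
  simp only [Q.neg] at a1 a2 a3 a4
  obtain ⟨i1, i2, i3, i4⟩ := hI
  simp only [InI, Q.div, Q.Dvd']
  omega

theorem module_induction {P : H3 → Prop} (hb : ∀ v ∈ basisV, P (toV v))
    (hadd : ∀ x y, P x → P y → P (x + y))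
    (hmul : ∀ u ∈ icosians, ∀ x, P x → P (fun t => u * x t)) {x : H3} (hx : x ∈ icoLeech) : P x := by
  obtain ⟨hI, h1, h2, h3⟩ := hx
  obtain ⟨a, ha, ea⟩ : ∃ a ∈ icosians, a = x 0 := ⟨_, hI 0, rfl⟩
  -- second coordinate
  have hb0 := toV_mem (basisV_mem ⟨Q.one, Q.one, ⟨-3, 0, -1, 0, 1, -2, 1, 0⟩⟩ (by simp [basisV]))
  have hx' : x - (fun t => x 0 * toV ⟨Q.one, Q.one, ⟨-3, 0, -1, 0, 1, -2, 1, 0⟩⟩ t) ∈ icoLeech := by
    refine sub_mem_icoLeech ⟨hI, h1, h2, h3⟩ (icoLeech_lmul (hI 0) hb0)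
  set y := x - (fun t => x 0 * toV ⟨Q.one, Q.one, ⟨-3, 0, -1, 0, 1, -2, 1, 0⟩⟩ t) with hy
  have hy0 : y 0 = 0 := by simp [hy, toV]
  obtain ⟨b, hb', eb⟩ : ∃ b ∈ icosians, y 1 = b * icoH := by
    obtain ⟨hyI, hy1, hy2, hy3⟩ := hx'
    rw [hy0, zero_sub] at hy1
    obtain ⟨c, hc, ec⟩ := hy1
    exact ⟨-c, icosians.neg_mem hc, by rw [neg_mul, ← ec, neg_neg]⟩
  have hb1 := toV_mem (basisV_mem ⟨Q.zero, QH, ⟨-3, 0, -1, 0, 1, 0, -1, 2⟩⟩ (by simp [basisV]))
  have hz' : y - (fun t => b * toV ⟨Q.zero, QH, ⟨-3, 0, -1, 0, 1, 0, -1, 2⟩⟩ t) ∈ icoLeech :=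
    sub_mem_icoLeech hx' (icoLeech_lmul hb' hb1)
  set z := y - (fun t => b * toV ⟨Q.zero, QH, ⟨-3, 0, -1, 0, 1, 0, -1, 2⟩⟩ t) with hz
  have hz0 : z 0 = 0 := by simp [hz, hy0, toV]
  have hz1 : z 1 = 0 := by simp [hz, eb, toV, toH_QH]
  obtain ⟨w, hw, ew⟩ := mem_icoLeech_iff.1 hz'
  have wx : w.x = Q.zero := toH_injective (by rw [toH_zero, ← hz0, ← ew]; rfl)
  have wy : w.y = Q.zero := toH_injective (by rw [toH_zero, ← hz1, ← ew]; rfl)
  obtain ⟨hwx, hwy, hwz, -, h5, h6⟩ := hw
  rw [wy] at h5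
  rw [wx, wy] at h6
  rw [show Q.zero.sub w.z = w.z.neg by ext <;> simp [Q.sub, Q.zero, Q.neg]] at h5
  rw [show (Q.zero.add Q.zero).add w.z = w.z by ext <;> simp [Q.add, Q.zero]] at h6
  obtain ⟨hC, hd⟩ := inter_two hwz h5 h6
  have hwz' : z = fun t => toH (w.z.div 2) * toV ⟨Q.zero, Q.zero, ⟨4, 0, 0, 0, 0, 0, 0, 0⟩⟩ t := by
    have e4 : toH ⟨4, 0, 0, 0, 0, 0, 0, 0⟩ = ((2 : ℝ) : ℍ[ℝ]) := by
      ext <;> simp [toH_re, toH_imI, toH_imJ, toH_imK]
      norm_num
    have e2 := congrArg toH (Q.smul_div hd)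
    rw [toH_smul, Int.cast_ofNat] at e2
    funext t
    rw [← ew]
    fin_cases t <;> simp [toV, wx, wy, e4, Quaternion.mul_coe_eq_smul, e2]
  have hxsum : x = (fun t => x 0 * toV ⟨Q.one, Q.one, ⟨-3, 0, -1, 0, 1, -2, 1, 0⟩⟩ t) +
      ((fun t => b * toV ⟨Q.zero, QH, ⟨-3, 0, -1, 0, 1, 0, -1, 2⟩⟩ t) + z) := by
    rw [hz, hy]; abel
  rw [hxsum, hwz']
  refine hadd _ _ (hmul _ (hI 0) _ (hb _ (by simp [basisV])))
    (hadd _ _ (hmul _ hb' _ (hb _ (by simp [basisV])))
      (hmul _ (toH_mem_icosians hC) _ (hb _ (by simp [basisV]))))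
where
  sub_mem_icoLeech {x y : H3} (hx : x ∈ icoLeech) (hy : y ∈ icoLeech) : x - y ∈ icoLeech := by
    obtain ⟨a0, a1, a2, a3⟩ := hx
    obtain ⟨b0, b1, b2, b3⟩ := hy
    have key : ∀ {p q h : ℍ[ℝ]}, p ∈ leftIdeal h → q ∈ leftIdeal h → p - q ∈ leftIdeal h := by
      rintro p q h ⟨c, hc, rfl⟩ ⟨d, hd, rfl⟩
      exact ⟨c - d, icosians.sub_mem hc hd, (sub_mul c d h).symm⟩
    refine ⟨fun t => icosians.sub_mem (a0 t) (b0 t), ?_, ?_, ?_⟩
    · convert key a1 b1 using 1; simp only [Pi.sub_apply]; abel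
    · convert key a2 b2 using 1; simp only [Pi.sub_apply]; abel
    · convert key a3 b3 using 1; simp only [Pi.sub_apply]; abel

/-! ### the reflections of the lines -/

/-- The lines of the four generating reflections. -/
def gen (k : Fin 4) : Fin 315 := Fin.ofNat 315 (genLines.getD k.val 0)

/-- The tables of the images of the lines. -/
def genTable (k : Fin 4) : List ℕ :=
  match k with
  | 0 => genImg0
  | 1 => genImg1
  | 2 => genImg2
  | 3 => genImg3

/-- The image of a line under a generator. -/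
def genImg (k : Fin 4) (i : Fin 315) : Fin 315 := Fin.ofNat 315 ((genTable k).getD i.val 0 / 128)

theorem units_star : ∀ u ∈ units, u.conj ∈ units := by decide +kernel

theorem mem_units_star {U : Q} (h : U ∈ units) : ∃ W ∈ units, toH W = star (toH U) :=
  ⟨_, units_star U h, toH_conj U⟩

theorem getD_unit_mem (n : ℕ) : units.getD (n % 120) Q.zero ∈ units := by
  have h : n % 120 < units.length := by rw [length_units]; omega
  rw [List.getD_eq_getElem _ _ h]; exact List.getElem_mem h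

/-- The check for the image of a line. -/
def imgOK (k : Fin 4) (i : Fin 315) : Bool :=
  decide (genImg k (genImg k i) = i) && (decide (genImg k i < i) ||
  forceV (lineV (gen k)) fun G => forceV (lineV i) fun L => forceQ (L.dot2 G) fun d =>
  forceV (G.lmul2 d) fun p => forceV (lineV (genImg k i)) fun J =>
  forceQ (units.getD ((genTable k).getD i.val 0 % 128 % 120) Q.zero) fun u =>
    decide (V.Dvd' 8 p) && decide ((L.sub (p.div 8)).smul 2 = J.lmul2 u))

theorem genImg_ok : ((List.finRange 4).all fun k => (List.finRange 315).all (imgOK k)) = true := by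
  decide +kernel

theorem genImg_genImg (k : Fin 4) (i : Fin 315) : genImg k (genImg k i) = i := by
  have := List.all_eq_true.1 (List.all_eq_true.1 genImg_ok k (List.mem_finRange k)) i
    (List.mem_finRange i)
  simp only [imgOK, Bool.and_eq_true, decide_eq_true_eq] at this
  exact this.1

theorem refl_gen_line_le (k : Fin 4) (i : Fin 315) (hle : i ≤ genImg k i) : ∃ U ∈ units,
    qrefl (toV (lineV (gen k))) (toV (lineV i)) = fun t => toH U * toV (lineV (genImg k i)) t := by
  have := List.all_eq_true.1 (List.all_eq_true.1 genImg_ok k (List.mem_finRange k)) i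
    (List.mem_finRange i)
  simp only [imgOK, Bool.and_eq_true, Bool.or_eq_true, forceV_eq, forceQ_eq,
    decide_eq_true_eq] at this
  obtain ⟨-, h⟩ := this
  obtain ⟨hd, he⟩ := h.resolve_left (not_lt.2 hle)
  refine ⟨_, getD_unit_mem ((genTable k).getD i.val 0 % 128), ?_⟩
  rw [qrefl_toV hd]
  have e := congrArg toV he
  rw [toV_smul, toV_lmul2, Int.cast_ofNat] at e
  exact smul_right_injective _ (two_ne_zero (α := ℝ)) e

theorem refl_gen_line (k : Fin 4) (i : Fin 315) : ∃ U ∈ units,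
    qrefl (toV (lineV (gen k))) (toV (lineV i)) = fun t => toH U * toV (lineV (genImg k i)) t := by
  rcases le_or_gt i (genImg k i) with hle | hlt
  · exact refl_gen_line_le k i hle
  · obtain ⟨U, hU, e⟩ := refl_gen_line_le k (genImg k i) (by rw [genImg_genImg]; exact hlt.le)
    rw [genImg_genImg] at e
    obtain ⟨W, hW, eW⟩ := mem_units_star hU
    refine ⟨W, hW, ?_⟩
    have e2 := congrArg (qrefl (toV (lineV (gen k)))) e
    rw [qrefl_involutive (qip_lineV _), qrefl_lmul] at e2
    funext t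
    rw [eW]
    show _ = star (toH U) * toV (lineV (genImg k i)) t
    rw [congrFun e2 t, ← mul_assoc, star_unit hU, one_mul]

/-- Tree record of a line. -/
def treeParent (j : Fin 315) : Fin 315 := Fin.ofNat 315 (treeData.getD j.val 0 / 32768)

/-- Tree record of a line: the generator. -/
def treeGen (j : Fin 315) : Fin 4 := Fin.ofNat 4 (treeData.getD j.val 0 / 8192)

/-- Tree record of a line: the depth. -/
def treeDepth (j : Fin 315) : ℕ := treeData.getD j.val 0 % 64

theorem tree_check : ∀ j : Fin 315, j.val = rootLine ∨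
    (genImg (treeGen j) (treeParent j) = j ∧ treeDepth (treeParent j) < treeDepth j) := by
  decide +kernel

/-- The check for the image of a basis vector. -/
def basisOK (L v : V) : Bool :=
  forceV L fun L => forceV v fun v => forceQ (v.dot2 L) fun d => forceV (L.lmul2 d) fun p =>
    decide (V.Dvd' 8 p) && forceV (v.sub (p.div 8)) fun w => decide (InLat w)

/-- The line of the root. -/
def root : Fin 315 := Fin.ofNat 315 rootLine

theorem refl_basis_check :
    ((root :: (List.finRange 4).map gen).all fun i => basisV.all (basisOK (lineV i))) = true := by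
  decide +kernel

theorem add_mem_icoLeech {x y : H3} (hx : x ∈ icoLeech) (hy : y ∈ icoLeech) : x + y ∈ icoLeech := by
  obtain ⟨v, hv, rfl⟩ := mem_icoLeech_iff.1 hx
  have h0 : (0 : H3) ∈ icoLeech := toV_zero ▸ toV_mem (by decide : InLat V.zero)
  have := module_induction.sub_mem_icoLeech (toV_mem hv) (module_induction.sub_mem_icoLeech h0 hy)
  simpa using this

theorem qrefl_base_mem {i : Fin 315} (hi : i ∈ root :: (List.finRange 4).map gen) {x : H3}
    (hx : x ∈ icoLeech) : qrefl (toV (lineV i)) x ∈ icoLeech := by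
  refine module_induction (P := fun x => qrefl (toV (lineV i)) x ∈ icoLeech) (fun v hv => ?_)
    (fun x y h h' => ?_) (fun u hu x h => ?_) hx
  · have := List.all_eq_true.1 (List.all_eq_true.1 refl_basis_check i hi) v hv
    simp only [basisOK, forceV_eq, forceQ_eq, Bool.and_eq_true, decide_eq_true_eq] at this
    rw [qrefl_toV this.1]
    exact toV_mem this.2
  · rw [qrefl_add]; exact add_mem_icoLeech h h'
  · rw [qrefl_lmul]; exact icoLeech_lmul hu h

theorem qrefl_gen_conj (k : Fin 4) (i : Fin 315) (x : H3) :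
    qrefl (toV (lineV (gen k))) (qrefl (toV (lineV i)) (qrefl (toV (lineV (gen k))) x)) =
      qrefl (toV (lineV (genImg k i))) x := by
  obtain ⟨U, hU, e⟩ := refl_gen_line k i
  rw [qrefl_conj (qip_lineV _), e, qrefl_unit (star_unit hU)]

theorem eq_root {j : Fin 315} (h : j.val = rootLine) : j = root := Fin.ext (by rw [h]; decide)

theorem qrefl_line_mem (i : Fin 315) {x : H3} (hx : x ∈ icoLeech) :
    qrefl (toV (lineV i)) x ∈ icoLeech := by
  induction h : treeDepth i using Nat.strong_induction_on generalizing i x with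
  | _ d ih =>
    rcases tree_check i with e | ⟨e, hlt⟩
    · exact qrefl_base_mem (by rw [eq_root e]; simp) hx
    · have hg : gen (treeGen i) ∈ root :: (List.finRange 4).map gen := by simp
      rw [← e, ← qrefl_gen_conj]
      exact qrefl_base_mem hg (ih _ (h ▸ hlt) (treeParent i) (qrefl_base_mem hg hx) rfl)

/-- The reflection in the `i`-th line. -/
noncomputable def reflPerm (i : Fin 315) : Equiv.Perm icoLeech where
  toFun x := ⟨qrefl (toV (lineV i)) x, qrefl_line_mem i x.2⟩
  invFun x := ⟨qrefl (toV (lineV i)) x, qrefl_line_mem i x.2⟩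
  left_inv _ := Subtype.ext (qrefl_involutive (qip_lineV i) _)
  right_inv _ := Subtype.ext (qrefl_involutive (qip_lineV i) _)

theorem reflPerm_apply (i : Fin 315) (x : icoLeech) :
    ((reflPerm i x : icoLeech) : H3) = qrefl (toV (lineV i)) x := rfl

theorem reflPerm_mul_self (i : Fin 315) : reflPerm i * reflPerm i = 1 :=
  Equiv.ext fun _ => Subtype.ext (qrefl_involutive (qip_lineV i) _)

theorem isIcoReflection_iff {f : Equiv.Perm icoLeech} :
    IsIcoReflection f ↔ ∃ i, f = reflPerm i := by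
  constructor
  · rintro ⟨r, hr, hf⟩
    obtain ⟨U, hU, i, e⟩ := exists_line r.2 hr
    refine ⟨i, Equiv.ext fun x => Subtype.ext ?_⟩
    rw [hf x, reflPerm_apply, e, qrefl_unit (star_unit hU)]
  · rintro ⟨i, rfl⟩
    exact ⟨⟨_, lineV_mem_icoLeech i⟩, qip_lineV i, fun x => rfl⟩

theorem eq_of_qrefl_eq {i j : Fin 315}
    (h : qrefl (toV (lineV i)) (toV (lineV j)) = -toV (lineV j)) : j = i := by
  set q : ℍ[ℝ] := (1 / 4 : ℝ) • qip (toV (lineV j)) (toV (lineV i)) with hq
  have hj : ∀ t, toV (lineV j) t = q * toV (lineV i) t := fun t => by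
    have e := congrFun h t
    simp only [qrefl, Pi.neg_apply, smul_mul_assoc] at e
    rw [hq, smul_mul_assoc]
    linear_combination (norm := module) (1 / 2 : ℝ) • e
  refine line_unique ?_ hj
  have e := qip_lineV j
  rw [funext hj, qip_lmul, qip_lmul_right, qip_lineV,
    show (4 : ℍ[ℝ]) = ((4 : ℝ) : ℍ[ℝ]) by ext <;> rfl, Quaternion.coe_mul_eq_smul, mul_smul_comm,
    ← mul_one ((4 : ℝ) : ℍ[ℝ]), Quaternion.coe_mul_eq_smul] at e
  have e1 := smul_right_injective _ (show (4 : ℝ) ≠ 0 by norm_num) e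
  have hq0 : q ≠ 0 := fun h0 => by simp [h0] at e1
  exact mul_left_cancel₀ hq0 (by rw [← mul_assoc, e1, one_mul, mul_one])

theorem reflPerm_injective : Function.Injective reflPerm := by
  intro i j h
  refine (eq_of_qrefl_eq (i := i) (j := j) ?_).symm
  have e := congrArg (fun f => ((f ⟨_, lineV_mem_icoLeech j⟩ : icoLeech) : H3)) h
  simp only [reflPerm_apply] at e
  rw [e, qrefl_self (qip_lineV j)]

theorem card_reflections : {f : Equiv.Perm icoLeech | IsIcoReflection f}.ncard = 315 := by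
  rw [show {f : Equiv.Perm icoLeech | IsIcoReflection f} = Set.range reflPerm by
    ext f; simp [isIcoReflection_iff, eq_comm]]
  rw [← Nat.card_coe_set_eq, Nat.card_range_of_injective reflPerm_injective, Nat.card_fin]

/-! ### transitivity -/

theorem reflPerm_mem (i : Fin 315) : reflPerm i ∈ twoJ2 :=
  Subgroup.subset_closure (isIcoReflection_iff.2 ⟨i, rfl⟩)

theorem conj_reflPerm (k : Fin 4) (i : Fin 315) :
    reflPerm (gen k) * reflPerm i * (reflPerm (gen k))⁻¹ = reflPerm (genImg k i) := by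
  have hinv : (reflPerm (gen k))⁻¹ = reflPerm (gen k) :=
    inv_eq_of_mul_eq_one_right (reflPerm_mul_self _)
  refine Equiv.ext fun x => Subtype.ext ?_
  rw [hinv, Equiv.Perm.mul_apply, Equiv.Perm.mul_apply, reflPerm_apply, reflPerm_apply,
    reflPerm_apply, qrefl_gen_conj, reflPerm_apply]

theorem reflPerm_conj_root (j : Fin 315) : ∃ g ∈ twoJ2,
    g * reflPerm (Fin.ofNat 315 rootLine) * g⁻¹ = reflPerm j := by
  induction h : treeDepth j using Nat.strong_induction_on generalizing j with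
  | _ d ih =>
    rcases tree_check j with e | ⟨e, hlt⟩
    · refine ⟨1, one_mem _, ?_⟩
      rw [show j = Fin.ofNat 315 rootLine from eq_root e]
      simp
    · obtain ⟨g, hg, hgc⟩ := ih _ (h ▸ hlt) (treeParent j) rfl
      refine ⟨reflPerm (gen (treeGen j)) * g, mul_mem (reflPerm_mem _) hg, ?_⟩
      have hc := conj_reflPerm (treeGen j) (treeParent j)
      rw [e, ← hgc] at hc
      rw [← hc]
      group

theorem reflPerm_transitive (i j : Fin 315) : ∃ g ∈ twoJ2, g * reflPerm i * g⁻¹ = reflPerm j := by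
  obtain ⟨g, hg, hgi⟩ := reflPerm_conj_root i
  obtain ⟨g', hg', hgj⟩ := reflPerm_conj_root j
  refine ⟨g' * g⁻¹, mul_mem hg' (inv_mem hg), ?_⟩
  rw [← hgj, ← hgi]
  group

end Cfsg.Agent.Ico
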