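import Cfsg.Agent.Lib.Icosian.Lattice
import Cfsg.Agent.Lib.Icosian.Data

/-!
# The short icosians

* `unkey`, `units`, `reps`, `lines`
* `enum_pack` : the table `tabData` of the short icosians
* `mem_short` : a non-zero icosian of norm at most 4 in both embeddings is a unit times one of 51
* `InI.conj`, `InLat.lmul` : the lattice is a left module
-/

set_option autoImplicit false

namespace Cfsg.Agent.Ico

open Cfsg.Spor Quaternion

/-- The packed key of a quaternion with small coordinates. -/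
def key (X : Q) : ℕ :=
  let s : ℕ → ℤ → ℕ := fun k c => k * 32 + (c + 16).toNat
  s (s (s (s (s (s (s (s 0 X.a3) X.b3) X.a2) X.b2) X.a1) X.b1) X.a0) X.b0

/-- The quaternion of a key. -/
def unkey (N : ℕ) : Q :=
  let d : ℕ → ℤ := fun i => Int.ofNat (N / 32 ^ i % 32) - 16
  ⟨d 1, d 0, d 3, d 2, d 5, d 4, d 7, d 6⟩

theorem step_key (N : ℕ) {c : ℤ} (h : -16 ≤ c ∧ c < 16) :
    (N * 32 + (c + 16).toNat) / 32 = N ∧
      Int.ofNat ((N * 32 + (c + 16).toNat) % 32) - 16 = c := by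
  refine ⟨by omega, ?_⟩
  simp only [Int.ofNat_eq_natCast]
  omega

theorem unkey_key {X : Q} (h : (-16 ≤ X.a0 ∧ X.a0 < 16) ∧ (-16 ≤ X.b0 ∧ X.b0 < 16) ∧
    (-16 ≤ X.a1 ∧ X.a1 < 16) ∧ (-16 ≤ X.b1 ∧ X.b1 < 16) ∧ (-16 ≤ X.a2 ∧ X.a2 < 16) ∧
    (-16 ≤ X.b2 ∧ X.b2 < 16) ∧ (-16 ≤ X.a3 ∧ X.a3 < 16) ∧ (-16 ≤ X.b3 ∧ X.b3 < 16)) :
    unkey (key X) = X := by
  obtain ⟨h0, h1, h2, h3, h4, h5, h6, h7⟩ := h
  unfold unkey key
  ext <;>
    simp only [pow_zero, Nat.div_one, pow_succ', ← Nat.div_div_eq_div_mul,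
      (step_key _ h0).1, (step_key _ h1).1, (step_key _ h2).1, (step_key _ h3).1,
      (step_key _ h4).1, (step_key _ h5).1, (step_key _ h7).1,
      (step_key _ h0).2, (step_key _ h1).2, (step_key _ h2).2, (step_key _ h3).2,
      (step_key _ h4).2, (step_key _ h5).2, (step_key _ h6).2, (step_key _ h7).2]

/-- The 120 units. -/
def units : List Q := unitKeys.map unkey

/-- The 51 representatives. -/
def reps : List Q := repKeys.map unkey

/-- The 315 lines. -/
def lines : List V :=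
  List.zipWith (fun a (p : ℕ × ℕ) => ⟨unkey a, unkey p.1, unkey p.2⟩) lineKeys0
    (List.zip lineKeys1 lineKeys2)

theorem length_units : units.length = 120 := by decide +kernel

theorem length_lines : lines.length = 315 := by decide +kernel

theorem units_spec : ∀ u ∈ units, InI u ∧ u.nrm = (4, 0) := by decide +kernel

theorem units_nodup : units.Nodup := by decide +kernel

/-! ### enumeration -/

/-- The square of `a + bτ`. -/
def sq5 (p : ℤ × ℤ) : ℤ × ℤ := (p.1 * p.1 + p.2 * p.2, p.1 * p.2 + p.2 * (p.1 + p.2))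

/-- The possible coefficient pairs. -/
def vals : List (ℤ × ℤ) :=
  (((List.range 11).map fun a => Int.ofNat a - 5).flatMap fun a =>
    ((List.range 7).map fun b => ((a, Int.ofNat b - 3) : ℤ × ℤ))).filter fun p => Psd ((16, 0) - sq5 p)

theorem mem_vals {p : ℤ × ℤ} (h : Psd ((16, 0) - sq5 p)) : p ∈ vals := by
  obtain ⟨a, b⟩ := p
  obtain ⟨h1, h2⟩ := h
  simp only [sq5, Prod.fst_sub, Prod.snd_sub] at h1 h2
  have hb : -3 ≤ b ∧ b ≤ 3 := by
    constructor <;> nlinarith [sq_nonneg (2 * a + b)]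
  have ha : -5 ≤ a ∧ a ≤ 5 := by
    constructor <;> nlinarith [sq_nonneg (a + 3 * b), sq_nonneg b]
  refine List.mem_filter.2 ⟨?_, by simp only [decide_eq_true_eq]; exact ⟨h1, h2⟩⟩
  refine List.mem_flatMap.2 ⟨a, ?_, ?_⟩
  · exact List.mem_map.2 ⟨(a + 5).toNat, List.mem_range.2 (by omega), by simp; omega⟩
  · exact List.mem_map.2 ⟨(b + 3).toNat, List.mem_range.2 (by omega), by simp; omega⟩

/-- All icosians of norm at most 4 in both embeddings. -/
def enum : List Q :=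
  vals.flatMap fun p3 => vals.flatMap fun p2 =>
    if Psd ((16, 0) - sq5 p3 - sq5 p2) then
      vals.flatMap fun p1 =>
        if (p1.2 + p2.1 + p3.1 + p3.2) % 2 = 0 ∧ (p1.1 + p2.1 + p2.2 + p3.2) % 2 = 0 ∧
            Psd ((16, 0) - sq5 p3 - sq5 p2 - sq5 p1) then
          vals.flatMap fun p0 =>
            if (p0.2 + p2.1 + p2.2 + p3.1) % 2 = 0 ∧ (p0.1 + p2.2 + p3.1 + p3.2) % 2 = 0 ∧
                Psd ((16, 0) - sq5 p3 - sq5 p2 - sq5 p1 - sq5 p0) then
              [⟨p0.1, p0.2, p1.1, p1.2, p2.1, p2.2, p3.1, p3.2⟩]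
            else []
        else []
    else []

theorem nrm_eq_sum (X : Q) : X.nrm =
    sq5 (X.a3, X.b3) + sq5 (X.a2, X.b2) + sq5 (X.a1, X.b1) + sq5 (X.a0, X.b0) := by
  ext <;> simp [Q.nrm, sq5] <;> ring

theorem mem_enum {X : Q} (hX : InI X) (hn : Psd ((16, 0) - X.nrm)) : X ∈ enum := by
  obtain ⟨h1, h2, h3, h4⟩ := hX
  rw [nrm_eq_sum] at hn
  have key : ∀ {z : ℤ × ℤ} (p : ℤ × ℤ), Psd (z - sq5 p) → Psd z := fun {z} p h => by
    have := h.add (psd_sq p.1 p.2)
    rw [show z = z - sq5 p + (p.1 * p.1 + p.2 * p.2, p.1 * p.2 + p.2 * (p.1 + p.2)) by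
      rw [sq5, sub_add_cancel]]
    exact this
  simp only [sub_add_eq_sub_sub] at hn
  have k3 := key _ hn
  have k2 := key _ k3
  have k1 := key _ k2
  have m0 : Psd ((16, 0) - sq5 (X.a0, X.b0)) := by
    refine key (X.a1, X.b1) (key (X.a2, X.b2) (key (X.a3, X.b3) ?_))
    convert hn using 1; abel
  have m1 : Psd ((16, 0) - sq5 (X.a1, X.b1)) := by
    refine key (X.a2, X.b2) (key (X.a3, X.b3) ?_)
    convert k3 using 1; abel
  have m2 : Psd ((16, 0) - sq5 (X.a2, X.b2)) := by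
    refine key (X.a3, X.b3) ?_
    convert k2 using 1; abel
  unfold enum
  refine List.mem_flatMap.2 ⟨(X.a3, X.b3), mem_vals k1, List.mem_flatMap.2 ⟨(X.a2, X.b2), mem_vals m2, ?_⟩⟩
  rw [if_pos k2]
  refine List.mem_flatMap.2 ⟨(X.a1, X.b1), mem_vals m1, ?_⟩
  rw [if_pos ⟨h1, h2, k3⟩]
  refine List.mem_flatMap.2 ⟨(X.a0, X.b0), mem_vals m0, ?_⟩
  rw [if_pos ⟨h3, h4, hn⟩]
  exact List.mem_singleton_self _

theorem enum_bound {X : Q} (h : X ∈ enum) : (-16 ≤ X.a0 ∧ X.a0 < 16) ∧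
    (-16 ≤ X.b0 ∧ X.b0 < 16) ∧ (-16 ≤ X.a1 ∧ X.a1 < 16) ∧ (-16 ≤ X.b1 ∧ X.b1 < 16) ∧
    (-16 ≤ X.a2 ∧ X.a2 < 16) ∧ (-16 ≤ X.b2 ∧ X.b2 < 16) ∧ (-16 ≤ X.a3 ∧ X.a3 < 16) ∧
    (-16 ≤ X.b3 ∧ X.b3 < 16) := by
  have hb : ∀ p ∈ vals, (-16 ≤ p.1 ∧ p.1 < 16) ∧ (-16 ≤ p.2 ∧ p.2 < 16) := by decide +kernel
  unfold enum at h
  obtain ⟨p3, h3, h⟩ := List.mem_flatMap.1 h
  obtain ⟨p2, h2, h⟩ := List.mem_flatMap.1 h
  split at h
  swap; · simp at h
  obtain ⟨p1, h1, h⟩ := List.mem_flatMap.1 h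
  split at h
  swap; · simp at h
  obtain ⟨p0, h0, h⟩ := List.mem_flatMap.1 h
  split at h
  swap; · simp at h
  rw [List.mem_singleton.1 h]
  exact ⟨(hb _ h0).1, (hb _ h0).2, (hb _ h1).1, (hb _ h1).2, (hb _ h2).1, (hb _ h2).2,
    (hb _ h3).1, (hb _ h3).2⟩

/-- The four parity functionals of `I/Ih`, packed. -/
def clsH (X : Q) : ℕ :=
  (((2 * X.a2 + 2 * X.a3) % 4).toNat) + 4 * (((2 * X.b2 + 2 * X.b3) % 4).toNat) +
    16 * (((X.a0 + X.a1 + 3 * X.a2 + 3 * X.a3 + 2 * X.b3) % 4).toNat) +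
    64 * (((X.b0 + X.b1 + X.b2 + 2 * X.a3 + 3 * X.b3) % 4).toNat)

/-- The four parity functionals of `I/Ih̄`, packed. -/
def clsHc (X : Q) : ℕ :=
  (((X.a0 + 2 * X.a2 + 3 * X.b2 + 3 * X.a3 + 3 * X.b3) % 4).toNat) +
    4 * (((X.b0 + 3 * X.a2 + X.b2 + 3 * X.a3 + 2 * X.b3) % 4).toNat) +
    16 * (((X.b0 + X.b1 + 3 * X.b2 + 2 * X.a3 + 3 * X.b3) % 4).toNat) +
    64 * (((X.a1 + X.a2 + X.b2 + 2 * X.a3 + 3 * X.b3) % 4).toNat)

/-- A norm as a number. -/
def ncode (n : ℤ × ℤ) : ℕ := n.1.toNat * 32 + (n.2 + 16).toNat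

/-- The packed record of a short icosian. -/
def pack (X : Q) : ℕ := key X + 1099511627776 * (clsH X + 256 * (clsHc X + 256 * ncode X.nrm))

theorem digit_lt {c : ℤ} (h : -16 ≤ c ∧ c < 16) : (c + 16).toNat < 32 := by omega

theorem key_lt {X : Q} (h : (-16 ≤ X.a0 ∧ X.a0 < 16) ∧ (-16 ≤ X.b0 ∧ X.b0 < 16) ∧
    (-16 ≤ X.a1 ∧ X.a1 < 16) ∧ (-16 ≤ X.b1 ∧ X.b1 < 16) ∧ (-16 ≤ X.a2 ∧ X.a2 < 16) ∧
    (-16 ≤ X.b2 ∧ X.b2 < 16) ∧ (-16 ≤ X.a3 ∧ X.a3 < 16) ∧ (-16 ≤ X.b3 ∧ X.b3 < 16)) :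
    key X < 1099511627776 := by
  obtain ⟨h0, h1, h2, h3, h4, h5, h6, h7⟩ := h
  have := digit_lt h0; have := digit_lt h1; have := digit_lt h2; have := digit_lt h3
  have := digit_lt h4; have := digit_lt h5; have := digit_lt h6; have := digit_lt h7
  simp only [key]
  generalize (X.a0 + 16).toNat = d0, (X.b0 + 16).toNat = d1, (X.a1 + 16).toNat = d2,
    (X.b1 + 16).toNat = d3, (X.a2 + 16).toNat = d4, (X.b2 + 16).toNat = d5,
    (X.a3 + 16).toNat = d6, (X.b3 + 16).toNat = d7 at *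
  omega

set_option maxRecDepth 100000 in
theorem enum_pack : enum.map pack = tabData := by decide +kernel

set_option maxRecDepth 100000 in
theorem length_tabData : tabData.length = 6121 := by decide +kernel

theorem length_enum : enum.length = 6121 := by
  rw [← length_tabData, ← enum_pack, List.length_map]

theorem reps_spec : ∀ r ∈ reps, InI r ∧ r ≠ Q.zero ∧ Psd ((16, 0) - r.nrm) := by decide +kernel

theorem length_reps : reps.length = 51 := by decide +kernel

theorem reps_nodup : reps.Nodup := by decide +kernel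

/-- With `P = r' r̄` and `(a, b) = N r`: the test that `r'` is a unit times `r`. -/
def unitMultiple (r r' : Q) : Prop :=
  r'.nrm = r.nrm ∧
    let a := r.nrm.1
    let b := r.nrm.2
    let P := r'.mul2 r.conj
    let c : Q := ⟨2 * (a + b), -(2 * b), 0, 0, 0, 0, 0, 0⟩
    let X := c.mul2 P
    Q.Dvd' (a * a + a * b - b * b) X ∧ InI (X.div (a * a + a * b - b * b))

instance (r r' : Q) : Decidable (unitMultiple r r') := by unfold unitMultiple; infer_instance

theorem reps_inequivalent : ∀ r ∈ reps, ∀ r' ∈ reps, unitMultiple r r' → r' = r := by decide +kernel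

/-- Multiplicativity of the norm, as a real number. -/
theorem toH_norm_mul (X : Q) : toH X * star (toH X) =
    ((((X.nrm.1 : ℝ) + X.nrm.2 * tau) / 4 : ℝ) : ℍ[ℝ]) := toH_nrm X

theorem nrm_eq_of_star {X Y : Q} (h : toH X * star (toH X) = toH Y * star (toH Y)) :
    X.nrm = Y.nrm := by
  rw [toH_nrm, toH_nrm] at h
  have h2 := Quaternion.coe_injective h
  obtain ⟨e1, e2⟩ := int_add_tau_eq_zero (a := X.nrm.1 - Y.nrm.1) (b := X.nrm.2 - Y.nrm.2)
    (by push_cast; linarith)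
  exact Prod.ext (by omega) (by omega)

theorem unit_star {U : Q} (h : U ∈ units) : toH U * star (toH U) = 1 := by
  rw [toH_nrm, (units_spec U h).2]; norm_num

theorem star_unit {U : Q} (h : U ∈ units) : star (toH U) * toH U = 1 := by
  have h1 := unit_star h
  have ha : toH U ≠ 0 := fun e => by simp [e] at h1
  exact mul_left_cancel₀ ha (by rw [← mul_assoc, h1, one_mul, mul_one])

theorem star_unit_mem {U : Q} (h : U ∈ units) : star (toH U) ∈ icosians := by
  rw [← toH_conj]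
  refine toH_mem_icosians ?_
  have := (units_spec U h).1
  simp only [InI, Q.conj] at *
  omega

theorem reps_norm_ne : ∀ r ∈ reps, r.nrm.1 * r.nrm.1 + r.nrm.1 * r.nrm.2 - r.nrm.2 * r.nrm.2 ≠ 0 := by
  decide +kernel

theorem unit_rep_inj {u u' r r' : Q} (hu : u ∈ units) (hu' : u' ∈ units) (hr : r ∈ reps)
    (hr' : r' ∈ reps) (h : toH u * toH r = toH u' * toH r') : u = u' ∧ r = r' := by
  have hq : toH r' = star (toH u') * toH u * toH r := by
    rw [mul_assoc, h, ← mul_assoc, star_unit hu', one_mul]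
  obtain ⟨W, hW, eW⟩ := mem_icosians_iff.1
    (icosians.mul_mem (star_unit_mem hu') (toH_mem_icosians (units_spec u hu).1))
  rw [← eW] at hq
  have hWn : toH W * star (toH W) = 1 := by
    rw [eW, star_mul, star_star, mul_assoc, ← mul_assoc (toH u), unit_star hu, one_mul, star_unit hu']
  have hnrm : r'.nrm = r.nrm := nrm_eq_of_star (by
    rw [hq, star_mul, mul_assoc, ← mul_assoc (toH r), toH_nrm r, ← mul_assoc,
      ← Quaternion.coe_commutes, mul_assoc, hWn, mul_one])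
  have hrr : r' = r := reps_inequivalent r hr r' hr' ⟨hnrm, by
    simp only
    generalize ha : r.nrm.1 = a
    generalize hb : r.nrm.2 = b
    have hC : toH ⟨2 * (a + b), -(2 * b), 0, 0, 0, 0, 0, 0⟩ =
        ((((a : ℝ) + b) - b * tau : ℝ) : ℍ[ℝ]) := by
      ext <;> simp only [toH_re, toH_imI, toH_imJ, toH_imK, Quaternion.re_coe, Quaternion.imI_coe,
        Quaternion.imJ_coe, Quaternion.imK_coe] <;> push_cast <;> ring
    have key : (Q.mul2 ⟨2 * (a + b), -(2 * b), 0, 0, 0, 0, 0, 0⟩ (r'.mul2 r.conj)) =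
        W.smul (a * a + a * b - b * b) := toH_injective (by
      rw [toH_mul2, toH_mul2, toH_conj, toH_smul, hq, mul_assoc, toH_nrm, ha, hb, hC,
        Quaternion.mul_coe_eq_smul, Quaternion.coe_mul_eq_smul]
      simp only [smul_smul]
      congr 1
      push_cast
      linear_combination (-((b : ℝ) * b)) * tau_sq)
    have hN : a * a + a * b - b * b ≠ 0 := by
      rw [← ha, ← hb]
      exact reps_norm_ne r hr
    rw [key]
    exact ⟨dvd_smul _ W, by rw [div_smul hN]; exact hW⟩⟩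
  refine ⟨?_, hrr.symm⟩
  rw [hrr] at h
  have hr0 : toH r ≠ 0 := fun e => (reps_spec r hr).2.1 (toH_injective (by rw [e, toH_zero]))
  exact toH_injective (mul_right_cancel₀ hr0 h)

theorem surj_of_count {A B C : Type*} [DecidableEq A] [DecidableEq B] [DecidableEq C]
    (l₁ : List A) (l₂ : List B) (T : List C) (z : C) (R : A → B → C → Prop) (h1 : l₁.Nodup)
    (h2 : l₂.Nodup) (hz : z ∈ T) (hlen : T.length ≤ l₁.length * l₂.length + 1)
    (hex : ∀ a ∈ l₁, ∀ b ∈ l₂, ∃ c ∈ T, c ≠ z ∧ R a b c)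
    (hinj : ∀ a ∈ l₁, ∀ b ∈ l₂, ∀ a' ∈ l₁, ∀ b' ∈ l₂, ∀ c, R a b c → R a' b' c → a = a' ∧ b = b')
    {x : C} (hx : x ∈ T) (hxz : x ≠ z) : ∃ a ∈ l₁, ∃ b ∈ l₂, R a b x := by
  choose f hf1 hf2 hf3 using hex
  set P := (l₁.toFinset ×ˢ l₂.toFinset).attach.image fun p =>
    f p.1.1 (List.mem_toFinset.1 (Finset.mem_product.1 p.2).1) p.1.2
      (List.mem_toFinset.1 (Finset.mem_product.1 p.2).2) with hP
  have hsub : P ⊆ T.toFinset.erase z := by
    intro c hc
    obtain ⟨p, -, rfl⟩ := Finset.mem_image.1 hc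
    exact Finset.mem_erase.2 ⟨hf2 _ _ _ _, List.mem_toFinset.2 (hf1 _ _ _ _)⟩
  have hcard : P.card = l₁.length * l₂.length := by
    rw [hP, Finset.card_image_of_injective]
    · rw [Finset.card_attach, Finset.card_product, List.toFinset_card_of_nodup h1,
        List.toFinset_card_of_nodup h2]
    · intro p q h
      simp only at h
      obtain ⟨e1, e2⟩ := hinj _ (List.mem_toFinset.1 (Finset.mem_product.1 p.2).1)
        _ (List.mem_toFinset.1 (Finset.mem_product.1 p.2).2)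
        _ (List.mem_toFinset.1 (Finset.mem_product.1 q.2).1)
        _ (List.mem_toFinset.1 (Finset.mem_product.1 q.2).2) _
        (hf3 _ _ _ _) (by rw [h]; exact hf3 _ _ _ _)
      exact Subtype.ext (Prod.ext e1 e2)
  have hle : (T.toFinset.erase z).card ≤ l₁.length * l₂.length := by
    rw [Finset.card_erase_of_mem (List.mem_toFinset.2 hz)]
    have := List.toFinset_card_le T
    omega
  have hxP : x ∈ P := by
    rw [Finset.eq_of_subset_of_card_le hsub (by rw [hcard]; exact hle)]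
    exact Finset.mem_erase.2 ⟨hxz, List.mem_toFinset.2 hx⟩
  obtain ⟨p, -, rfl⟩ := Finset.mem_image.1 hxP
  exact ⟨_, List.mem_toFinset.1 (Finset.mem_product.1 p.2).1, _,
    List.mem_toFinset.1 (Finset.mem_product.1 p.2).2, hf3 _ _ _ _⟩

theorem length_bound : enum.length ≤ units.length * reps.length + 1 := by
  rw [length_enum, length_units, length_reps]

theorem mem_short {X : Q} (hX : InI X) (hn : Psd ((16, 0) - X.nrm)) (h0 : X ≠ Q.zero) :
    ∃ u ∈ units, ∃ r ∈ reps, toH u * toH r = toH X := by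
  refine surj_of_count units reps enum Q.zero (fun u r P => toH u * toH r = toH P) units_nodup
    reps_nodup (mem_enum (by decide) (by decide)) length_bound ?_ ?_ (mem_enum hX hn) h0
  · intro u hu r hr
    obtain ⟨P, hP, eP⟩ := mem_icosians_iff.1 (icosians.mul_mem
      (toH_mem_icosians (units_spec _ hu).1) (toH_mem_icosians (reps_spec _ hr).1))
    have hnP : P.nrm = r.nrm := nrm_eq_of_star (by
      rw [eP, star_mul, mul_assoc, ← mul_assoc (toH r), toH_nrm r, ← mul_assoc,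
        ← Quaternion.coe_commutes, mul_assoc, unit_star hu, mul_one])
    refine ⟨P, mem_enum hP (by rw [hnP]; exact (reps_spec _ hr).2.2), fun e => ?_, eP.symm⟩
    rw [e, toH_zero, zero_eq_mul] at eP
    rcases eP with e' | e'
    · have := unit_star hu; simp [e'] at this
    · exact (reps_spec _ hr).2.1 (toH_injective (by rw [e', toH_zero]))
  · intro u hu r hr u' hu' r' hr' c h h'
    exact unit_rep_inj hu hu' hr hr' (h.trans h'.symm)

end Cfsg.Agent.Ico
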