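import Cfsg.Agent.Lib.Icosian.Refl

/-!
# The elements of the reflection group

* `twoJ2_le_gens`, `twoJ2_induction` : four reflections generate
* `IsUnit3`, `isUnit3_of_mem` : elements are additive, linear over the icosians and isometric
* `negPerm`, `negPerm_apply`
* `eq_one_or_neg` : an element commuting with six reflections is `±1`
* `lineImg`, `lineHom` : the action on the 315 lines
-/

set_option autoImplicit false

namespace Cfsg.Agent.Ico

open Cfsg.Spor Quaternion

/-- The subgroup generated by the four reflections. -/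
def gensGroup : Subgroup (Equiv.Perm icoLeech) :=
  Subgroup.closure (Set.range fun k : Fin 4 => reflPerm (gen k))

theorem reflPerm_inv (i : Fin 315) : (reflPerm i)⁻¹ = reflPerm i :=
  inv_eq_of_mul_eq_one_right (reflPerm_mul_self _)

theorem reflPerm_genImg_mem {k : Fin 4} {i : Fin 315} (h : reflPerm i ∈ gensGroup) :
    reflPerm (genImg k i) ∈ gensGroup := by
  have hk : reflPerm (gen k) ∈ gensGroup := Subgroup.subset_closure ⟨k, rfl⟩
  rw [← conj_reflPerm]
  exact mul_mem (mul_mem hk h) (inv_mem hk)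

theorem root_path :
    genImg 3 (genImg 1 (genImg 2 (genImg 1 (genImg 3 (gen 0))))) = root := by decide +kernel

theorem reflPerm_mem_gens (i : Fin 315) : reflPerm i ∈ gensGroup := by
  induction h : treeDepth i using Nat.strong_induction_on generalizing i with
  | _ d ih =>
    rcases tree_check i with e | ⟨e, hlt⟩
    · rw [eq_root e, ← root_path]
      iterate 5 refine reflPerm_genImg_mem ?_
      exact Subgroup.subset_closure ⟨0, rfl⟩
    · rw [← e]
      exact reflPerm_genImg_mem (ih _ (h ▸ hlt) _ rfl)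

theorem twoJ2_eq_gens : twoJ2 = gensGroup := by
  refine le_antisymm ((Subgroup.closure_le _).2 ?_) ((Subgroup.closure_le _).2 ?_)
  · intro f hf
    obtain ⟨i, rfl⟩ := isIcoReflection_iff.1 hf
    exact reflPerm_mem_gens i
  · rintro _ ⟨k, rfl⟩
    exact reflPerm_mem _

/-- Induction by left multiplication with the four reflections. -/
theorem twoJ2_induction {P : Equiv.Perm icoLeech → Prop} (h1 : P 1)
    (hmul : ∀ (k : Fin 4) g, P g → P (reflPerm (gen k) * g)) {g : Equiv.Perm icoLeech}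
    (hg : g ∈ twoJ2) : P g := by
  rw [twoJ2_eq_gens] at hg
  induction hg using Subgroup.closure_induction_left with
  | one => exact h1
  | mul_left x hx y _ ih =>
    obtain ⟨k, rfl⟩ := hx
    exact hmul k y ih
  | inv_mul_cancel x hx y _ ih =>
    obtain ⟨k, rfl⟩ := hx
    simp only [reflPerm_inv]
    exact hmul k y ih

/-! ### linearity -/

/-- Additive, linear over the icosians, isometric. -/
structure IsUnit3 (g : Equiv.Perm icoLeech) : Prop where
  add : ∀ x y z : icoLeech, (z : H3) = x + y → (g z : H3) = g x + g y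
  lmul : ∀ (x y : icoLeech) (u : ℍ[ℝ]), u ∈ icosians → (y : H3) = (fun t => u * (x : H3) t) →
    (g y : H3) = fun t => u * (g x : H3) t
  iso : ∀ x y : icoLeech, qip (g x : H3) (g y : H3) = qip (x : H3) y

theorem isUnit3_of_mem {g : Equiv.Perm icoLeech} (hg : g ∈ twoJ2) : IsUnit3 g := by
  refine twoJ2_induction (P := IsUnit3) ⟨fun x y z e => e, fun x y u _ e => e, fun x y => rfl⟩
    (fun k f hf => ⟨fun x y z e => ?_, fun x y u hu e => ?_, fun x y => ?_⟩) hg
  · simp only [Equiv.Perm.mul_apply, reflPerm_apply, hf.add x y z e, qrefl_add]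
  · simp only [Equiv.Perm.mul_apply, reflPerm_apply, hf.lmul x y u hu e, qrefl_lmul]
  · simp only [Equiv.Perm.mul_apply, reflPerm_apply, qip_qrefl (qip_lineV _), hf.iso]

theorem icoLeech_zero : (0 : H3) ∈ icoLeech := toV_zero ▸ toV_mem (by decide : InLat V.zero)

theorem neg_mem_icoLeech {x : H3} (hx : x ∈ icoLeech) : -x ∈ icoLeech := by
  simpa using module_induction.sub_mem_icoLeech icoLeech_zero hx

/-- The negative of a lattice vector. -/
def negV (x : icoLeech) : icoLeech := ⟨-(x : H3), neg_mem_icoLeech x.2⟩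

theorem IsUnit3.map_neg {g : Equiv.Perm icoLeech} (hg : IsUnit3 g) (x : icoLeech) :
    (g (negV x) : H3) = -(g x : H3) := by
  have h0 := hg.add ⟨0, icoLeech_zero⟩ ⟨0, icoLeech_zero⟩ ⟨0, icoLeech_zero⟩ (by simp)
  have h0' : (g ⟨0, icoLeech_zero⟩ : H3) = 0 := add_eq_left.mp h0.symm
  have h := hg.add x (negV x) ⟨0, icoLeech_zero⟩ (by simp [negV])
  rw [h0'] at h
  exact eq_neg_of_add_eq_zero_right h.symm

/-! ### minus one -/

/-- The vector twice a unit vector. -/
noncomputable def twoE (t : Fin 3) : H3 := Pi.single t 2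

/-- The lines of the three coordinate axes. -/
def axisLine : Fin 3 → Fin 315 := ![304, 313, 314]

theorem toH_four : toH ⟨4, 0, 0, 0, 0, 0, 0, 0⟩ = (2 : ℍ[ℝ]) := by
  rw [show (2 : ℍ[ℝ]) = ((2 : ℝ) : ℍ[ℝ]) by ext <;> rfl]
  ext <;> simp [toH_re, toH_imI, toH_imJ, toH_imK]
  norm_num

theorem lineV_axis : lineV 304 = ⟨⟨4, 0, 0, 0, 0, 0, 0, 0⟩, Q.zero, Q.zero⟩ ∧
    lineV 313 = ⟨Q.zero, ⟨4, 0, 0, 0, 0, 0, 0, 0⟩, Q.zero⟩ ∧
    lineV 314 = ⟨Q.zero, Q.zero, ⟨4, 0, 0, 0, 0, 0, 0, 0⟩⟩ := by decide +kernel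

theorem toV_axis (t : Fin 3) : toV (lineV (axisLine t)) = twoE t := by
  obtain ⟨h0, h1, h2⟩ := lineV_axis
  fin_cases t <;> funext s <;> fin_cases s <;>
    simp [axisLine, h0, h1, h2, toV, twoE, toH_four]

theorem qrefl_twoE (t : Fin 3) (x : H3) : qrefl (twoE t) x = Function.update x t (-x t) := by
  have e2 : (2 : ℍ[ℝ]) = ((2 : ℝ) : ℍ[ℝ]) := by ext <;> rfl
  have hq : qip x (twoE t) = (2 : ℝ) • x t := by
    rw [qip, Finset.sum_eq_single t]
    · rw [twoE, Pi.single_eq_same, e2, Quaternion.star_coe, Quaternion.mul_coe_eq_smul]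
    · intro s _ hs; simp [twoE, Pi.single_eq_of_ne hs]
    · simp
  funext s
  rcases eq_or_ne s t with rfl | hs
  · rw [qrefl, hq]
    simp only [twoE, Pi.single_eq_same, Function.update_self, e2,
      Quaternion.mul_coe_eq_smul]
    module
  · simp [qrefl, twoE, Pi.single_eq_of_ne hs, Function.update_of_ne hs]

/-- Minus one. -/
noncomputable def negPerm : Equiv.Perm icoLeech := reflPerm 304 * reflPerm 313 * reflPerm 314

theorem negPerm_mem : negPerm ∈ twoJ2 :=
  mul_mem (mul_mem (reflPerm_mem _) (reflPerm_mem _)) (reflPerm_mem _)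

theorem negPerm_apply (x : icoLeech) : (negPerm x : H3) = -(x : H3) := by
  have e : ∀ t, qrefl (toV (lineV (axisLine t))) = fun y : H3 => Function.update y t (-y t) :=
    fun t => funext fun y => by rw [toV_axis, qrefl_twoE]
  have e0 := e 0
  have e1 := e 1
  have e2 := e 2
  simp only [axisLine, Matrix.cons_val_zero, Matrix.cons_val_one, Matrix.cons_val] at e0 e1 e2
  simp only [negPerm, Equiv.Perm.mul_apply, reflPerm_apply, e0, e1, e2]
  funext t
  fin_cases t <;> simp [Function.update]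

theorem negPerm_ne_one : negPerm ≠ 1 := fun h => by
  have e := congrArg (fun f : Equiv.Perm icoLeech => (f ⟨_, lineV_mem_icoLeech 304⟩ : H3)) h
  simp only [negPerm_apply, Equiv.Perm.one_apply] at e
  have hx := congrFun e 0
  rw [show (304 : Fin 315) = axisLine 0 from rfl, Pi.neg_apply, toV_axis, twoE, Pi.single_eq_same,
    show (2 : ℍ[ℝ]) = ((2 : ℝ) : ℍ[ℝ]) by ext <;> rfl] at hx
  have := congrArg QuaternionAlgebra.re hx
  norm_num at this

theorem negPerm_comm {g : Equiv.Perm icoLeech} (hg : g ∈ twoJ2) : g * negPerm = negPerm * g := by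
  refine Equiv.ext fun x => Subtype.ext ?_
  rw [Equiv.Perm.mul_apply, Equiv.Perm.mul_apply, negPerm_apply,
    show negPerm x = negV x from Subtype.ext (negPerm_apply x), (isUnit3_of_mem hg).map_neg]

/-! ### the kernel of the action on lines -/

theorem eq_smul_of_qrefl {r y : H3} (h : qrefl r y = -y) :
    ∀ t, y t = ((1 / 4 : ℝ) • qip y r) * r t := fun t => by
  have e := congrFun h t
  simp only [qrefl, Pi.neg_apply, smul_mul_assoc] at e
  rw [smul_mul_assoc]
  linear_combination (norm := module) (1 / 2 : ℝ) • e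

theorem image_line {g : Equiv.Perm icoLeech} (hg : IsUnit3 g) {i : Fin 315}
    (h : g * reflPerm i * g⁻¹ = reflPerm i) :
    ∃ q : ℍ[ℝ], ∀ t, (g ⟨_, lineV_mem_icoLeech i⟩ : H3) t = q * toV (lineV i) t := by
  refine ⟨_, eq_smul_of_qrefl (r := toV (lineV i)) ?_⟩
  have hr : reflPerm i ⟨_, lineV_mem_icoLeech i⟩ = negV ⟨_, lineV_mem_icoLeech i⟩ :=
    Subtype.ext (qrefl_self (qip_lineV i))
  rw [← reflPerm_apply, ← hg.map_neg, ← hr, ← Equiv.Perm.mul_apply, ← Equiv.Perm.mul_apply]
  rw [mul_inv_eq_iff_eq_mul.1 h]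

theorem mixed_lines : (lineV 1).x = Q.one ∧ (lineV 1).z = QI ∧
    (lineV 3).x = Q.one ∧ (lineV 3).z = ⟨0, 0, 0, 0, 2, 0, 0, 0⟩ ∧
    (lineV 7).x = Q.one ∧ (lineV 7).z = Q.one ∧ (lineV 7).y ≠ Q.zero := by decide +kernel

/-- The six lines deciding an element up to sign. -/
def detLines : List (Fin 315) := [304, 313, 314, 1, 3, 7]

theorem eq_one_or_neg {g : Equiv.Perm icoLeech} (hg : g ∈ twoJ2)
    (h : ∀ i ∈ detLines, g * reflPerm i * g⁻¹ = reflPerm i) : g = 1 ∨ g = negPerm := by
  have hu := isUnit3_of_mem hg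
  have haxis : ∀ t, ∃ q : ℍ[ℝ], ∀ s, (g ⟨_, lineV_mem_icoLeech (axisLine t)⟩ : H3) s =
      q * twoE t s := fun t => by
    obtain ⟨q, hq⟩ := image_line hu (h (axisLine t) (by fin_cases t <;> simp [axisLine, detLines]))
    exact ⟨q, fun s => by rw [hq s, toV_axis]⟩
  choose q hq using haxis
  have e2 : (2 : ℍ[ℝ]) = ((2 : ℝ) : ℍ[ℝ]) := by ext <;> rfl
  -- coordinatewise right multiplication
  have hdiag : ∀ (x : icoLeech) t, (g x : H3) t = (x : H3) t * q t := by
    intro x t
    have hI : ∀ s, (x : H3) s ∈ icosians := x.2.1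
    let a : Fin 3 → icoLeech := fun s =>
      ⟨fun t => (x : H3) s * toV (lineV (axisLine s)) t, icoLeech_lmul (hI s) (lineV_mem_icoLeech _)⟩
    have ga : ∀ s t, (g (a s) : H3) t = (x : H3) s * (q s * twoE s t) := fun s t => by
      rw [hu.lmul ⟨_, lineV_mem_icoLeech (axisLine s)⟩ (a s) _ (hI s) rfl]
      show (x : H3) s * _ = _
      rw [hq s t]
    let b : icoLeech := ⟨(a 0 : H3) + a 1, add_mem_icoLeech (a 0).2 (a 1).2⟩
    let z : icoLeech := ⟨(x : H3) + x, add_mem_icoLeech x.2 x.2⟩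
    have hz : (z : H3) = b + a 2 := by
      funext t
      show (x : H3) t + (x : H3) t = (x : H3) 0 * toV (lineV (axisLine 0)) t +
        (x : H3) 1 * toV (lineV (axisLine 1)) t + (x : H3) 2 * toV (lineV (axisLine 2)) t
      simp only [toV_axis]
      fin_cases t <;> simp [twoE, mul_two]
    have e := congrFun ((hu.add x x z rfl).symm.trans ((hu.add b (a 2) z hz).trans
      (congrArg (· + (g (a 2) : H3)) (hu.add (a 0) (a 1) b rfl)))) t
    simp only [Pi.add_apply, ga] at e
    apply smul_right_injective _ (two_ne_zero (α := ℝ))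
    simp only [two_smul ℝ]
    rw [e]
    fin_cases t <;> simp [twoE, e2, Quaternion.mul_coe_eq_smul, two_smul ℝ, mul_add]
  -- one scalar
  have hrel : ∀ i ∈ detLines, (lineV i).x = Q.one → toH (lineV i).y * q 1 = q 0 * toH (lineV i).y ∧
      toH (lineV i).z * q 2 = q 0 * toH (lineV i).z := by
    intro i hi hx
    obtain ⟨p, hp⟩ := image_line hu (h i hi)
    simp only [hdiag] at hp
    have h0 := hp 0
    have hx' : toV (lineV i) 0 = 1 := by show toH (lineV i).x = 1; rw [hx, toH_one]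
    rw [hx', one_mul, mul_one] at h0
    subst h0
    exact ⟨hp 1, hp 2⟩
  obtain ⟨l1, l1', l3, l3', l7, l7', l7''⟩ := mixed_lines
  obtain ⟨-, h1⟩ := hrel 1 (by simp [detLines]) l1
  obtain ⟨-, h3⟩ := hrel 3 (by simp [detLines]) l3
  obtain ⟨h7y, h7⟩ := hrel 7 (by simp [detLines]) l7
  rw [l7', toH_one, one_mul, mul_one] at h7
  rw [l1', h7, toH_QI] at h1
  rw [l3', h7] at h3
  set J : ℍ[ℝ] := toH ⟨0, 0, 0, 0, 2, 0, 0, 0⟩ with hJ
  have i1 := congrArg QuaternionAlgebra.imJ h1
  have i2 := congrArg QuaternionAlgebra.imK h1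
  have i3 := congrArg QuaternionAlgebra.imK h3
  rw [Quaternion.imJ_mul, Quaternion.imJ_mul] at i1
  rw [Quaternion.imK_mul, Quaternion.imK_mul] at i2 i3
  simp [qI, hJ, toH_re, toH_imI, toH_imJ, toH_imK] at i1 i2 i3
  obtain ⟨w, hw⟩ : ∃ w : ℝ, q 0 = (w : ℍ[ℝ]) :=
    ⟨(q 0).re, by ext <;> simp <;> linarith⟩
  have hq1 : q 1 = q 0 := by
    have hy : toH (lineV 7).y ≠ 0 := fun e => l7'' (toH_injective (e.trans toH_zero.symm))
    refine mul_left_cancel₀ hy ?_
    rw [h7y, hw, Quaternion.coe_commutes]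
  have hall : ∀ t, q t = (w : ℍ[ℝ]) := fun t => by
    fin_cases t
    exacts [hw, hq1.trans hw, h7.trans hw]
  have hw2 : w * w = 1 := by
    have e := hu.iso ⟨_, lineV_mem_icoLeech 304⟩ ⟨_, lineV_mem_icoLeech 304⟩
    have eq0 : (g ⟨_, lineV_mem_icoLeech 304⟩ : H3) = fun t => (w : ℍ[ℝ]) * toV (lineV 304) t :=
      funext fun t => by rw [hdiag, hall, Quaternion.coe_commutes]
    rw [eq0, qip_lmul, qip_lmul_right] at e
    simp only [qip_lineV, show (4 : ℍ[ℝ]) = ((4 : ℝ) : ℍ[ℝ]) by ext <;> rfl, Quaternion.star_coe,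
      ← Quaternion.coe_mul] at e
    have := Quaternion.coe_injective e
    linarith
  rcases mul_self_eq_one_iff.1 hw2 with rfl | rfl
  · left
    refine Equiv.ext fun x => Subtype.ext (funext fun t => ?_)
    rw [hdiag, hall]
    simp
  · right
    refine Equiv.ext fun x => Subtype.ext (funext fun t => ?_)
    rw [hdiag, hall, negPerm_apply]
    simp [Quaternion.mul_coe_eq_smul]

/-! ### the action on lines -/

theorem exists_lineImg {g : Equiv.Perm icoLeech} (hg : g ∈ twoJ2) :
    ∀ i, ∃ j, g * reflPerm i * g⁻¹ = reflPerm j := by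
  refine twoJ2_induction (P := fun g => ∀ i, ∃ j, g * reflPerm i * g⁻¹ = reflPerm j)
    (fun i => ⟨i, by simp⟩) (fun k f hf i => ?_) hg
  obtain ⟨j, hj⟩ := hf i
  refine ⟨genImg k j, ?_⟩
  rw [← conj_reflPerm, ← hj]
  group

/-- The image of a line. -/
noncomputable def lineImg (g : twoJ2) (i : Fin 315) : Fin 315 := (exists_lineImg g.2 i).choose

theorem lineImg_spec (g : twoJ2) (i : Fin 315) :
    (g : Equiv.Perm icoLeech) * reflPerm i * (g : Equiv.Perm icoLeech)⁻¹ = reflPerm (lineImg g i) :=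
  (exists_lineImg g.2 i).choose_spec

theorem lineImg_eq {g : twoJ2} {i j : Fin 315}
    (h : (g : Equiv.Perm icoLeech) * reflPerm i * (g : Equiv.Perm icoLeech)⁻¹ = reflPerm j) :
    lineImg g i = j := reflPerm_injective ((lineImg_spec g i).symm.trans h)

theorem lineImg_mul (g h : twoJ2) (i : Fin 315) : lineImg (g * h) i = lineImg g (lineImg h i) :=
  lineImg_eq (by rw [← lineImg_spec g, ← lineImg_spec h, Subgroup.coe_mul]; group)

theorem lineImg_one (i : Fin 315) : lineImg 1 i = i := lineImg_eq (by simp)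

/-- The action on the lines. -/
noncomputable def lineHom : twoJ2 →* Equiv.Perm (Fin 315) where
  toFun g := ⟨lineImg g, lineImg g⁻¹,
    fun i => by rw [← lineImg_mul, inv_mul_cancel, lineImg_one],
    fun i => by rw [← lineImg_mul, mul_inv_cancel, lineImg_one]⟩
  map_one' := Equiv.ext lineImg_one
  map_mul' g h := Equiv.ext (lineImg_mul g h)

theorem lineHom_apply (g : twoJ2) (i : Fin 315) : lineHom g i = lineImg g i := rfl

/-- Minus one in the group. -/
noncomputable def negEl : twoJ2 := ⟨negPerm, negPerm_mem⟩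

theorem eq_one_or_negEl {g : twoJ2} (h : ∀ i ∈ detLines, lineHom g i = i) : g = 1 ∨ g = negEl :=
  (eq_one_or_neg g.2 fun i hi => by rw [lineImg_spec, ← lineHom_apply, h i hi]).imp
    (fun e => Subtype.ext e) (fun e => Subtype.ext e)

theorem negEl_mem_center : negEl ∈ Subgroup.center twoJ2 :=
  Subgroup.mem_center_iff.2 fun g => Subtype.ext (negPerm_comm g.2)

theorem ker_lineHom : lineHom.ker = Subgroup.center twoJ2 := by
  ext g
  constructor
  · intro hg
    rcases eq_one_or_negEl (g := g) fun i _ => by rw [MonoidHom.mem_ker.1 hg, Equiv.Perm.one_apply]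
      with rfl | rfl
    · exact one_mem _
    · exact negEl_mem_center
  · intro hg
    refine Equiv.ext fun i => lineImg_eq ?_
    have e := Subgroup.mem_center_iff.1 hg ⟨reflPerm i, reflPerm_mem i⟩
    have e' := congrArg Subtype.val e
    simp only [Subgroup.coe_mul] at e'
    rw [← e', mul_inv_cancel_right, Equiv.Perm.one_apply]

end Cfsg.Agent.Ico
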